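import Cfsg.Agent.H528.EP.UB3_m3
import Cfsg.Agent.GenOrth.Normal
import Cfsg.Agent.H762.Ppd.PsuAux_m3
import Cfsg.Agent.FastGrp
import Cfsg.Agent.Prune
set_option linter.all false

section
prune_inst 0x7fffbdfffffbffffffff7e7ff6fbedfc3b939fffe6ffff4bffec75ffbfdf371e1de5f3ad9df070fe1fb7c23c10a97843fbfffeffea6ffc7ffffdfff45ffbee5ff7ffbd0c719facb41ffe6ffffbf07f8e7f3fffffffffffffffffffffffffffbeffbfffffffff

-- part: H982/EP/Trans
section
prune_inst 0x18000040001c4282000000000b00000000000004800c0020050620b020000000000c5420380040000000000018000000000800411800800000000000000000000000000000000000000000000000000000000000000000000000000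
set_option linter.all false
open scoped Cfsg.Agent.FastGrp

/-!
# S3499: transport of the orthogonal residual class along a linear similarity (helper982)
-/

set_option autoImplicit false

namespace Cfsg.Agent.H982.EP

open Subgroup Cfsg Cfsg.Geo Cfsg.Agent.H419.EP Cfsg.Agent.H284
open scoped MatrixGroups Matrix

variable {ι κ : Type} [Fintype ι] [DecidableEq ι] [Fintype κ] [DecidableEq κ] {F : Type*} [Field F]

/-- conjugation of matrices by a linear equivalence -/
noncomputable def matT (j : (ι → F) ≃ₗ[F] (κ → F)) : Matrix ι ι F ≃ₐ[F] Matrix κ κ F :=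
  (Matrix.toLinAlgEquiv').trans ((j.conjAlgEquiv F).trans LinearMap.toMatrixAlgEquiv')

theorem matT_mulVec (j : (ι → F) ≃ₗ[F] (κ → F)) (M : Matrix ι ι F) (v : ι → F) :
    (matT j M) *ᵥ (j v) = j (M *ᵥ v) := by
  have h : matT j M = LinearMap.toMatrixAlgEquiv' (j.conjAlgEquiv F (Matrix.toLinAlgEquiv' M)) := rfl
  rw [h, ← Matrix.toLinAlgEquiv'_apply, Matrix.toLinAlgEquiv'_toMatrixAlgEquiv', LinearEquiv.conjAlgEquiv_apply_apply,
    j.symm_apply_apply, Matrix.toLinAlgEquiv'_apply]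

/-- conjugation of invertible matrices by a linear equivalence -/
noncomputable def glT (j : (ι → F) ≃ₗ[F] (κ → F)) : GL ι F ≃* GL κ F :=
  Units.mapEquiv (matT j).toMulEquiv

theorem coe_glT (j : (ι → F) ≃ₗ[F] (κ → F)) (g : GL ι F) :
    ((glT j g : GL κ F) : Matrix κ κ F) = matT j (g : Matrix ι ι F) := rfl

theorem glT_mulVec (j : (ι → F) ≃ₗ[F] (κ → F)) (g : GL ι F) (v : ι → F) :
    ((glT j g : GL κ F) : Matrix κ κ F) *ᵥ (j v) = j ((g : Matrix ι ι F) *ᵥ v) := matT_mulVec j _ v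

theorem glT_mulVec' (j : (ι → F) ≃ₗ[F] (κ → F)) (g : GL ι F) (v : κ → F) :
    ((glT j g : GL κ F) : Matrix κ κ F) *ᵥ v = j ((g : Matrix ι ι F) *ᵥ (j.symm v)) := by
  rw [← glT_mulVec, j.apply_symm_apply]

theorem glT_scalar (j : (ι → F) ≃ₗ[F] (κ → F)) (g : GL ι F) :
    glT j g ∈ scalars κ F ↔ g ∈ scalars ι F := by
  rw [mem_scalars_iff, mem_scalars_iff]
  apply exists_congr
  intro c
  rw [coe_glT]
  constructor
  · intro h
    apply (matT j).injective
    rw [h, map_smul, map_one]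
  · intro h
    rw [h, map_smul, map_one]

theorem mem_map_glT (j : (ι → F) ≃ₗ[F] (κ → F)) (P : Subgroup (GL ι F)) (g : GL ι F) :
    glT j g ∈ P.map (glT j).toMonoidHom ↔ g ∈ P := by
  constructor
  · rintro ⟨x, hx, e⟩
    have : x = g := (glT j).injective e
    exact this ▸ hx
  · intro h
    exact ⟨g, h, rfl⟩

theorem matrixSet_map {j : (ι → F) ≃ₗ[F] (κ → F)} {P : Subgroup (GL ι F)} {t : Matrix ι ι F}
    (ht : t ∈ matrixSet P) : matT j t ∈ matrixSet (P.map (glT j).toMonoidHom) := by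
  obtain ⟨x, hx, rfl⟩ := ht
  exact ⟨_, ⟨x, hx, rfl⟩, rfl⟩

theorem absIrred_map (j : (ι → F) ≃ₗ[F] (κ → F)) {P : Subgroup (GL ι F)} (h : ActsAbsolutelyIrreducibly (matrixSet P)) :
    ActsAbsolutelyIrreducibly (matrixSet (P.map (glT j).toMonoidHom)) := by
  constructor
  · intro W hW
    have h1 := h.1 (W.comap j.toLinearMap) (fun s hs => by
      rintro _ ⟨v, hv, rfl⟩
      have h2 := hW _ (matrixSet_map (j := j) hs) ⟨j v, hv, rfl⟩
      rw [Matrix.toLin'_apply, matT_mulVec] at h2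
      exact h2)
    rcases h1 with h1 | h1
    · left
      rw [Submodule.eq_bot_iff] at h1 ⊢
      intro w hw
      have h3 := h1 (j.symm w) (by
        show j (j.symm w) ∈ W
        rw [j.apply_symm_apply]
        exact hw)
      rw [← j.apply_symm_apply w, h3, map_zero]
    · right
      rw [Submodule.eq_top_iff'] at h1 ⊢
      intro w
      have h3 := h1 (j.symm w)
      have h4 : j (j.symm w) ∈ W := h3
      rwa [j.apply_symm_apply] at h4
  · intro M hM
    obtain ⟨M', rfl⟩ := (matT j).surjective M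
    obtain ⟨c, hc⟩ := h.2 M' (fun s hs => by
      apply (matT j).injective
      rw [map_mul, map_mul]
      exact hM _ (matrixSet_map hs))
    exact ⟨c, by rw [hc, map_smul, map_one]⟩

/-- the reindexing as a linear equivalence -/
noncomputable def reLin (F : Type*) [Field F] (e : ι ≃ κ) : (ι → F) ≃ₗ[F] (κ → F) := LinearEquiv.funCongrLeft F F e.symm

theorem matT_reLin (e : ι ≃ κ) (M : Matrix ι ι F) (a b : κ) : matT (reLin F e) M a b = M (e.symm a) (e.symm b) := by
  have h := congrFun (matT_mulVec (reLin F e) M (Pi.single (e.symm b) 1)) a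
  have h1 : (reLin F e) (Pi.single (e.symm b) (1 : F)) = Pi.single b 1 := by
    ext x
    simp only [reLin, LinearEquiv.funCongrLeft_apply, LinearMap.funLeft_apply]
    rcases eq_or_ne x b with rfl | hx
    · simp
    · rw [Pi.single_eq_of_ne hx, Pi.single_eq_of_ne]
      exact fun h => hx (e.symm.injective h)
  rw [h1] at h
  simp only [reLin, LinearEquiv.funCongrLeft_apply, LinearMap.funLeft_apply] at h
  rw [Matrix.mulVec_single_one, Matrix.mulVec_single_one] at h
  exact h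

theorem coe_glT_reLin (e : ι ≃ κ) (g : GL ι F) (a b : κ) :
    ((glT (reLin F e) g : GL κ F) : Matrix κ κ F) a b = (g : Matrix ι ι F) (e.symm a) (e.symm b) := matT_reLin e _ a b

theorem ext_mulVec {M N : Matrix ι ι F} (h : ∀ v, M *ᵥ v = N *ᵥ v) : M = N := by
  ext a b
  have := congrFun (h (Pi.single b 1)) a
  rwa [Matrix.mulVec_single_one, Matrix.mulVec_single_one] at this

theorem subfield_map (j : (ι → F) ≃ₗ[F] (κ → F)) {P : Subgroup (GL ι F)} (F₀ : Subfield F)
    (h : RealisableOver F₀ (matrixSet (P.map (glT j).toMonoidHom))) : RealisableOver F₀ (matrixSet P) := by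
  obtain ⟨B, hB⟩ := h
  have hc : Fintype.card ι = Fintype.card κ := by
    have := LinearEquiv.finrank_eq j
    rwa [Module.finrank_fintype_fun_eq_card, Module.finrank_fintype_fun_eq_card] at this
  let e : ι ≃ κ := Fintype.equivOfCardEq hc
  -- the matrix `T` of `reLin e ∘ j⁻¹`
  let T0 : (κ → F) ≃ₗ[F] (κ → F) := j.symm.trans (reLin F e)
  let T : GL κ F := Units.mk (LinearMap.toMatrix' T0.toLinearMap) (LinearMap.toMatrix' T0.symm.toLinearMap)
    (by rw [← LinearMap.toMatrix'_comp]; simp)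
    (by rw [← LinearMap.toMatrix'_comp]; simp)
  have hT : ∀ v, (T : Matrix κ κ F) *ᵥ v = T0 v := fun v => by
    show (LinearMap.toMatrix' T0.toLinearMap) *ᵥ v = _
    rw [LinearMap.toMatrix'_mulVec]
    rfl
  have hT' : ∀ v, ((T⁻¹ : GL κ F) : Matrix κ κ F) *ᵥ v = T0.symm v := fun v => by
    show (LinearMap.toMatrix' T0.symm.toLinearMap) *ᵥ v = _
    rw [LinearMap.toMatrix'_mulVec]
    rfl
  have key : ∀ g : GL ι F, glT (reLin F e) g = T * glT j g * T⁻¹ := by
    intro g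
    apply Units.ext
    apply ext_mulVec
    intro v
    rw [Units.val_mul, Units.val_mul, ← Matrix.mulVec_mulVec, ← Matrix.mulVec_mulVec, hT, hT', glT_mulVec',
      glT_mulVec']
    simp [T0]
  refine ⟨(glT (reLin F e)).symm (B * T⁻¹), ?_⟩
  rintro _ ⟨g, hg, rfl⟩ a b
  have h1 := hB _ ⟨_, ⟨g, hg, rfl⟩, rfl⟩ (e a) (e b)
  have h2 : glT (reLin F e) ((glT (reLin F e)).symm (B * T⁻¹) * g * ((glT (reLin F e)).symm (B * T⁻¹))⁻¹) =
      B * glT j g * B⁻¹ := by
    rw [map_mul, map_mul, map_inv, MulEquiv.apply_symm_apply, key]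
    group
  have h3 := coe_glT_reLin e ((glT (reLin F e)).symm (B * T⁻¹) * g * ((glT (reLin F e)).symm (B * T⁻¹))⁻¹) (e a) (e b)
  rw [h2, e.symm_apply_apply, e.symm_apply_apply] at h3
  have h4 : (((glT (reLin F e)).symm (B * T⁻¹) : GL ι F) : Matrix ι ι F) * (g : Matrix ι ι F) *
      (((((glT (reLin F e)).symm (B * T⁻¹))⁻¹ : GL ι F)) : Matrix ι ι F) =
      (((glT (reLin F e)).symm (B * T⁻¹) * g * ((glT (reLin F e)).symm (B * T⁻¹))⁻¹ : GL ι F) : Matrix ι ι F) := by
    rw [Units.val_mul, Units.val_mul]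
  show ((((glT (reLin F e)).symm (B * T⁻¹) : GL ι F) : Matrix ι ι F) * (g : Matrix ι ι F) *
      (((((glT (reLin F e)).symm (B * T⁻¹))⁻¹ : GL ι F)) : Matrix ι ι F)) a b ∈ F₀
  rw [h4, ← h3]
  rw [Units.val_mul, Units.val_mul]
  exact h1

/-- the restriction to a subgroup -/
noncomputable def eqv (j : (ι → F) ≃ₗ[F] (κ → F)) (P : Subgroup (GL ι F)) :
    P ≃* (P.map (glT j).toMonoidHom : Subgroup (GL κ F)) :=
  P.equivMapOfInjective (glT j).toMonoidHom (show Function.Injective (glT j).toMonoidHom from (glT j).injective)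

theorem coe_eqv (j : (ι → F) ≃ₗ[F] (κ → F)) (P : Subgroup (GL ι F)) (x : P) :
    ((eqv j P x : (P.map (glT j).toMonoidHom : Subgroup (GL κ F))) : GL κ F) = glT j x := rfl

/-- the quotient by the scalars -/
noncomputable def quotT (j : (ι → F) ≃ₗ[F] (κ → F)) (P : Subgroup (GL ι F)) :
    (P ⧸ (scalars ι F).subgroupOf P) ≃*
      ((P.map (glT j).toMonoidHom : Subgroup (GL κ F)) ⧸ (scalars κ F).subgroupOf (P.map (glT j).toMonoidHom)) :=
  QuotientGroup.congr _ _ (eqv j P) (by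
    ext x
    obtain ⟨y, rfl⟩ := (eqv j P).surjective x
    rw [Subgroup.mem_subgroupOf, coe_eqv, glT_scalar]
    constructor
    · rintro ⟨z, hz, e⟩
      have : z = y := (eqv j P).injective e
      subst this
      exact hz
    · intro h
      exact ⟨y, h, rfl⟩)

theorem core_map (j : (ι → F) ≃ₗ[F] (κ → F)) {H P : Subgroup (GL ι F)} (h : IsResidualCore H P) :
    IsResidualCore (H.map (glT j).toMonoidHom) (P.map (glT j).toMonoidHom) where
  le := Subgroup.map_mono h.le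
  normal := by
    rintro _ ⟨a, ha, rfl⟩ _ ⟨x, hx, rfl⟩
    exact ⟨a * x * a⁻¹, h.normal a ha x hx, by rw [map_mul, map_mul, map_inv]⟩
  perfect := by rw [← Subgroup.map_commutator, h.perfect]
  simple := by
    have := h.simple
    exact (quotT j P).symm.isSimpleGroup
  nonabelian := by
    intro hc
    apply h.nonabelian
    constructor
    constructor
    intro a b
    apply (quotT j P).injective
    rw [map_mul, map_mul]
    exact hc.is_comm.comm _ _
  centralizer_scalar := by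
    rintro _ ⟨a, ha, rfl⟩ hx
    refine (glT_scalar j a).2 (h.centralizer_scalar a ha fun x hx' => ?_)
    have h1 := hx _ ⟨x, hx', rfl⟩
    rw [← glT_scalar j, map_mul, map_mul, map_mul, map_inv, map_inv]
    exact h1
  absIrred := absIrred_map j h.absIrred
  no_subfield := fun F₀ hF hR => h.no_subfield F₀ hF (subfield_map j F₀ hR)

theorem noUnitary_map (j : (ι → F) ≃ₗ[F] (κ → F)) {P : Subgroup (GL ι F)}
    (h : ¬ ∃ (σ : F ≃+* F) (f : (ι → F) → (ι → F) → F), IsUnitaryForm σ f ∧ FixesForm (matrixSet P) f) :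
    ¬ ∃ (σ : F ≃+* F) (f : (κ → F) → (κ → F) → F), IsUnitaryForm σ f ∧
      FixesForm (matrixSet (P.map (glT j).toMonoidHom)) f := by
  rintro ⟨σ, f, hf, hfix⟩
  refine h ⟨σ, fun u v => f (j u) (j v), ⟨hf.ne_refl, hf.involutive, ?_, ?_, ?_, ?_⟩, ?_⟩
  · intro x y v
    show f (j (x + y)) (j v) = _
    rw [map_add]
    exact hf.add_left _ _ _
  · intro c x v
    show f (j (c • x)) (j v) = _
    rw [map_smul]
    exact hf.smul_left _ _ _
  · intro v w
    exact hf.herm _ _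
  · intro v hv
    obtain ⟨⟨x, hx⟩, ⟨y, hy⟩⟩ := hf.nondegenerate (j v) (by rwa [Ne, map_eq_zero_iff j j.injective])
    refine ⟨⟨j.symm x, ?_⟩, ⟨j.symm y, ?_⟩⟩
    · show f (j (j.symm x)) (j v) ≠ 0
      rwa [j.apply_symm_apply]
    · show f (j v) (j (j.symm y)) ≠ 0
      rwa [j.apply_symm_apply]
  · intro s hs u v
    show f (j (s *ᵥ u)) (j (s *ᵥ v)) = f (j u) (j v)
    rw [← matT_mulVec, ← matT_mulVec]
    exact hfix _ (matrixSet_map hs) _ _

theorem res_map (j : (ι → F) ≃ₗ[F] (κ → F)) {H : Subgroup (GL ι F)} (h : InOrthogonalResidualClass H) :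
    InOrthogonalResidualClass (H.map (glT j).toMonoidHom) := by
  obtain ⟨P, hP, hu⟩ := h
  exact ⟨_, core_map j hP, noUnitary_map j hu⟩

/-- the transported model -/
noncomputable def modelT {Q : Type*} [Group Q] {S : Subgroup (GL ι F)} (m : Model Q S) (j : (ι → F) ≃ₗ[F] (κ → F)) :
    Model Q (S.map (glT j).toMonoidHom) where
  π := m.π.comp (eqv j S).symm.toMonoidHom
  surj := m.surj.comp (eqv j S).symm.surjective
  ker := fun s => by
    obtain ⟨t, rfl⟩ := (eqv j S).surjective s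
    show m.π ((eqv j S).symm ((eqv j S) t)) = 1 ↔ _
    rw [MulEquiv.symm_apply_apply, m.ker, coe_eqv, glT_scalar]

theorem modelT_hat {Q : Type*} [Group Q] {S : Subgroup (GL ι F)} (m : Model Q S) (j : (ι → F) ≃ₗ[F] (κ → F))
    (A : Subgroup Q) : (modelT m j).hat A = (m.hat A).map (glT j).toMonoidHom := by
  ext x
  obtain ⟨g, rfl⟩ := (glT j).surjective x
  rw [mem_map_glT, Model.mem_hat, Model.mem_hat]
  have key : ∀ hg : g ∈ S, (modelT m j).π ⟨glT j g, (mem_map_glT j S g).2 hg⟩ = m.π ⟨g, hg⟩ := by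
    intro hg
    have h1 : eqv j S ⟨g, hg⟩ = ⟨glT j g, (mem_map_glT j S g).2 hg⟩ := by
      apply Subtype.ext
      exact coe_eqv j S ⟨g, hg⟩
    rw [← h1]
    exact congrArg m.π ((eqv j S).symm_apply_apply ⟨g, hg⟩)
  constructor
  · rintro ⟨hg, h⟩
    have hg' := (mem_map_glT j S g).1 hg
    exact ⟨hg', by rw [← key hg']; exact h⟩
  · rintro ⟨hg, h⟩
    exact ⟨(mem_map_glT j S g).2 hg, by rw [key hg]; exact h⟩

theorem mem_isometryGroup {Q : (ι → F) → F} {g : GL ι F} :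
    g ∈ isometryGroup F Q ↔ ∀ v, Q ((g : Matrix ι ι F) *ᵥ v) = Q v :=
  ⟨fun h v => h v v, fun h v _ => h v⟩

theorem map_isometryGroup (j : (ι → F) ≃ₗ[F] (κ → F)) {Q : (ι → F) → F} {Q' : (κ → F) → F} {c : F} (hc : c ≠ 0)
    (hj : ∀ v, Q' (j v) = c * Q v) : (isometryGroup F Q).map (glT j).toMonoidHom = isometryGroup F Q' := by
  ext x
  obtain ⟨g, rfl⟩ := (glT j).surjective x
  rw [mem_map_glT, mem_isometryGroup, mem_isometryGroup]
  constructor
  · intro h v
    obtain ⟨w, rfl⟩ := j.surjective v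
    rw [glT_mulVec, hj, hj, h]
  · intro h v
    have h1 := h (j v)
    rw [glT_mulVec, hj, hj] at h1
    exact mul_left_cancel₀ hc h1

theorem omegaGL_eq (Q : (ι → F) → F) : omegaGL Q = ⁅isometryGroup F Q, isometryGroup F Q⁆ := by
  rw [omegaGL, Omega, commutator_def, Subgroup.map_commutator, ← MonoidHom.range_eq_map, Subgroup.range_subtype]

theorem map_omegaGL (j : (ι → F) ≃ₗ[F] (κ → F)) {Q : (ι → F) → F} {Q' : (κ → F) → F} {c : F} (hc : c ≠ 0)
    (hj : ∀ v, Q' (j v) = c * Q v) : (omegaGL Q).map (glT j).toMonoidHom = omegaGL Q' := by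
  rw [omegaGL_eq, omegaGL_eq, Subgroup.map_commutator, map_isometryGroup j hc hj]

theorem exists_model {Q : Type*} [Group Q] {S : Subgroup (GL ι F)} {S' : Subgroup (GL κ F)} (m : Model Q S)
    (j : (ι → F) ≃ₗ[F] (κ → F)) (h : S.map (glT j).toMonoidHom = S') :
    ∃ m' : Model Q S', ∀ A : Subgroup Q, m'.hat A = (m.hat A).map (glT j).toMonoidHom := by
  subst h
  exact ⟨modelT m j, modelT_hat m j⟩

/-- **Transport of the orthogonal residual class along a similarity.** -/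
theorem exists_orth {Q : Type*} [Group Q] {Qf : (ι → F) → F} {Q' : (κ → F) → F} (m : Model Q (omegaGL Qf))
    (j : (ι → F) ≃ₗ[F] (κ → F)) {c : F} (hc : c ≠ 0) (hj : ∀ v, Q' (j v) = c * Qf v) :
    ∃ m' : Model Q (omegaGL Q'), ∀ A : Subgroup Q, InOrthogonalResidualClass (m.hat A) →
      InOrthogonalResidualClass (m'.hat A) := by
  obtain ⟨m', h⟩ := exists_model m j (map_omegaGL j hc hj)
  exact ⟨m', fun A hA => by rw [h]; exact res_map j hA⟩

omit [Fintype ι] [DecidableEq ι] [Fintype κ] [DecidableEq κ] in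
theorem polar_map (j : (ι → F) ≃ₗ[F] (κ → F)) {Q : (ι → F) → F} {Q' : (κ → F) → F} {c : F}
    (hj : ∀ v, Q' (j v) = c * Q v) (x y : κ → F) :
    QuadraticMap.polar Q' x y = c * QuadraticMap.polar Q (j.symm x) (j.symm y) := by
  obtain ⟨x, rfl⟩ := j.surjective x
  obtain ⟨y, rfl⟩ := j.surjective y
  rw [QuadraticMap.polar, QuadraticMap.polar, ← map_add, hj, hj, hj, j.symm_apply_apply, j.symm_apply_apply]
  ring

omit [Fintype ι] [DecidableEq ι] [Fintype κ] [DecidableEq κ] in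
theorem nondeg_map (j : (ι → F) ≃ₗ[F] (κ → F)) {Q : (ι → F) → F} {Q' : (κ → F) → F} {c : F} (hc : c ≠ 0)
    (hj : ∀ v, Q' (j v) = c * Q v) (h : IsNondegenerateQuadraticForm Q) : IsNondegenerateQuadraticForm Q' where
  smul := by
    intro a v
    obtain ⟨v, rfl⟩ := j.surjective v
    rw [← map_smul, hj, hj, h.smul]
    ring
  polar_bilinear :=
    { add_left := fun x y v => by
        rw [polar_map j hj, polar_map j hj, polar_map j hj, map_add, h.polar_bilinear.add_left]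
        ring
      smul_left := fun a x v => by
        rw [polar_map j hj, polar_map j hj, map_smul, h.polar_bilinear.smul_left]
        ring
      add_right := fun v x y => by
        rw [polar_map j hj, polar_map j hj, polar_map j hj, map_add, h.polar_bilinear.add_right]
        ring
      smul_right := fun a v x => by
        rw [polar_map j hj, polar_map j hj, map_smul, h.polar_bilinear.smul_right]
        ring }
  nondegenerate := by
    intro v hv
    obtain ⟨⟨x, hx⟩, ⟨y, hy⟩⟩ := h.nondegenerate (j.symm v) (by rwa [Ne, map_eq_zero_iff j.symm j.symm.injective])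
    refine ⟨⟨j x, ?_⟩, ⟨j y, ?_⟩⟩
    · rw [polar_map j hj, j.symm_apply_apply]
      exact mul_ne_zero hc hx
    · rw [polar_map j hj, j.symm_apply_apply]
      exact mul_ne_zero hc hy

end Cfsg.Agent.H982.EP

private theorem dce_1cf416e26894 : _root_.True := by
  try have : _root_.True := by simp only [_root_.Cfsg.Geo.omegaGL.eq_1]
  try have : _root_.True := by simp only [_root_.Cfsg.Agent.H982.EP.reLin.eq_1]
  exact _root_.True.intro
end

-- part: H947/EPO/DBig
section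
prune_inst 0x4200000400000000000009001202004440001900000000138a00402080e122080c0200048801c04024c32810801000000100010000000000000300000020000002a100401100c00000000003006000000000000000000000000000000041004000000000
set_option linter.all false
open scoped Cfsg.Agent.FastGrp

/-!
# Type `D_l`: modules which are not natural are large (helper947, S3499, task 6139)

* **`dBig`** : `l = n + 2 ≥ 5`, `dim V^U = 1`: natural, or `dim V (dim V - 1)` is large, or `l = 5` and the support is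
  one half-spin node (and perhaps the first node).
* **`dBigFour`** : `l = 4`: `dim V ≤ 8` or large.
-/

set_option autoImplicit false
set_option linter.unusedSectionVars false
set_option linter.style.longLine false

namespace Cfsg.Agent.H947.EPO

open CoxeterSystem Cfsg.Agent.ChevalleyStructure.CoxeterGeom Cfsg.Agent.Tits.Roots Cfsg.Agent.Tits.Core
  Cfsg.Agent.Tits.Exchange Cfsg.Agent.Nodes.Reps Cfsg.Agent.Nodes.BNOf Cfsg.Agent.Nodes.StabComb
  Cfsg.Agent.Nodes.Bruhat Cfsg.Agent.Nodes.OppDec Cfsg.Agent.Nodes.LeviDec Cfsg.Agent.KFacts.RgdOpp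
  Cfsg.Agent.Omega.CR Cfsg.Agent.Omega.FOne.Lift.Sd Cfsg.Agent.H905.Md Cfsg.Agent.H905.DC Cfsg.Agent.Nodes.TypeD
  Cfsg.Agent.Nodes.RGDLib Cfsg.Agent.H650.Ppd Cfsg.Agent.H156.Ppd Cfsg.Agent.H156.Ppd.DSg

/-- the numerical condition: `l` rank, `e` the exponent, `N` the dimension -/
def Big (l e N : ℕ) : Prop := 2 * (e * (2 * l ^ 2 - l + 5) + 4) ≤ N * (N - 1)

/-- the exponents -/
def Exp (l e : ℕ) : Prop := e ≤ 5 ∨ 7 ≤ l ∧ e ≤ l

theorem big_of {n e N a : ℕ} (ha : a = (n + 2) * (n + 1))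
    (h : 2 * (e * (2 * a + (n + 7)) + 4) ≤ N * (N - 1)) : Big (n + 2) e N := by
  unfold Big
  have h1 : 2 * (n + 2) ^ 2 - (n + 2) + 5 = 2 * a + (n + 7) := by
    have h2 : 2 * (n + 2) ^ 2 = 2 * a + 2 * (n + 2) := by rw [ha]; ring
    omega
  rw [h1]
  exact h

theorem Big.mono {l e N N' : ℕ} (h : Big l e N) (hN : N ≤ N') : Big l e N' :=
  le_trans h (Nat.mul_le_mul hN (Nat.sub_le_sub_right hN 1))

/-- the middle nodes -/
theorem big_mid {n e N a : ℕ} (hn : 3 ≤ n) (ha : a = (n + 2) * (n + 1)) (he : Exp (n + 2) e)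
    (hN : 2 * a ≤ N) : Big (n + 2) e N := by
  refine Big.mono (N := 2 * a) ?_ hN
  apply big_of ha
  have ha20 : 20 ≤ a := by rw [ha]; nlinarith only [hn]
  have hna : 4 * (n + 2) ≤ a := by rw [ha]; nlinarith only [hn]
  obtain ⟨b, hb⟩ : ∃ b, 2 * a = b + 1 := ⟨2 * a - 1, by omega⟩
  rw [hb, Nat.add_sub_cancel]
  rcases he with he | ⟨h7, he⟩
  · have h1 : e * (2 * a + (n + 7)) ≤ 5 * (2 * a + (n + 7)) := Nat.mul_le_mul_right _ he
    nlinarith only [ha, ha20, hb, he]
  · have h5 : 5 ≤ n := by omega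
    have hna6 : 6 * (n + 2) ≤ a := by rw [ha]; nlinarith only [h7]
    have h1 : e * (2 * a + (n + 7)) ≤ (n + 2) * (2 * a + (n + 7)) := Nat.mul_le_mul_right _ he
    have h2 : 6 * ((n + 2) * (2 * a + (n + 7))) ≤ a * (2 * a + (n + 7)) := by
      calc 6 * ((n + 2) * (2 * a + (n + 7))) = (6 * (n + 2)) * (2 * a + (n + 7)) := by ring
        _ ≤ _ := Nat.mul_le_mul_right _ hna6
    have h3 : a * (2 * a + (n + 7)) ≤ a * (3 * a) := Nat.mul_le_mul_left _ (by omega)
    have h4 : a * (3 * a) = 3 * (a * a) := by ring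
    have h6 : (b + 1) * b + (b + 1) = 4 * (a * a) := by
      have : (b + 1) * b + (b + 1) = (b + 1) * (b + 1) := by ring
      rw [this, ← hb]; ring
    have h7' : 20 * a ≤ a * a := Nat.mul_le_mul_right _ ha20
    have h8 : 6 * (e * (2 * a + (n + 7))) ≤ 3 * (a * a) := by
      calc 6 * (e * (2 * a + (n + 7))) ≤ 6 * ((n + 2) * (2 * a + (n + 7))) := Nat.mul_le_mul_left _ h1
        _ ≤ _ := h2.trans (h3.trans h4.le)
    rw [hb] at h8
    have h9 : (b + 1) * b = 4 * (a * a) - (b + 1) := by (clear * - h6; omega)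
    rw [h9]
    (clear * - hb h7' h8; omega)

theorem two_pow_ge (n : ℕ) (hn : 5 ≤ n) : (n + 2) * (n + 1) + 22 ≤ 2 ^ (n + 1) := by
  induction n, hn using Nat.le_induction with
  | base => norm_num
  | succ n hn ih =>
    rw [pow_succ]
    nlinarith

/-- the half-spin nodes, `l ≥ 6` -/
theorem big_half {n e N : ℕ} (hn : 4 ≤ n) (he : Exp (n + 2) e) (hN : 2 ^ (n + 1) ≤ N) : Big (n + 2) e N := by
  refine Big.mono (N := 2 ^ (n + 1)) ?_ hN
  rcases Nat.lt_or_ge 4 n with hn5 | hn4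
  · obtain ⟨a, ha⟩ : ∃ a, a = (n + 2) * (n + 1) := ⟨_, rfl⟩
    have hp := two_pow_ge n hn5
    rw [← ha] at hp
    refine Big.mono (N := a + 22) ?_ hp
    apply big_of ha
    have hna6 : 6 * (n + 2) ≤ a := by rw [ha]; nlinarith only [hn5]
    have hsq : (n + 2) * (n + 2) = a + (n + 2) := by rw [ha]; ring
    have e1 : (a + 22) * (a + 22 - 1) = a * a + 43 * a + 462 := by
      have : a + 22 - 1 = a + 21 := by omega
      rw [this]; ring
    rw [e1]
    have ha42 : 42 ≤ a := by rw [ha]; linarith only [hn5, ha, hna6]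
    rcases he with he | ⟨h7, he⟩
    · have h1 : e * (2 * a + (n + 7)) ≤ 5 * (2 * a + (n + 7)) := Nat.mul_le_mul_right _ he
      linarith only [hna6, h1, _root_.mul_self_nonneg (↑a : ℤ)]
    · have h1 : e * (2 * a + (n + 7)) ≤ (n + 2) * (2 * a + (n + 7)) := Nat.mul_le_mul_right _ he
      have h2 : (n + 2) * (2 * a + (n + 7)) = 2 * ((n + 2) * a) + (n + 2) * (n + 2) + 5 * (n + 2) := by ring
      have h3 : 6 * ((n + 2) * a) ≤ a * a := by
        calc 6 * ((n + 2) * a) = (6 * (n + 2)) * a := by ring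
          _ ≤ _ := Nat.mul_le_mul_right _ hna6
      have h4 : 42 * a ≤ a * a := Nat.mul_le_mul_right _ ha42
      omega
  · obtain rfl : n = 4 := by omega
    unfold Big
    have he5 : e ≤ 5 := by
      rcases he with he | ⟨h7, he⟩
      · exact he
      · omega
    norm_num
    omega

/-- Cartan matrix of type `D₅` -/
def mAD5 : Fin 5 → Fin 5 → ℤ := ![![2, -1, 0, 0, 0], ![-1, 2, -1, 0, 0], ![0, -1, 2, -1, -1], ![0, 0, -1, 2, 0], ![0, 0, -1, 0, 2]]

theorem mAD5_eq : (Nodes.TypeD.A 3) = mAD5 := by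
  funext i j
  rw [Nodes.TypeD.A_apply]
  revert i j
  decide +kernel

section D5

variable {W Y : Type*} [Group W] [Group Y] {cs : CoxeterSystem (Nodes.TypeD.M 3) W} {p : ℕ} {T : Subgroup Y} {n : Fin 5 → Y}
  {X : (Fin 5 → ℤ) → Subgroup Y} {k V : Type*} [Field k] [AddCommGroup V] [Module k V]
  {A : Fin 5 → Fin 5 → ℤ} {h : IsCartan (Nodes.TypeD.M 3) A} (hA : A = mAD5)
  (R : RGD cs h p T n X) [Finite Y] [Finite W] [Fact p.Prime] [CharP k p]
  {ρ : Y →* Module.End k V} [FiniteDimensional k V] [Nontrivial V]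
  (hirr : ∀ L : Submodule k V, Ivt ρ (GG cs h T X) L → L = ⊥ ∨ L = ⊤)
include hA R hirr

theorem dFive_two (hi : (3 : Fin 5) ∉ Jx cs h X ρ) (hj : (4 : Fin 5) ∉ Jx cs h X ρ) :
    24 * Module.finrank k (D cs h X ρ) ≤ Module.finrank k V := by
  subst hA
  exact (Nat.le_add_right _ _).trans (dim_ge_list_two R hirr hi hj (by decide)
    [[], [3], [4], [3, 2], [3, 4], [4, 2], [3, 2, 1], [3, 2, 4], [3, 4, 2], [4, 2, 1], [4, 2, 3], [3, 2, 1, 0], [3, 2, 1, 4], [3, 2, 4, 2], [3, 4, 2, 1], [3, 4, 2, 3], [4, 2, 1, 0], [4, 2, 1, 3], [3, 2, 1, 0, 4], [3, 2, 1, 4, 2], [3, 2, 4, 2, 1], [3, 2, 4, 2, 3], [3, 4, 2, 1, 0], [3, 4, 2, 1, 3]]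
    [] [] (by decide +kernel) (by simp) (by simp))

end D5

section bounds

variable {n : ℕ} {W Y : Type*} [Group W] [Group Y] {cs : CoxeterSystem (Nodes.TypeD.M n) W} {p : ℕ} {T : Subgroup Y}
  {m : Fin (n + 2) → Y} {X : (Fin (n + 2) → ℤ) → Subgroup Y} {k V : Type*} [Field k] [AddCommGroup V] [Module k V]
  (R : RGD cs (isCartan n) p T m X) [Finite Y] [Finite W] [Fact p.Prime] [CharP k p]
  {ρ : Y →* Module.End k V} [FiniteDimensional k V] [Nontrivial V]
  (hirr : ∀ L : Submodule k V, Ivt ρ (GG cs (isCartan n) T X) L → L = ⊥ ∨ L = ⊤)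
include R hirr

/-- **Type `D_l`, `l ≥ 5`.** -/
theorem dBig (hn : 3 ≤ n) (hG : G1 cs (isCartan n) X = ⊤) (hnt : ∃ (g : Y) (v : V), ρ g v ≠ v)
    (hD : Module.finrank k (D cs (isCartan n) X ρ) = 1) {e : ℕ} (he : Exp (n + 2) e) :
    ((∀ i, i ∈ Jx cs (isCartan n) X ρ ↔ i ≠ 0) ∧ Module.finrank k (Le cs (isCartan n) T X ρ {0}) ≤ 2) ∨
    Big (n + 2) e (Module.finrank k V) ∨
    (n = 3 ∧ 16 ≤ Module.finrank k V ∧ ∃ i i' : Fin (n + 2), n ≤ (i : ℕ) ∧ n ≤ (i' : ℕ) ∧ i ≠ i' ∧
      i ∉ Jx cs (isCartan n) X ρ ∧ i' ∈ Jx cs (isCartan n) X ρ) := by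
  have hC := two_mul_choose n
  obtain ⟨i0, hi0⟩ : ∃ i, i ∉ Jx cs (isCartan n) X ρ := by
    by_contra hcon
    push Not at hcon
    obtain ⟨g, v, hv⟩ := hnt
    exact hv (H925.Nat.triv_of_Jx_univ R hirr hG hcon g v)
  by_cases hmid : ∃ i : Fin (n + 2), i ∉ Jx cs (isCartan n) X ρ ∧ 1 ≤ (i : ℕ) ∧ (i : ℕ) < n
  · obtain ⟨i, hi, h1, h2⟩ := hmid
    right; left
    have h3 := dim_V R hirr hi h1 h2
    have h4 := choose_two_le (m := n + 2) (k := (i : ℕ) + 1) (by omega) (by omega)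
    rw [hD, mul_one, hC] at h3
    refine big_mid hn rfl he (le_trans ?_ h3)
    have h5 : 2 * ((n + 2) * (n + 1)) ≤ (n + 2).choose ((i : ℕ) + 1) * 4 := by
      rw [← hC]
      omega
    omega
  by_cases hhalf : ∃ i : Fin (n + 2), i ∉ Jx cs (isCartan n) X ρ ∧ n ≤ (i : ℕ)
  · obtain ⟨i, hi, h2⟩ := hhalf
    have h3 := dim_H R hirr (by omega) hi h2
    rw [hD, mul_one, hC] at h3
    rcases Nat.lt_or_ge 3 n with hn4 | hn3
    · right; left
      exact big_half hn4 he (le_trans (Nat.le_add_right _ _) h3)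
    · obtain rfl : n = 3 := by omega
      have he5 : e ≤ 5 := by
        rcases he with he | ⟨h7, he⟩
        · exact he
        · omega
      by_cases hboth : (3 : Fin 5) ∉ Jx cs (isCartan 3) X ρ ∧ (4 : Fin 5) ∉ Jx cs (isCartan 3) X ρ
      · right; left
        have h4 := dFive_two mAD5_eq R hirr hboth.1 hboth.2
        rw [hD, mul_one] at h4
        refine Big.mono (N := 24) ?_ h4
        unfold Big
        norm_num
        omega
      · right; right
        refine ⟨rfl, by omega, ?_⟩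
        have hi' : i = (3 : Fin 5) ∨ i = (4 : Fin 5) := by
          have := i.2
          rcases (show (i : ℕ) = 3 ∨ (i : ℕ) = 4 by omega) with h5 | h5
          · left; exact Fin.ext h5
          · right; exact Fin.ext h5
        rcases hi' with rfl | rfl
        · refine ⟨(3 : Fin 5), (4 : Fin 5), by decide, by decide, by decide, hi, ?_⟩
          by_contra h6
          exact hboth ⟨hi, h6⟩
        · refine ⟨(4 : Fin 5), (3 : Fin 5), by decide, by decide, by decide, hi, ?_⟩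
          by_contra h6
          exact hboth ⟨h6, hi⟩
  · have hall : ∀ i, i ∉ Jx cs (isCartan n) X ρ → i = 0 := by
      intro i hi
      apply Fin.ext
      by_contra h1
      have h2 : (i : ℕ) ≠ 0 := h1
      rcases Nat.lt_or_ge (i : ℕ) n with h3 | h3
      · exact hmid ⟨i, hi, by omega, h3⟩
      · exact hhalf ⟨i, hi, h3⟩
    have h00 := hall i0 hi0
    subst h00
    have h3 := dim_O R hirr (by omega) hi0
    rw [hD, mul_one, show (n + 2).choose 2 * 4 = 2 * ((n + 2).choose 2 * 2) by ring, hC] at h3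
    rcases Nat.eq_zero_or_pos (Module.finrank k (Io cs (isCartan n) T X ρ 0)) with hc | hc
    · left
      refine ⟨fun i => ⟨fun h1 h2 => hi0 (h2 ▸ h1), fun h1 => ?_⟩, ?_⟩
      · by_contra h2
        exact h1 (hall i h2)
      · have h1 := finrank_Io R hirr (ρ := ρ) (0 : Fin (n + 2))
        rw [hc, hD] at h1
        omega
    · right; left
      refine big_mid hn rfl he (le_trans ?_ h3)
      nlinarith only [hC, hc]

end bounds

section D4

variable {W Y : Type*} [Group W] [Group Y] {cs : CoxeterSystem (Nodes.TypeD.M 2) W} {p : ℕ} {T : Subgroup Y} {n : Fin 4 → Y}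
  {X : (Fin 4 → ℤ) → Subgroup Y} {k V : Type*} [Field k] [AddCommGroup V] [Module k V]
  {A : Fin 4 → Fin 4 → ℤ} {h : IsCartan (Nodes.TypeD.M 2) A} (hA : A = mAD4)
  (R : RGD cs h p T n X) [Finite Y] [Finite W] [Fact p.Prime] [CharP k p]
  {ρ : Y →* Module.End k V} [FiniteDimensional k V] [Nontrivial V]
  (hirr : ∀ L : Submodule k V, Ivt ρ (GG cs h T X) L → L = ⊥ ∨ L = ⊤)
include hA R hirr

theorem dFour_two' {i j : Fin 4} (hi : i ∉ Jx cs h X ρ) (hj : j ∉ Jx cs h X ρ)
    (hi1 : i ≠ 1) (hj1 : j ≠ 1) (hij : i < j) :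
    24 * Module.finrank k (D cs h X ρ) ≤ Module.finrank k V := by
  subst hA
  have key : ∀ L : List (List (Fin 4)), (L.map fun ω => (cf mAD4 i ω, cf mAD4 j ω)).Nodup →
      L.length * Module.finrank k (D cs h X ρ) ≤ Module.finrank k V := fun L hL =>
    (Nat.le_add_right _ _).trans (dim_ge_list_two R hirr hi hj hij.ne L [] [] hL (by simp) (by simp))
  have h1 : (i = 0 ∧ j = 2) ∨ (i = 0 ∧ j = 3) ∨ (i = 2 ∧ j = 3) := by omega
  rcases h1 with ⟨rfl, rfl⟩ | ⟨rfl, rfl⟩ | ⟨rfl, rfl⟩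
  · exact key [[], [0], [2], [0, 1], [0, 2], [2, 1], [0, 1, 2], [0, 1, 3], [0, 2, 1], [2, 1, 0], [2, 1, 3], [0, 1, 2, 1], [0, 1, 2, 3], [0, 2, 1, 0], [0, 2, 1, 3], [2, 1, 0, 3], [0, 1, 2, 1, 0], [0, 1, 2, 1, 3], [0, 1, 2, 3, 1], [0, 2, 1, 0, 3], [2, 1, 0, 3, 1], [0, 1, 2, 1, 0, 3], [0, 1, 2, 1, 3, 1], [0, 1, 2, 3, 1, 0]]
      (by decide +kernel)
  · exact key [[], [0], [3], [0, 1], [0, 3], [3, 1], [0, 1, 2], [0, 1, 3], [0, 3, 1], [3, 1, 0], [3, 1, 2], [0, 1, 2, 3], [0, 1, 3, 1], [0, 3, 1, 0], [0, 3, 1, 2], [3, 1, 0, 2], [0, 1, 2, 3, 1], [0, 1, 3, 1, 0], [0, 1, 3, 1, 2], [0, 3, 1, 0, 2], [3, 1, 0, 2, 1], [0, 1, 2, 3, 1, 0], [0, 1, 2, 3, 1, 2], [0, 1, 3, 1, 0, 2]]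
      (by decide +kernel)
  · exact key [[], [2], [3], [2, 1], [2, 3], [3, 1], [2, 1, 0], [2, 1, 3], [2, 3, 1], [3, 1, 0], [3, 1, 2], [2, 1, 0, 3], [2, 1, 3, 1], [2, 3, 1, 0], [2, 3, 1, 2], [3, 1, 0, 2], [2, 1, 0, 3, 1], [2, 1, 3, 1, 0], [2, 1, 3, 1, 2], [2, 3, 1, 0, 2], [3, 1, 0, 2, 1], [2, 1, 0, 3, 1, 0], [2, 1, 0, 3, 1, 2], [2, 1, 3, 1, 0, 2]]
      (by decide +kernel)

/-- **Type `D₄`.** -/
theorem dBigFour (hG : G1 cs h X = ⊤) (hnt : ∃ (g : Y) (v : V), ρ g v ≠ v)
    (hD : Module.finrank k (D cs h X ρ) = 1) :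
    Module.finrank k V ≤ 8 ∨ 24 ≤ Module.finrank k V := by
  obtain ⟨i, hi⟩ : ∃ i, i ∉ Jx cs h X ρ := by
    by_contra hcon
    push Not at hcon
    obtain ⟨g, v, hv⟩ := hnt
    exact hv (H925.Nat.triv_of_Jx_univ R hirr hG hcon g v)
  by_contra hcon
  push Not at hcon
  obtain ⟨hc1, hc2⟩ := hcon
  have key : ∀ i, i ∉ Jx cs h X ρ → i ≠ 1 ∧ Module.finrank k (Io cs h T X ρ i) = 0 := by
    intro i hi
    rcases dFour_one hA R hirr hi with ⟨-, h2⟩ | ⟨h3, h2⟩
    · rw [hD] at h2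
      omega
    · rw [hD] at h2
      exact ⟨h3, by omega⟩
  have hJ : ∀ j, j ∉ Jx cs h X ρ → j = i := by
    intro i' hi'
    by_contra hne
    obtain ⟨h1, -⟩ := key i hi
    obtain ⟨h3, -⟩ := key i' hi'
    rcases lt_or_gt_of_ne hne with h4 | h4
    · have := dFour_two' hA R hirr hi' hi h3 h1 h4
      omega
    · have := dFour_two' hA R hirr hi hi' h1 h3 h4
      omega
  obtain ⟨h1, h3⟩ := key i hi
  have h4 := finrank_Io R hirr (ρ := ρ) i
  have h5 := dFour_le hA R hirr hi hJ h1 (by omega)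
  omega

end D4

theorem big_four {e N : ℕ} (he : Exp 4 e) (hN : 24 ≤ N) : Big 4 e N := by
  refine Big.mono (N := 24) ?_ hN
  have he5 : e ≤ 5 := by
    rcases he with he | ⟨h7, he⟩
    · exact he
    · omega
  unfold Big
  norm_num
  omega

end Cfsg.Agent.H947.EPO
end
end
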