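import Cfsg.Agent.H982.EP.Trans_m3
import Cfsg.Agent.H883.Bridge
import Cfsg.Agent.LieClassical.PomegaCard
import Cfsg.Agent.H419.EP.Targets_m3
import Cfsg.Agent.GenOrth.Normal
import Cfsg.Agent.H955.QMinus
import Cfsg.Agent.H528.EP.UB3_m3
import Cfsg.Agent.H36.EPL.Bound
import Cfsg.Agent.H59.EP.UBGen
import Cfsg.Agent.S0293
import Cfsg.Agent.H729.EPM.PSp
import Cfsg.Agent.H955.Sp
import Cfsg.Agent.S0813
import Cfsg.Agent.S0815
import Cfsg.Agent.S0280
import Cfsg.Agent.S0283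
import Cfsg.Agent.S0243
import Cfsg.Agent.S0245
import Cfsg.Agent.S0246
import Cfsg.Agent.S0249
import Cfsg.Agent.S2119
import Cfsg.Agent.ClassicalGeometry.PSL2Basic
import Cfsg.Agent.J2Sylow.SporSylow
import Cfsg.Agent.S2066
import Cfsg.Prelude.Def_Spor_J2
import Cfsg.Prelude.Def_G2
import Cfsg.Agent.H59.EP.Count
import Cfsg.Agent.H245.SuzInv
import Cfsg.Agent.H265.SuzEven
import Cfsg.Agent.CpAutSuz.Local
import Cfsg.Agent.KFacts.SuzOut
import Cfsg.Agent.H812.SuzSeven_m3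
import Cfsg.Agent.H348.Der.SuzFacts
import Cfsg.Agent.S1694
import Cfsg.Agent.H243.EP.OwnNum_m3
import Cfsg.Agent.KFacts.RgdFiltClass
import Cfsg.Agent.H470.EPO.OwnBig
import Cfsg.Agent.H765.EPS.Basic_m3
import Cfsg.Agent.ClassicalGeometry.SympBasic
import Cfsg.Agent.S0765
import Cfsg.Agent.H893.EP.GeoL_m3
import Mathlib
import Cfsg.Prelude.Def_GeometricClasses
import Cfsg.Agent.S0814
import Cfsg.Agent.H918.TransvTensor
import Cfsg.Agent.H905.SLProper
import Cfsg.Agent.H908.SLTrans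
import Cfsg.Agent.H953.Sympl
import Cfsg.Agent.ClassicalGeometry.HermOrthonormal
import Cfsg.Agent.H251.GeoCardC
import Cfsg.Agent.Lib.Cores
import Cfsg.Agent.H209.EPX.Defs_m3
import Cfsg.Agent.H737.EPO.RelOne_m3
import Cfsg.Agent.H907.FieldSub
import Cfsg.Agent.H912.Core4
import Cfsg.Agent.H954.FieldSub
import Cfsg.Agent.LieClassical.SLGen
import Cfsg.Agent.H377.OddThree_m3
import Cfsg.Agent.S0294
import Cfsg.Agent.H852.NCPsl11_m3
import Cfsg.Agent.StandardComponent.AltAut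
import Cfsg.Agent.LieClassical.OrthFourCommon
import Cfsg.Agent.ClassicalGeometry.OddInvolutions
import Cfsg.Agent.H648.EPV.ExcSmall
import Cfsg.Agent.H912.FiveList
import Cfsg.Agent.H912.KnownSplit
import Cfsg.Agent.H64.CrossChev
import Cfsg.Agent.FastGrp
import Cfsg.Agent.Prune
set_option linter.all false

section
prune_inst 0x7ffca8f9abb821dedfff7e77a6d0cdfc39901fffe6dff94bbfe021cf0b9f030009c1238d09e000fc0e82401410a87843f97eceffe06bdc7ffffd5ff41ffbee0fe5f7b508519488340f380ffe03f0678e7f3fffffffffffffffffffffffffffaeffbdffffffff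

-- part: H982/EP/OmRes
section
set_option linter.all false
open scoped Cfsg.Agent.FastGrp

/-!
# S3499: the target `OrthRes12` from the rows of the dimensions 7 ... 12 (helper982)
-/

set_option autoImplicit false

namespace Cfsg.Agent.H982.EP

open Subgroup Cfsg Cfsg.Geo Cfsg.Agent.H419.EP Cfsg.Agent.H284
open Cfsg.Agent.LieClassical.OrthCore
open scoped MatrixGroups Matrix

/-- the row of `Ω_{2k+1}(q)`, `q` odd -/
def RowOdd (k : ℕ) : Prop := ∀ {Q : Type} [Group Q] [Finite Q], IsSimpleGroup Q → ∀ {A : Subgroup Q}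
    {Γ : Subgroup (MulAut Q)}, EPT A Γ → ∀ {F : Type} [Field F] [Fintype F], Odd (Fintype.card F) →
    ∀ (m : Model Q (omegaGL (quadFormOdd k F))), InOrthogonalResidualClass (m.hat A) → False

/-- the row of `Ω_n^+(q)` -/
def RowPlus (n : ℕ) : Prop := ∀ {Q : Type} [Group Q] [Finite Q], IsSimpleGroup Q → ∀ {A : Subgroup Q}
    {Γ : Subgroup (MulAut Q)}, EPT A Γ → ∀ {F : Type} [Field F] [Fintype F] {Qf : (Fin n → F) → F}
    (m : Model Q (omegaGL Qf)), IsNondegenerateQuadraticForm Qf → IsPlusTypeOn Qf ⊤ →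
    InOrthogonalResidualClass (m.hat A) → False

/-- the row of `Ω_n^-(q)` -/
def RowMinus (n : ℕ) : Prop := ∀ {Q : Type} [Group Q] [Finite Q], IsSimpleGroup Q → ∀ {A : Subgroup Q}
    {Γ : Subgroup (MulAut Q)}, EPT A Γ → ∀ {F : Type} [Field F] [Fintype F] {Qf : (Fin n → F) → F}
    (m : Model Q (omegaGL Qf)), IsNondegenerateQuadraticForm Qf → ¬ IsPlusTypeOn Qf ⊤ →
    InOrthogonalResidualClass (m.hat A) → False

/-- the target in dimension `n` -/
def RowDim (n : ℕ) : Prop := ∀ {Q : Type} [Group Q] [Finite Q], IsSimpleGroup Q → ∀ {A : Subgroup Q}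
    {Γ : Subgroup (MulAut Q)}, EPT A Γ → ∀ {F : Type} [Field F] [Fintype F] {ι : Type} [Fintype ι] [DecidableEq ι]
    {Qf : (ι → F) → F} (m : Model Q (omegaGL Qf)), Fintype.card ι = n →
    IsNondegenerateQuadraticForm Qf → InOrthogonalResidualClass (m.hat A) → False

theorem two_ne_of_sim {F : Type*} [Field F] {V : Type*} [AddCommGroup V] [Module F V] {Q' : QuadraticForm F V}
    (hQ : Nondeg Q') {k : ℕ} (h : GenOrth.Sim Q' (Cfsg.quadFormOdd k F)) : (2 : F) ≠ 0 := by
  intro h2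
  obtain ⟨c, hc, j, hj⟩ := h
  have h1 : j (Pi.single (.inl ()) 1) = 0 := by
    apply hQ
    intro y
    obtain ⟨x, rfl⟩ := j.surjective y
    rw [QuadraticMap.polar, ← map_add, hj, hj, hj]
    have h3 : Cfsg.quadFormOdd k F (Pi.single (.inl ()) 1 + x) = Cfsg.quadFormOdd k F (Pi.single (.inl ()) 1) +
        Cfsg.quadFormOdd k F x := by
      rw [LieClassical.OrthForms.quadFormOdd_apply, LieClassical.OrthForms.quadFormOdd_apply,
        LieClassical.OrthForms.quadFormOdd_apply]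
      simp
      linear_combination x (.inl ()) * h2
    rw [h3]
    ring
  have h5 : (Pi.single (.inl ()) 1 : Unit ⊕ (Fin k ⊕ Fin k) → F) = 0 := (map_eq_zero_iff j j.injective).1 h1
  have h6 := congrFun h5 (.inl ())
  simp at h6

theorem dim_of_odd {k : ℕ} (h : RowOdd k) : RowDim (2 * k + 1) := by
  intro Q _ _ hs A Γ hE F _ _ ι _ _ Qf m hn hQ hres
  obtain ⟨Q', rfl, hnd⟩ := H883.Bridge.exists_quadraticForm hQ
  rcases GenOrth.normal_form (F := F) (Fintype.card ι) hnd (by rw [Module.finrank_fintype_fun_eq_card]) with ⟨k', hk, hs'⟩ |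
    ⟨k', hk, -⟩ | ⟨k', hk, -⟩
  · obtain rfl : k' = k := by omega
    have h2 := two_ne_of_sim hnd hs'
    have ho : Odd (Fintype.card F) := LieClassical.PomegaCard.odd_card_iff.2 h2
    obtain ⟨c, hc, j, hj⟩ := hs'
    obtain ⟨m', hm'⟩ := exists_orth (Q' := quadFormOdd k' F) m j.symm (inv_ne_zero hc) (fun v => by
      obtain ⟨w, rfl⟩ := j.surjective v
      rw [j.symm_apply_apply, hj, inv_mul_cancel_left₀ hc])
    exact h hs hE ho m' (hm' A hres)
  · omega
  · omega

theorem dim_of_even {n : ℕ} (hp : RowPlus n) (hm : RowMinus n) : RowDim n := by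
  intro Q _ _ hs A Γ hE F _ _ ι _ _ Qf m hn hQ hres
  let e : ι ≃ Fin n := Fintype.equivFinOfCardEq hn
  have hj : ∀ v, (fun w => Qf ((reLin F e).symm w)) (reLin F e v) = 1 * Qf v := fun v => by
    simp
  obtain ⟨m', hm'⟩ := exists_orth (Q' := fun w => Qf ((reLin F e).symm w)) m (reLin F e) one_ne_zero hj
  have hQ' : IsNondegenerateQuadraticForm (fun w => Qf ((reLin F e).symm w)) :=
    nondeg_map (reLin F e) one_ne_zero hj hQ
  by_cases hplus : IsPlusTypeOn (fun w => Qf ((reLin F e).symm w)) ⊤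
  · exact hp hs hE m' hQ' hplus (hm' A hres)
  · exact hm hs hE m' hQ' hplus (hm' A hres)

/-- **`OrthRes12` from the nine rows.** -/
theorem orthRes12_of (r7 : RowOdd 3) (r8p : RowPlus 8) (r8m : RowMinus 8) (r9 : RowOdd 4) (r10p : RowPlus 10)
    (r10m : RowMinus 10) (r11 : RowOdd 5) (r12p : RowPlus 12) (r12m : RowMinus 12) : OrthRes12 := by
  intro Q _ _ hs A Γ hE F _ _ ι _ _ Qf m h7 h12 hQ hres
  have d7 : RowDim 7 := dim_of_odd r7
  have d8 : RowDim 8 := dim_of_even r8p r8m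
  have d9 : RowDim 9 := dim_of_odd r9
  have d10 : RowDim 10 := dim_of_even r10p r10m
  have d11 : RowDim 11 := dim_of_odd r11
  have d12 : RowDim 12 := dim_of_even r12p r12m
  obtain h | h | h | h | h | h : Fintype.card ι = 7 ∨ Fintype.card ι = 8 ∨ Fintype.card ι = 9 ∨ Fintype.card ι = 10 ∨
    Fintype.card ι = 11 ∨ Fintype.card ι = 12 := by omega
  · exact d7 hs hE m h hQ hres
  · exact d8 hs hE m h hQ hres
  · exact d9 hs hE m h hQ hres
  · exact d10 hs hE m h hQ hres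
  · exact d11 hs hE m h hQ hres
  · exact d12 hs hE m h hQ hres

end Cfsg.Agent.H982.EP
end

-- part: H814/O8P/Num
section
prune_inst 0x355065041de2120000008512d0201c62be00000000080400c4c30a440e81ec224d822060b13021055ae2008540390068130000a0420000000a000400011d018000800000b108010862001e000180000000000000000000000000000000010000200000000
set_option linter.all false
open scoped Cfsg.Agent.FastGrp

-- part: H473/TR/Base
section
/-!
# Transport along a linear equivalence `F^ι → F^κ` (helper473)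

`Eqv ι κ F` : mutually inverse matrices; `E.gl : GL ι F ≃* GL κ F`; transport of `scalars`, `omegaGL`, `Model`, `IsResidualCore`,
`InOrthogonalResidualClass`.
-/

set_option autoImplicit false

namespace Cfsg.Agent.H473.TR

open Subgroup Cfsg.Agent.H419.EP Matrix
open scoped MatrixGroups Matrix

/-- mutually inverse matrices -/
structure Eqv (ι κ : Type) [Fintype ι] [DecidableEq ι] [Fintype κ] [DecidableEq κ] (F : Type*) [Field F] where
  P : Matrix κ ι F
  P' : Matrix ι κ F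
  PP' : P * P' = 1
  P'P : P' * P = 1

variable {ι κ : Type} [Fintype ι] [DecidableEq ι] [Fintype κ] [DecidableEq κ] {F : Type*} [Field F]

namespace Eqv

variable (E : Eqv ι κ F)

def symm : Eqv κ ι F := ⟨E.P', E.P, E.P'P, E.PP'⟩

/-- the linear equivalence -/
theorem mulVec_mulVec (v : κ → F) : E.P *ᵥ (E.P' *ᵥ v) = v := by
  rw [Matrix.mulVec_mulVec, E.PP', Matrix.one_mulVec]

theorem mulVec_mulVec' (v : ι → F) : E.P' *ᵥ (E.P *ᵥ v) = v := E.symm.mulVec_mulVec v

theorem mul_mul (A B : Matrix ι ι F) : (E.P * A * E.P') * (E.P * B * E.P') = E.P * (A * B) * E.P' := by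
  calc (E.P * A * E.P') * (E.P * B * E.P') = E.P * A * (E.P' * E.P) * B * E.P' := by
        simp only [Matrix.mul_assoc]
    _ = _ := by rw [E.P'P, Matrix.mul_one, Matrix.mul_assoc E.P A B]

theorem inv_cj (A : Matrix ι ι F) : E.P' * (E.P * A * E.P') * E.P = A := by
  calc E.P' * (E.P * A * E.P') * E.P = (E.P' * E.P) * A * (E.P' * E.P) := by
        simp only [Matrix.mul_assoc]
    _ = A := by rw [E.P'P, Matrix.one_mul, Matrix.mul_one]

/-- the isomorphism of the linear groups -/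
def gl : GL ι F ≃* GL κ F where
  toFun g := ⟨E.P * (g : Matrix ι ι F) * E.P', E.P * ((g⁻¹ : GL ι F) : Matrix ι ι F) * E.P', by
      rw [E.mul_mul, ← Units.val_mul, mul_inv_cancel, Units.val_one, Matrix.mul_one, E.PP'], by
      rw [E.mul_mul, ← Units.val_mul, inv_mul_cancel, Units.val_one, Matrix.mul_one, E.PP']⟩
  invFun g := ⟨E.P' * (g : Matrix κ κ F) * E.P, E.P' * ((g⁻¹ : GL κ F) : Matrix κ κ F) * E.P, by
      refine (E.symm.mul_mul _ _).trans ?_
      rw [← Units.val_mul, mul_inv_cancel, Units.val_one, Matrix.mul_one]; exact E.P'P, by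
      refine (E.symm.mul_mul _ _).trans ?_
      rw [← Units.val_mul, inv_mul_cancel, Units.val_one, Matrix.mul_one]; exact E.P'P⟩
  left_inv g := Units.ext (E.inv_cj _)
  right_inv g := Units.ext (E.symm.inv_cj _)
  map_mul' g h := Units.ext (by
    show E.P * ((g * h : GL ι F) : Matrix ι ι F) * E.P' = (E.P * (g : Matrix ι ι F) * E.P') * (E.P * (h : Matrix ι ι F) * E.P')
    rw [E.mul_mul, Units.val_mul])

theorem coe_gl (g : GL ι F) : ((E.gl g : GL κ F) : Matrix κ κ F) = E.P * (g : Matrix ι ι F) * E.P' := rfl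

theorem gl_symm_gl (g : GL ι F) : E.symm.gl (E.gl g) = g := E.gl.symm_apply_apply g

theorem gl_gl_symm (g : GL κ F) : E.gl (E.symm.gl g) = g := E.gl.apply_symm_apply g

theorem gl_mulVec (g : GL ι F) (v : ι → F) :
    ((E.gl g : GL κ F) : Matrix κ κ F) *ᵥ (E.P *ᵥ v) = E.P *ᵥ ((g : Matrix ι ι F) *ᵥ v) := by
  rw [coe_gl, ← Matrix.mulVec_mulVec, E.mulVec_mulVec', Matrix.mulVec_mulVec]

/-! ## scalars -/

theorem gl_scalar {g : GL ι F} (hg : g ∈ Cfsg.Geo.scalars ι F) : E.gl g ∈ Cfsg.Geo.scalars κ F := by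
  obtain ⟨c, hc⟩ := (Cfsg.Geo.mem_scalars_iff g).1 hg
  rw [Cfsg.Geo.mem_scalars_iff]
  refine ⟨c, ?_⟩
  rw [coe_gl, hc, Matrix.mul_smul, Matrix.mul_one, Matrix.smul_mul, E.PP']

theorem gl_scalar_iff {g : GL ι F} : E.gl g ∈ Cfsg.Geo.scalars κ F ↔ g ∈ Cfsg.Geo.scalars ι F :=
  ⟨fun h => by rw [← E.gl_symm_gl g]; exact E.symm.gl_scalar h, E.gl_scalar⟩

/-! ## subgroups -/

/-- image of a subgroup -/
def mp (H : Subgroup (GL ι F)) : Subgroup (GL κ F) := H.map E.gl.toMonoidHom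

theorem gl_mem {H : Subgroup (GL ι F)} {g : GL ι F} : E.gl g ∈ E.mp H ↔ g ∈ H :=
  Subgroup.mem_map_iff_mem E.gl.injective

theorem mem_mp {H : Subgroup (GL ι F)} {g : GL κ F} : g ∈ E.mp H ↔ E.symm.gl g ∈ H := by
  rw [← E.gl_mem, E.gl_gl_symm]

theorem mp_symm (H : Subgroup (GL ι F)) : E.symm.mp (E.mp H) = H := by
  ext g
  rw [E.symm.mem_mp]
  exact E.gl_mem

theorem mp_mp_symm (H : Subgroup (GL κ F)) : E.mp (E.symm.mp H) = H := E.symm.mp_symm H

/-! ## models -/

/-- transport of a model -/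
def tr {Q : Type*} [Group Q] {S : Subgroup (GL ι F)} {S' : Subgroup (GL κ F)} (hS : E.mp S = S') (m : Model Q S) :
    Model Q S' where
  π := m.π.comp ((E.symm.gl.toMonoidHom.comp S'.subtype).codRestrict S fun s => by
    have h1 : (s : GL κ F) ∈ E.mp S := by
      rw [hS]
      exact s.2
    exact E.mem_mp.1 h1)
  surj := by
    intro x
    obtain ⟨s, rfl⟩ := m.surj x
    have h1 : E.gl s ∈ S' := by
      rw [← hS]
      exact E.gl_mem.2 s.2
    refine ⟨⟨E.gl s, h1⟩, ?_⟩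
    rw [MonoidHom.comp_apply]
    congr 1
    exact Subtype.ext (E.gl_symm_gl _)
  ker := by
    intro s
    rw [MonoidHom.comp_apply, m.ker]
    show E.symm.gl (s : GL κ F) ∈ _ ↔ _
    exact E.symm.gl_scalar_iff

theorem hat_tr {Q : Type*} [Group Q] {S : Subgroup (GL ι F)} {S' : Subgroup (GL κ F)} (hS : E.mp S = S') (m : Model Q S)
    (A : Subgroup Q) : (E.tr hS m).hat A = E.mp (m.hat A) := by
  ext g
  rw [Model.mem_hat, E.mem_mp, Model.mem_hat]
  constructor
  · rintro ⟨hg, h1⟩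
    have h2 : E.symm.gl g ∈ S := by
      rw [← hS] at hg
      exact E.mem_mp.1 hg
    exact ⟨h2, h1⟩
  · rintro ⟨hg, h1⟩
    have h2 : g ∈ S' := by
      rw [← hS]
      exact E.mem_mp.2 hg
    exact ⟨h2, h1⟩

/-! ## the residual core -/

theorem mem_matrixSet {R : Subgroup (GL ι F)} {s : Matrix ι ι F} (hs : s ∈ Cfsg.Geo.matrixSet R) :
    E.P * s * E.P' ∈ Cfsg.Geo.matrixSet (E.mp R) := by
  obtain ⟨g, hg, rfl⟩ := hs
  exact ⟨E.gl g, E.gl_mem.2 hg, rfl⟩

theorem irred {R : Subgroup (GL ι F)} (h : Cfsg.Geo.ActsIrreducibly (Cfsg.Geo.matrixSet R)) :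
    Cfsg.Geo.ActsIrreducibly (Cfsg.Geo.matrixSet (E.mp R)) := by
  intro W hW
  have h1 := h (W.comap (Matrix.toLin' E.P)) (by
    rintro s hs _ ⟨v, hv, rfl⟩
    have h2 := hW _ (E.mem_matrixSet hs) ⟨_, hv, rfl⟩
    rw [Submodule.mem_comap]
    rw [Matrix.toLin'_apply, Matrix.toLin'_apply] at h2 ⊢
    rw [← Matrix.mulVec_mulVec, ← Matrix.mulVec_mulVec, E.mulVec_mulVec'] at h2
    exact h2)
  rcases h1 with h1 | h1
  · left
    rw [eq_bot_iff]
    intro w hw
    have h2 : E.P' *ᵥ w ∈ W.comap (Matrix.toLin' E.P) := by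
      rw [Submodule.mem_comap, Matrix.toLin'_apply, E.mulVec_mulVec]
      exact hw
    rw [h1, Submodule.mem_bot] at h2
    rw [Submodule.mem_bot, ← E.mulVec_mulVec w, h2, Matrix.mulVec_zero]
  · right
    rw [eq_top_iff]
    intro w _
    have h2 : E.P' *ᵥ w ∈ W.comap (Matrix.toLin' E.P) := by
      rw [h1]
      trivial
    rw [Submodule.mem_comap, Matrix.toLin'_apply, E.mulVec_mulVec] at h2
    exact h2

theorem absIrred {R : Subgroup (GL ι F)} (h : Cfsg.Geo.ActsAbsolutelyIrreducibly (Cfsg.Geo.matrixSet R)) :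
    Cfsg.Geo.ActsAbsolutelyIrreducibly (Cfsg.Geo.matrixSet (E.mp R)) := by
  refine ⟨E.irred h.1, fun M hM => ?_⟩
  obtain ⟨c, hc⟩ := h.2 (E.P' * M * E.P) (by
    intro s hs
    have h1 : E.P' * (M * (E.P * s * E.P')) * E.P = E.P' * (E.P * s * E.P' * M) * E.P := by
      rw [hM _ (E.mem_matrixSet hs)]
    have e1 : E.P' * (M * (E.P * s * E.P')) * E.P = E.P' * M * E.P * s * (E.P' * E.P) := by
      simp only [Matrix.mul_assoc]
    have e2 : E.P' * (E.P * s * E.P' * M) * E.P = (E.P' * E.P) * s * (E.P' * M * E.P) := by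
      simp only [Matrix.mul_assoc]
    rw [e1, e2, E.P'P, Matrix.mul_one, Matrix.one_mul] at h1
    exact h1)
  refine ⟨c, ?_⟩
  rw [← E.symm.inv_cj M]
  show E.P * (E.P' * M * E.P) * E.P' = _
  rw [hc, Matrix.mul_smul, Matrix.mul_one, Matrix.smul_mul, E.PP']

include E in
theorem card_eq : Fintype.card ι = Fintype.card κ := by
  have h1 : Function.Bijective (Matrix.toLin' E.P) := by
    refine ⟨fun v w h => ?_, fun w => ⟨E.P' *ᵥ w, ?_⟩⟩
    · rw [Matrix.toLin'_apply, Matrix.toLin'_apply] at h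
      rw [← E.mulVec_mulVec' v, h, E.mulVec_mulVec']
    · rw [Matrix.toLin'_apply, E.mulVec_mulVec]
  have h2 := (LinearEquiv.ofBijective _ h1).finrank_eq
  rwa [Module.finrank_fintype_fun_eq_card, Module.finrank_fintype_fun_eq_card] at h2

theorem realisable {F₀ : Subfield F} {R : Subgroup (GL ι F)}
    (h : Cfsg.Geo.RealisableOver F₀ (Cfsg.Geo.matrixSet (E.mp R))) : Cfsg.Geo.RealisableOver F₀ (Cfsg.Geo.matrixSet R) := by
  obtain ⟨B, hB⟩ := h
  obtain ⟨τ⟩ : Nonempty (ι ≃ κ) := Fintype.card_eq.1 E.card_eq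
  have e1 : ((B : Matrix κ κ F) * E.P).submatrix τ id * (E.P' * ((B⁻¹ : GL κ F) : Matrix κ κ F)).submatrix id τ = 1 := by
    rw [← Matrix.submatrix_mul _ _ _ _ _ Function.bijective_id]
    have : (B : Matrix κ κ F) * E.P * (E.P' * ((B⁻¹ : GL κ F) : Matrix κ κ F)) = 1 := by
      calc _ = (B : Matrix κ κ F) * (E.P * E.P') * ((B⁻¹ : GL κ F) : Matrix κ κ F) := by simp only [Matrix.mul_assoc]
        _ = 1 := by rw [E.PP', Matrix.mul_one, ← Units.val_mul, mul_inv_cancel, Units.val_one]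
    rw [this, Matrix.submatrix_one _ τ.injective]
  have e2 : (E.P' * ((B⁻¹ : GL κ F) : Matrix κ κ F)).submatrix id τ * ((B : Matrix κ κ F) * E.P).submatrix τ id = 1 :=
    mul_eq_one_comm.1 e1
  refine ⟨⟨((B : Matrix κ κ F) * E.P).submatrix τ id, (E.P' * ((B⁻¹ : GL κ F) : Matrix κ κ F)).submatrix id τ, e1, e2⟩,
    fun s hs i j => ?_⟩
  have h1 := hB _ (E.mem_matrixSet hs) (τ i) (τ j)
  show (((B : Matrix κ κ F) * E.P).submatrix τ id * s * (E.P' * ((B⁻¹ : GL κ F) : Matrix κ κ F)).submatrix id τ) i j ∈ F₀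
  have e3 : ((B : Matrix κ κ F) * E.P).submatrix τ id * s * (E.P' * ((B⁻¹ : GL κ F) : Matrix κ κ F)).submatrix id τ =
      ((B : Matrix κ κ F) * (E.P * s * E.P') * ((B⁻¹ : GL κ F) : Matrix κ κ F)).submatrix τ τ := by
    have e4 : s = s.submatrix id id := rfl
    conv_lhs => rw [e4]
    rw [← Matrix.submatrix_mul _ _ _ _ _ Function.bijective_id, ← Matrix.submatrix_mul _ _ _ _ _ Function.bijective_id]
    congr 1
    simp only [Matrix.mul_assoc]
  rw [e3]
  exact h1

theorem core {H R : Subgroup (GL ι F)} (h : Cfsg.Geo.IsResidualCore H R) : Cfsg.Geo.IsResidualCore (E.mp H) (E.mp R) := by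
  have e : (R ⧸ (Cfsg.Geo.scalars ι F).subgroupOf R) ≃*
      ((E.mp R) ⧸ (Cfsg.Geo.scalars κ F).subgroupOf (E.mp R)) := by
    refine QuotientGroup.congr _ _ (R.equivMapOfInjective E.gl.toMonoidHom E.gl.injective) ?_
    ext g
    constructor
    · rintro ⟨x, hx, rfl⟩
      exact E.gl_scalar hx
    · intro hg
      obtain ⟨x, rfl⟩ := (R.equivMapOfInjective E.gl.toMonoidHom E.gl.injective).surjective g
      exact ⟨x, E.gl_scalar_iff.1 hg, rfl⟩
  refine ⟨Subgroup.map_mono h.le, ?_, ?_, ?_, ?_, ?_, E.absIrred h.absIrred, fun F₀ h0 hr => h.no_subfield F₀ h0 (E.realisable hr)⟩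
  · rintro _ ⟨a, ha, rfl⟩ _ ⟨x, hx, rfl⟩
    exact ⟨a * x * a⁻¹, h.normal a ha x hx, by simp only [_root_.MulEquiv.toMonoidHom_eq_coe, _root_.MonoidHom.coe_coe, _root_.map_mul, _root_.map_inv]⟩
  · show ⁅R.map _, R.map _⁆ = R.map _
    rw [← Subgroup.map_commutator, h.perfect]
  · have := h.simple
    exact e.symm.isSimpleGroup
  · intro hab
    exact h.nonabelian ⟨⟨fun x y => e.injective (by rw [map_mul, map_mul]; exact hab.1.1 _ _)⟩⟩
  · rintro _ ⟨a, ha, rfl⟩ hc
    refine E.gl_scalar (h.centralizer_scalar a ha fun x hx => ?_)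
    have h1 := hc (E.gl x) (E.gl_mem.2 hx)
    rw [← E.gl_scalar_iff]
    simpa only [_root_.map_mul, _root_.map_inv, _root_.MulEquiv.toMonoidHom_eq_coe, _root_.MonoidHom.coe_coe] using h1

theorem unitary {σ : F ≃+* F} {f : (κ → F) → (κ → F) → F} (hf : Cfsg.Geo.IsUnitaryForm σ f) :
    Cfsg.Geo.IsUnitaryForm σ fun u v => f (E.P *ᵥ u) (E.P *ᵥ v) where
  ne_refl := hf.ne_refl
  involutive := hf.involutive
  add_left x y v := by rw [Matrix.mulVec_add, hf.add_left]
  smul_left c x v := by rw [Matrix.mulVec_smul, hf.smul_left]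
  herm v w := hf.herm _ _
  nondegenerate := by
    intro v hv
    have h1 : E.P *ᵥ v ≠ 0 := by
      intro h0
      apply hv
      rw [← E.mulVec_mulVec' v, h0, Matrix.mulVec_zero]
    obtain ⟨⟨x, hx⟩, ⟨y, hy⟩⟩ := hf.nondegenerate _ h1
    refine ⟨⟨E.P' *ᵥ x, ?_⟩, ⟨E.P' *ᵥ y, ?_⟩⟩
    · show f (E.P *ᵥ (E.P' *ᵥ x)) (E.P *ᵥ v) ≠ 0
      rw [E.mulVec_mulVec]
      exact hx
    · show f (E.P *ᵥ v) (E.P *ᵥ (E.P' *ᵥ y)) ≠ 0
      rw [E.mulVec_mulVec]
      exact hy

theorem fixes {R : Subgroup (GL ι F)} {f : (κ → F) → (κ → F) → F} (hf : Cfsg.Geo.FixesForm (Cfsg.Geo.matrixSet (E.mp R)) f) :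
    Cfsg.Geo.FixesForm (Cfsg.Geo.matrixSet R) fun u v => f (E.P *ᵥ u) (E.P *ᵥ v) := by
  rintro _ ⟨g, hg, rfl⟩ u v
  have h1 := hf _ ⟨E.gl g, E.gl_mem.2 hg, rfl⟩ (E.P *ᵥ u) (E.P *ᵥ v)
  simp only [E.gl_mulVec] at h1
  exact h1

theorem orthRes {H : Subgroup (GL ι F)} (h : Cfsg.Geo.InOrthogonalResidualClass H) :
    Cfsg.Geo.InOrthogonalResidualClass (E.mp H) := by
  obtain ⟨R, hR, hu⟩ := h
  refine ⟨E.mp R, E.core hR, ?_⟩
  rintro ⟨σ, f, hf, hfix⟩
  exact hu ⟨σ, _, E.unitary hf, E.fixes hfix⟩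

theorem orthRes_iff {H : Subgroup (GL ι F)} :
    Cfsg.Geo.InOrthogonalResidualClass (E.mp H) ↔ Cfsg.Geo.InOrthogonalResidualClass H :=
  ⟨fun h => by rw [← E.mp_symm H]; exact E.symm.orthRes h, E.orthRes⟩

end Eqv

end Cfsg.Agent.H473.TR
end

-- part: H473/TR/Om
section
/-!
# S3499, TRANSPORT-OM (helper473)

A model `Q = omegaGL Qf / scalars`, `Qf` nondegenerate on `F^ι`:
* `tr_fin` : a model over `Fin n`, `n = |ι|`, type (plus, not plus) unchanged;
* `tr_odd` : `|ι| = 2 k + 1` : `|F|` is odd, and a model over `quadFormOdd k F`;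
* `tr_plus`, `tr_minus` : the standard forms in even dimension.
In each case the residual class of `m.hat A` is unchanged.
-/

set_option autoImplicit false

namespace Cfsg.Agent.H473.TR

open Subgroup Cfsg.Agent.H419.EP Matrix Cfsg Cfsg.Geo
open Cfsg.Agent.LieClassical.OrthCore
open scoped MatrixGroups Matrix

variable {ι κ : Type} [Fintype ι] [DecidableEq ι] [Fintype κ] [DecidableEq κ] {F : Type*} [Field F]

/-- from a linear equivalence -/
noncomputable def ofLin (j : (ι → F) ≃ₗ[F] (κ → F)) : Eqv ι κ F where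
  P := LinearMap.toMatrix' (j : (ι → F) →ₗ[F] (κ → F))
  P' := LinearMap.toMatrix' (j.symm : (κ → F) →ₗ[F] (ι → F))
  PP' := by
    rw [← LinearMap.toMatrix'_comp, LinearEquiv.comp_coe, LinearEquiv.symm_trans_self]
    exact LinearMap.toMatrix'_id
  P'P := by
    rw [← LinearMap.toMatrix'_comp, LinearEquiv.comp_coe, LinearEquiv.self_trans_symm]
    exact LinearMap.toMatrix'_id

theorem ofLin_mulVec (j : (ι → F) ≃ₗ[F] (κ → F)) (v : ι → F) : (ofLin j).P *ᵥ v = j v := by
  show LinearMap.toMatrix' (j : (ι → F) →ₗ[F] (κ → F)) *ᵥ v = j v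
  rw [LinearMap.toMatrix'_mulVec]
  rfl

namespace Eqv

variable (E : Eqv ι κ F)

theorem mp_iso_le {Q : (ι → F) → F} {Q' : (κ → F) → F} {c : F} (h : ∀ v, Q' (E.P *ᵥ v) = c * Q v) :
    E.mp (isometryGroup F Q) ≤ isometryGroup F Q' := by
  rintro _ ⟨g, hg, rfl⟩ u v
  show Q' (((E.gl g : GL κ F) : Matrix κ κ F) *ᵥ u) = Q' u
  rw [← E.mulVec_mulVec u, E.gl_mulVec, h, h]
  congr 1
  exact hg _ 0

theorem mp_iso {Q : (ι → F) → F} {Q' : (κ → F) → F} {c : F} (hc : c ≠ 0) (h : ∀ v, Q' (E.P *ᵥ v) = c * Q v) :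
    E.mp (isometryGroup F Q) = isometryGroup F Q' := by
  refine le_antisymm (E.mp_iso_le h) ?_
  have h1 : E.symm.mp (isometryGroup F Q') ≤ isometryGroup F Q := by
    refine E.symm.mp_iso_le (c := c⁻¹) fun v => ?_
    show Q (E.P' *ᵥ v) = _
    have h2 := h (E.P' *ᵥ v)
    rw [E.mulVec_mulVec] at h2
    rw [h2, inv_mul_cancel_left₀ hc]
  rw [← E.mp_mp_symm (isometryGroup F Q')]
  exact Subgroup.map_mono h1

omit [DecidableEq κ] [Fintype κ] in
theorem omegaGL_eq (Q : (ι → F) → F) : omegaGL Q = ⁅isometryGroup F Q, isometryGroup F Q⁆ := by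
  unfold omegaGL
  rw [Omega, Subgroup.map_subtype_commutator]

theorem mp_omega {Q : (ι → F) → F} {Q' : (κ → F) → F} {c : F} (hc : c ≠ 0) (h : ∀ v, Q' (E.P *ᵥ v) = c * Q v) :
    E.mp (omegaGL Q) = omegaGL Q' := by
  rw [omegaGL_eq, omegaGL_eq, ← E.mp_iso hc h]
  exact Subgroup.map_commutator _ _ _

/-- the transported model -/
theorem exists_model {G : Type*} [Group G] {Q : (ι → F) → F} {Q' : (κ → F) → F} {c : F} (hc : c ≠ 0)
    (h : ∀ v, Q' (E.P *ᵥ v) = c * Q v) (m : Model G (omegaGL Q)) :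
    ∃ m' : Model G (omegaGL Q'), ∀ A : Subgroup G,
      (InOrthogonalResidualClass (m'.hat A) ↔ InOrthogonalResidualClass (m.hat A)) := by
  refine ⟨E.tr (E.mp_omega hc h) m, fun A => ?_⟩
  rw [E.hat_tr]
  exact E.orthRes_iff

end Eqv

/-! ## reindexing -/

section fin

variable {G : Type*} [Group G]

end fin

/-! ## standard forms -/

section std

variable {G : Type*} [Group G]

omit [Fintype ι] [DecidableEq ι] in
theorem plusTop_iff {Q : QuadraticForm F (ι → F)} : IsPlusTypeOn (⇑Q) ⊤ ↔ H955.IsPlus Q := by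
  constructor
  · rintro ⟨U, -, hU0, hd⟩
    exact ⟨U, fun u hu => hU0 u hu, by rw [hd, finrank_top]⟩
  · rintro ⟨U, hU0, hd⟩
    exact ⟨U, le_top, fun u hu => hU0 u hu, by rw [finrank_top]; exact hd⟩

/-- **plus type** -/
theorem tr_plus {Qf : (ι → F) → F} (hQ : IsNondegenerateQuadraticForm Qf) (m : Model G (omegaGL Qf)) {k : ℕ}
    (hn : Fintype.card ι = 2 * k) (hp : IsPlusTypeOn Qf ⊤) :
    ∃ m' : Model G (omegaGL (quadFormPlus k F)), ∀ A : Subgroup G,
      (InOrthogonalResidualClass (m'.hat A) ↔ InOrthogonalResidualClass (m.hat A)) := by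
  obtain ⟨Q', hQ', hnd⟩ := H883.Bridge.exists_quadraticForm hQ
  subst hQ'
  obtain ⟨e, he⟩ := H955.exists_plus_equiv k Q' hnd (by rw [Module.finrank_fintype_fun_eq_card, hn]) (plusTop_iff.1 hp)
  refine (ofLin e).exists_model one_ne_zero (fun v => ?_) m
  rw [ofLin_mulVec, one_mul, ← he, ← LieClassical.QuadForms.coe_plusForm]

end std

end Cfsg.Agent.H473.TR
end

-- part: H814/O8P/Num
section
/-!
# S3499, row `PΩ₈⁺(q)`: orders and index bounds (helper814)
-/

set_option autoImplicit false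
set_option linter.unusedSectionVars false

namespace Cfsg.Agent.H814.O8P

open Subgroup Cfsg Cfsg.Geo Cfsg.Agent.H284 Cfsg.Agent.H419.EP Cfsg.Agent.H59.EP
open scoped MatrixGroups

/-- the order polynomial of `Ω₈⁺` -/
def N8 (q : ℕ) : ℕ := q ^ 12 * (q ^ 4 - 1) * ((q ^ 2 - 1) * (q ^ 4 - 1) * (q ^ 6 - 1))

theorem N8_mono {a b : ℕ} (h : a ≤ b) : N8 a ≤ N8 b := by
  unfold N8
  have key : ∀ n, a ^ n - 1 ≤ b ^ n - 1 := fun n => Nat.sub_le_sub_right (Nat.pow_le_pow_left h n) 1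
  exact Nat.mul_le_mul (Nat.mul_le_mul (Nat.pow_le_pow_left h 12) (key 4))
    (Nat.mul_le_mul (Nat.mul_le_mul (key 2) (key 4)) (key 6))

section Order

variable {Q : Type*} [Group Q] {ι : Type} [Fintype ι] [DecidableEq ι] {F : Type*} [Field F] [Fintype F]
  {Qf : (ι → F) → F}

/-- **The order of `PΩ₈⁺(q)`.** -/
theorem card_o8 (hQ : IsNondegenerateQuadraticForm Qf) (hp : IsPlusTypeOn Qf ⊤) (hn : Fintype.card ι = 8)
    (m : Model Q (omegaGL Qf)) :
    Nat.gcd 4 (Fintype.card F ^ 4 - 1) * Nat.card Q = N8 (Fintype.card F) := by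
  obtain ⟨m₁, -⟩ := H473.TR.tr_plus hQ m (k := 4) (by rw [hn]) hp
  obtain ⟨m₂⟩ := H775.EP.model_plus 4 (by norm_num) F
  obtain ⟨e⟩ := H36.EPL.model_equiv m₁ m₂
  rw [Nat.card_congr e.toEquiv, Cfsg.Agent.S0293.result (F := F) rfl 4 le_rfl]
  unfold N8
  rw [show 4 - 1 = 3 by norm_num, Finset.prod_range_succ, Finset.prod_range_succ, Finset.prod_range_succ,
    Finset.prod_range_zero, one_mul]

theorem card_ge (hQ : IsNondegenerateQuadraticForm Qf) (hp : IsPlusTypeOn Qf ⊤) (hn : Fintype.card ι = 8)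
    (m : Model Q (omegaGL Qf)) {q₀ : ℕ} (hq : q₀ ≤ Fintype.card F) : N8 q₀ ≤ 4 * Nat.card Q := by
  refine (N8_mono hq).trans ?_
  rw [← card_o8 hQ hp hn m]
  exact Nat.mul_le_mul_right _ (Nat.gcd_le_left _ (by norm_num))

theorem card_two (hQ : IsNondegenerateQuadraticForm Qf) (hp : IsPlusTypeOn Qf ⊤) (hn : Fintype.card ι = 8)
    (m : Model Q (omegaGL Qf)) (hF : Fintype.card F = 2) : Nat.card Q = 174182400 := by
  have h := card_o8 hQ hp hn m
  rw [hF] at h
  have h1 : Nat.gcd 4 (2 ^ 4 - 1) = 1 := by decide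
  have h2 : N8 2 = 174182400 := by norm_num [N8]
  rw [h1, h2, one_mul] at h
  exact h

theorem card_three (hQ : IsNondegenerateQuadraticForm Qf) (hp : IsPlusTypeOn Qf ⊤) (hn : Fintype.card ι = 8)
    (m : Model Q (omegaGL Qf)) (hF : Fintype.card F = 3) : Nat.card Q = 4952179814400 := by
  have h := card_o8 hQ hp hn m
  rw [hF] at h
  have h1 : Nat.gcd 4 (3 ^ 4 - 1) = 4 := by decide
  have h2 : N8 3 = 4 * 4952179814400 := by norm_num [N8]
  rw [h1, h2] at h
  exact Nat.eq_of_mul_eq_mul_left (by norm_num) h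

theorem gcd_even {q : ℕ} (hq1 : 1 < q) (he : Even q) : Nat.gcd 4 (q ^ 4 - 1) = 1 := by
  have h2 : Odd (q ^ 4 - 1) := by
    have h3 : Even (q ^ 4) := he.pow_of_ne_zero (by norm_num)
    obtain ⟨c, hc⟩ := h3
    have : 0 < q ^ 4 := pow_pos (by omega) 4
    exact ⟨c - 1, by omega⟩
  have h3 : Nat.Coprime (2 ^ 2) (q ^ 4 - 1) := Nat.Coprime.pow_left 2 (Nat.coprime_two_left.2 h2)
  exact h3

theorem card_even (hQ : IsNondegenerateQuadraticForm Qf) (hp : IsPlusTypeOn Qf ⊤) (hn : Fintype.card ι = 8)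
    (m : Model Q (omegaGL Qf)) (he : Even (Fintype.card F)) : Nat.card Q = N8 (Fintype.card F) := by
  have h := card_o8 hQ hp hn m
  rwa [gcd_even Fintype.one_lt_card he, one_mul] at h

/-- `|Q|` is divisible by `2 ^ 12`, in particular by `2 ^ 8` -/
theorem dvd_card (hQ : IsNondegenerateQuadraticForm Qf) (hp : IsPlusTypeOn Qf ⊤) (hn : Fintype.card ι = 8)
    (m : Model Q (omegaGL Qf)) : 2 ^ 8 ∣ Nat.card Q := by
  have h := card_o8 hQ hp hn m
  set q := Fintype.card F with hq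
  have hq1 : 1 < q := Fintype.one_lt_card
  rcases Nat.even_or_odd q with he | ho
  · rw [gcd_even hq1 he, one_mul] at h
    rw [h]
    unfold N8
    refine Dvd.dvd.mul_right (Dvd.dvd.mul_right ?_ _) _
    exact (pow_dvd_pow 2 (by norm_num : 8 ≤ 12)).trans (pow_dvd_pow_of_dvd he.two_dvd 12)
  · -- `8 ∣ q ^ 2 - 1`, `16 ∣ q ^ 4 - 1`
    have h8 : 8 ∣ q ^ 2 - 1 := by
      obtain ⟨k, hk⟩ := ho
      obtain ⟨c, hc⟩ := (Nat.even_mul_succ_self k).two_dvd
      refine ⟨c, ?_⟩
      have h4 : q ^ 2 = 4 * (k * (k + 1)) + 1 := by rw [hk]; ring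
      rw [h4, hc]
      omega
    have h4 : 8 ∣ q ^ 4 - 1 := by
      have h5 : q ^ 4 - 1 = (q ^ 2 - 1) * (q ^ 2 + 1) := by
        have h6 : 1 ≤ q ^ 2 := Nat.one_le_pow _ _ (by omega)
        obtain ⟨c, hc⟩ : ∃ c, q ^ 2 = c + 1 := ⟨q ^ 2 - 1, by omega⟩
        have h7 : q ^ 4 = (c + 1) * (c + 1) := by rw [← hc]; ring
        rw [h7, hc, Nat.add_sub_cancel]
        have : (c + 1) * (c + 1) = c * (c + 1 + 1) + 1 := by ring
        omega
      rw [h5]
      exact h8.mul_right _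
    have h6 : 8 ∣ q ^ 6 - 1 := by
      have h7 : q ^ 6 - 1 = (q ^ 2 - 1) * (q ^ 4 + q ^ 2 + 1) := by
        have h6 : 1 ≤ q ^ 2 := Nat.one_le_pow _ _ (by omega)
        obtain ⟨c, hc⟩ : ∃ c, q ^ 2 = c + 1 := ⟨q ^ 2 - 1, by omega⟩
        have e6 : q ^ 6 = (c + 1) * (c + 1) * (c + 1) := by rw [← hc]; ring
        have e4 : q ^ 4 = (c + 1) * (c + 1) := by rw [← hc]; ring
        rw [e6, e4, hc, Nat.add_sub_cancel]
        have : (c + 1) * (c + 1) * (c + 1) = c * ((c + 1) * (c + 1) + (c + 1) + 1) + 1 := by ring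
        omega
      rw [h7]
      exact h8.mul_right _
    have h9 : 8 * 8 * (8 * 8) ∣ N8 q := by
      unfold N8
      have e : q ^ 12 * (q ^ 4 - 1) * ((q ^ 2 - 1) * (q ^ 4 - 1) * (q ^ 6 - 1)) =
          q ^ 12 * (((q ^ 4 - 1) * (q ^ 2 - 1)) * ((q ^ 4 - 1) * (q ^ 6 - 1))) := by ring
      rw [e]
      exact Dvd.dvd.mul_left (Nat.mul_dvd_mul (Nat.mul_dvd_mul h4 h8) (Nat.mul_dvd_mul h4 h6)) _
    rw [← h] at h9
    have h10 : Nat.gcd 4 (q ^ 4 - 1) = 4 := Nat.gcd_eq_left ((by norm_num : 4 ∣ 8).trans h4)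
    rw [h10] at h9
    have h11 : 4 * (2 ^ 10) ∣ 4 * Nat.card Q := by norm_num only [] at h9 ⊢; exact h9
    exact (pow_dvd_pow 2 (by norm_num : 8 ≤ 10)).trans (Nat.dvd_of_mul_dvd_mul_left (by norm_num) h11)

end Order

section Kill

variable {Q : Type} [Group Q] [Finite Q] {A : Subgroup Q} {Γ : Subgroup (MulAut Q)}
variable {F : Type} [Field F] [Fintype F] {ι : Type} [Fintype ι] [DecidableEq ι] {Qf : (ι → F) → F}

theorem dvd_aut {L : Type*} [Group L] [Finite L] (h : HasSoc A L) : Nat.card A ∣ Nat.card (MulAut L) := by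
  obtain ⟨f, hf⟩ := h.exists_hom
  rw [Nat.card_congr (MonoidHom.ofInjective hf).toEquiv]
  exact Subgroup.card_subgroup_dvd_card _

/-- contradiction from `|A| ≤ a`, `|Q : A| ≤ b` -/
theorem false_of_bound (hQ : IsNondegenerateQuadraticForm Qf) (hp : IsPlusTypeOn Qf ⊤) (hn : Fintype.card ι = 8)
    (m : Model Q (omegaGL Qf)) {q₀ a b : ℕ} (hq : q₀ ≤ Fintype.card F) (ha : Nat.card A ≤ a) (hb : A.index ≤ b)
    (hnum : 4 * (a * b) < N8 q₀) : False := by
  have h1 := card_ge hQ hp hn m hq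
  rw [← A.card_mul_index] at h1
  have h2 := Nat.mul_le_mul_left 4 (Nat.mul_le_mul ha hb)
  omega

/-- the general index bound, `|A|` divides the number with factorisation `l` -/
theorem index_le (hg : TwoGen.{0}) (hs : IsSimpleGroup Q) (h : EPT A Γ) {L : Type*} [Group L] [Finite L]
    (hL : IsSimpleGroup L) (hLn : ¬ ∀ a b : L, a * b = b * a) (hS : HasSoc A L) {N : ℕ}
    (hN : Nat.card (MulAut L) ∣ N) (hN0 : N ≠ 0) (l : List (ℕ × ℕ)) (h1 : ∀ x ∈ l, x.1.Prime ∧ 0 < x.2)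
    (h2 : (l.map Prod.fst).Nodup)
    (hl : N = (l.map fun x => x.1 ^ x.2).prod) (hB : N < 60 ^ 61) {b : ℕ}
    (hb : 1 + ((l.map fun x => gal x.1 x.2).sum * (N / 6) + N ^ 2 / 60 + N ^ 3 / 12744000) * (2 * (N / 6)) ≤ b) :
    A.index ≤ b := by
  have hd := (dvd_aut hS).trans hN
  have hab : ∀ K : Subgroup Q, K ≤ A → (∀ a ∈ A, ∀ k ∈ K, a * k * a⁻¹ ∈ K) → (∀ a ∈ K, ∀ b ∈ K, a * b = b * a) →
      K = ⊥ := fun K k1 k2 k3 => hS.no_abelian hL hLn k1 k2 k3
  have h3 := EPT.ncard_le_gen_dvd h hg hab l h1 h2 (by rw [← hl]; exact hd) (by rw [← hl]; exact hB)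
  rw [← hl] at h3
  refine index_le_of h3 (H173.EP.ub1 hs h (by norm_num) fun _ hx => EPT.six_le h hab hx) (le_trans ?_ hb)
  refine Nat.add_le_add_left (Nat.mul_le_mul_left _ (Nat.mul_le_mul_left _ (Nat.div_le_div_right ?_))) 1
  exact Nat.le_of_dvd (Nat.pos_of_ne_zero hN0) hd

/-- **the general kill** -/
theorem kill (hg : TwoGen.{0}) (hs : IsSimpleGroup Q) (h : EPT A Γ) (hQ : IsNondegenerateQuadraticForm Qf)
    (hp : IsPlusTypeOn Qf ⊤) (hn : Fintype.card ι = 8) (m : Model Q (omegaGL Qf)) {L : Type*} [Group L] [Finite L]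
    (hL : IsSimpleGroup L) (hLn : ¬ ∀ a b : L, a * b = b * a) (hS : HasSoc A L) {N : ℕ}
    (hN : Nat.card (MulAut L) ∣ N) (hN0 : N ≠ 0) (l : List (ℕ × ℕ)) (h1 : ∀ x ∈ l, x.1.Prime ∧ 0 < x.2)
    (h2 : (l.map Prod.fst).Nodup) (hl : N = (l.map fun x => x.1 ^ x.2).prod) (hB : N < 60 ^ 61) {q₀ : ℕ}
    (hq : q₀ ≤ Fintype.card F)
    (hnum : 4 * (N * (1 + ((l.map fun x => gal x.1 x.2).sum * (N / 6) + N ^ 2 / 60 + N ^ 3 / 12744000) *
      (2 * (N / 6)))) < N8 q₀) : False :=
  false_of_bound hQ hp hn m hq (Nat.le_of_dvd (Nat.pos_of_ne_zero hN0) ((dvd_aut hS).trans hN))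
    (index_le hg hs h hL hLn hS hN hN0 l h1 h2 hl hB le_rfl) hnum

end Kill

end Cfsg.Agent.H814.O8P
end

private theorem dce_e523e7535ebe : _root_.True := by
  try have : _root_.True := by simp only [_root_.Cfsg.Agent.H814.O8P.N8.eq_1]
  exact _root_.True.intro
end

-- part: H680/EPR/RowSp6
section
prune_inst 0x3570654475e2120000008592d12020247c00019000200401fda30b460a0ff322cd8221404f8039054a4ea28100010028130000f0420000000a0004000005012080ab520633500d0c66001f801184000000000000000000000000000000051004200000000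
set_option linter.all false
open scoped Cfsg.Agent.FastGrp

-- part: H680/EPR/Tools
section
/-!
# S3499, residual class rows: tools (helper680)

* `equiv_of_models`, `card_sp_le` : `|Sp_2k(q)| ≤ 2 |Q|`;
* `idx_le` : the index bound of UB1 + UB2 for `HasSoc A L`, with the hypothesis `TwoGen` (proved: `H59.EP.twoGen`);
* `card_two` : `|A| = n` or `2 n`;
* orders and automorphism groups of `A_n`, `L₂(p)`, `U₃(3)`.
-/

set_option autoImplicit false

namespace Cfsg.Agent.H680.EPR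

open Subgroup Cfsg Cfsg.Agent.H284 Cfsg.Agent.H419.EP Cfsg.Agent.H59.EP
open scoped MatrixGroups

section model

variable {Q Q' : Type*} [Group Q] [Group Q'] {ι : Type} [Fintype ι] [DecidableEq ι] {F : Type*} [Field F]
  {S : Subgroup (GL ι F)}

/-- Two groups with a model on the same `S` are isomorphic. -/
theorem equiv_of_models (m : Model Q S) (m' : Model Q' S) : Nonempty (Q ≃* Q') := by
  have hk : m.π.ker = m'.π.ker := by
    ext s
    rw [MonoidHom.mem_ker, MonoidHom.mem_ker, m.ker, m'.ker]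
  exact ⟨(QuotientGroup.quotientKerEquivOfSurjective m.π m.surj).symm.trans
    ((QuotientGroup.quotientMulEquivOfEq hk).trans (QuotientGroup.quotientKerEquivOfSurjective m'.π m'.surj))⟩

end model

section sp

variable {Q : Type*} [Group Q] {F : Type*} [Field F] [Fintype F] {k : ℕ}

/-- the order of `Q` -/
theorem card_mul (hk : 1 ≤ k) (m : Model Q (Cfsg.spGL k F)) :
    Nat.card Q * Nat.gcd 2 (Fintype.card F - 1) =
      Fintype.card F ^ (k ^ 2) * ∏ i ∈ Finset.range k, (Fintype.card F ^ (2 * (i + 1)) - 1) := by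
  obtain ⟨e⟩ := equiv_of_models m (Cfsg.Agent.H729.EPM.modelPSp k F)
  rw [Nat.card_congr e.toEquiv, ← S0245.result rfl k, ← S0246.result rfl k hk]
  exact (Subgroup.card_eq_card_quotient_mul_card_subgroup _).symm

theorem card_sp_le (hk : 1 ≤ k) (m : Model Q (Cfsg.spGL k F)) :
    Fintype.card F ^ (k ^ 2) * ∏ i ∈ Finset.range k, (Fintype.card F ^ (2 * (i + 1)) - 1) ≤ Nat.card Q * 2 := by
  rw [← card_mul hk m]
  exact Nat.mul_le_mul_left _ (Nat.gcd_le_left _ (by norm_num))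

/-- monotonicity -/
theorem sp_mono {c q : ℕ} (h : c ≤ q) (k : ℕ) :
    c ^ (k ^ 2) * ∏ i ∈ Finset.range k, (c ^ (2 * (i + 1)) - 1) ≤
      q ^ (k ^ 2) * ∏ i ∈ Finset.range k, (q ^ (2 * (i + 1)) - 1) := by
  refine Nat.mul_le_mul (Nat.pow_le_pow_left h _) (Finset.prod_le_prod' fun i _ => ?_)
  exact Nat.sub_le_sub_right (Nat.pow_le_pow_left h _) _

end sp

section soc

variable {Q : Type*} [Group Q] [Finite Q] {A : Subgroup Q}

theorem card_dvd_of_soc {L : Type*} [Group L] (h : HasSoc A L) : Nat.card A ∣ Nat.card (MulAut L) := by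
  obtain ⟨f, hf⟩ := h.exists_hom
  exact Subgroup.card_dvd_of_injective f hf

theorem card_two {L : Type*} [Group L] (h : HasSoc A L) {n : ℕ} (hn : n ≠ 0) (hL : Nat.card L = n)
    (hA : Nat.card (MulAut L) ∣ 2 * n) : Nat.card A = n ∨ Nat.card A = 2 * n := by
  obtain ⟨d, hd⟩ := h.card_dvd
  have h1 := (card_dvd_of_soc h).trans hA
  rw [hL] at hd
  rw [hd, mul_comm 2 n] at h1
  have h2 : d ∣ 2 := Nat.dvd_of_mul_dvd_mul_left (Nat.pos_of_ne_zero hn) h1
  rcases (Nat.dvd_prime Nat.prime_two).1 h2 with rfl | rfl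
  · left; rw [hd, mul_one]
  · right; rw [hd, mul_comm]

/-- **UB1 + UB2** for `HasSoc A L` -/
theorem idx_le (hg : TwoGen.{0}) {Q : Type} [Group Q] [Finite Q] (hs : IsSimpleGroup Q) {A : Subgroup Q}
    {Γ : Subgroup (MulAut Q)} (h : EPT A Γ) {L : Type*} [Group L] (hS : HasSoc A L) (hL : IsSimpleGroup L)
    (hLn : ¬ ∀ a b : L, a * b = b * a) {N : ℕ} (hN : Nat.card A = N) (l : List (ℕ × ℕ))
    (h1 : ∀ x ∈ l, x.1.Prime ∧ 0 < x.2) (h2 : (l.map Prod.fst).Nodup) (h5 : ∀ x ∈ l, 5 ≤ x.1 → x.2 = 1)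
    (hc : N = (l.map fun x => x.1 ^ x.2).prod) {B : ℕ}
    (hB : 1 + ((l.map fun x => gal x.1 x.2).sum * (N / 6) + N ^ 2 / 60) * (2 * (N / 6)) ≤ B) : A.index ≤ B := by
  have hab : ∀ K : Subgroup Q, K ≤ A → (∀ a ∈ A, ∀ k ∈ K, a * k * a⁻¹ ∈ K) → (∀ a ∈ K, ∀ b ∈ K, a * b = b * a) →
      K = ⊥ := fun K hK hKn hKab => hS.no_abelian hL hLn hK hKn hKab
  subst hN
  exact (index_le_of (EPT.ncard_le_list h hg hab l h1 h2 h5 hc)
    (Cfsg.Agent.H173.EP.ub1 hs h (by norm_num) fun _ hx => EPT.six_le h hab hx) le_rfl).trans hB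

theorem kill {B a : ℕ} (hB : A.index ≤ B) (ha : Nat.card A ≤ a) (hlt : a * B < Nat.card Q) : False := by
  have h1 : Nat.card Q = Nat.card A * A.index := (Subgroup.card_mul_index A).symm
  have h2 : Nat.card Q ≤ a * B := by
    rw [h1]
    exact Nat.mul_le_mul ha hB
  omega

/-- both cases -/
theorem kill_two (hg : TwoGen.{0}) {Q : Type} [Group Q] [Finite Q] (hs : IsSimpleGroup Q) {A : Subgroup Q}
    {Γ : Subgroup (MulAut Q)} (h : EPT A Γ) {L : Type*} [Group L] (hS : HasSoc A L) (hL : IsSimpleGroup L)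
    (hLn : ¬ ∀ a b : L, a * b = b * a) {n : ℕ} (hn : n ≠ 0) (hLc : Nat.card L = n)
    (hA : Nat.card (MulAut L) ∣ 2 * n) (l l' : List (ℕ × ℕ))
    (h1 : ∀ x ∈ l, x.1.Prime ∧ 0 < x.2) (h2 : (l.map Prod.fst).Nodup) (h5 : ∀ x ∈ l, 5 ≤ x.1 → x.2 = 1)
    (hc : n = (l.map fun x => x.1 ^ x.2).prod)
    (h1' : ∀ x ∈ l', x.1.Prime ∧ 0 < x.2) (h2' : (l'.map Prod.fst).Nodup) (h5' : ∀ x ∈ l', 5 ≤ x.1 → x.2 = 1)
    (hc' : 2 * n = (l'.map fun x => x.1 ^ x.2).prod) {B B' : ℕ}
    (hB : 1 + ((l.map fun x => gal x.1 x.2).sum * (n / 6) + n ^ 2 / 60) * (2 * (n / 6)) ≤ B)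
    (hB' : 1 + ((l'.map fun x => gal x.1 x.2).sum * (2 * n / 6) + (2 * n) ^ 2 / 60) * (2 * (2 * n / 6)) ≤ B')
    (hlt : n * B < Nat.card Q) (hlt' : 2 * n * B' < Nat.card Q) : False := by
  rcases card_two hS hn hLc hA with hN | hN
  · exact kill (idx_le hg hs h hS hL hLn hN l h1 h2 h5 hc hB) hN.le hlt
  · exact kill (idx_le hg hs h hS hL hLn hN l' h1' h2' h5' hc' hB') hN.le hlt'

end soc

section groups

theorem card_aut_alt {n : ℕ} (hn : 4 ≤ n) (h6 : n ≠ 6) : Nat.card (MulAut (alternatingGroup (Fin n))) = n.factorial := by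
  rw [← Nat.card_congr (Equiv.ofBijective _ (Cfsg.Agent.S2119.result n hn h6)), Nat.card_eq_fintype_card,
    Fintype.card_perm, Fintype.card_fin]

theorem card_aut_psl_two {p : ℕ} [Fact p.Prime] (hp : 4 ≤ p) :
    Nat.card (MulAut (Matrix.ProjectiveSpecialLinearGroup (Fin 2) (ZMod p))) * (p - 1) =
      (p ^ 2 - 1) * (p ^ 2 - p) := by
  have hF : Fintype.card (ZMod p) = p ^ 1 := by rw [ZMod.card, pow_one]
  have h1 := Cfsg.Agent.S0813.result (F := ZMod p) p 1 le_rfl hF 2 le_rfl (fun _ => by rw [pow_one]; exact hp)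
  have h2 := Cfsg.Agent.ClassicalGeometry.PSL2Basic.card_PGL_mul (Fin 2) (ZMod p)
  rw [ZMod.card] at h2
  rw [h1, if_pos rfl, one_mul, one_mul, h2, Matrix.card_GL_field, ZMod.card, Fin.prod_univ_two]
  simp only [_root_.Fin.isValue, _root_.Fin.coe_ofNat_eq_mod, _root_.Nat.zero_mod, _root_.pow_zero, _root_.Nat.mod_succ, _root_.pow_one]

theorem card_psl_two {p : ℕ} [Fact p.Prime] (hp : Odd p) :
    2 * ((p - 1) * Nat.card (Matrix.ProjectiveSpecialLinearGroup (Fin 2) (ZMod p))) =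
      (p ^ 2 - 1) * (p ^ 2 - p) := by
  have h1 := Cfsg.Agent.S0243.result (F := ZMod p) (ZMod.card p) 2 le_rfl
  have h2 : Nat.gcd 2 (p - 1) = 2 := by
    rw [Nat.gcd_eq_left_iff_dvd]
    obtain ⟨k, rfl⟩ := hp
    exact ⟨k, by omega⟩
  rw [h2, Fin.prod_univ_two] at h1
  rw [h1]
  simp only [_root_.Fin.isValue, _root_.Fin.coe_ofNat_eq_mod, _root_.Nat.zero_mod, _root_.pow_zero, _root_.Nat.mod_succ, _root_.pow_one]

theorem not_comm_of_card {L : Type*} [Group L] [Finite L] (hL : IsSimpleGroup L) (h : ¬ (Nat.card L).Prime) :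
    ¬ ∀ a b : L, a * b = b * a := by
  intro hc
  letI : CommGroup L := { (inferInstance : Group L) with mul_comm := hc }
  exact h IsSimpleGroup.prime_card

theorem card_u33 {K : Type*} [Field K] [Fintype K] (hK : Fintype.card K = 9) : Nat.card (Cfsg.PSU 3 K 3) = 6048 := by
  have hK' : Fintype.card K = 3 ^ 2 := by rw [hK]; norm_num
  have h1 := S0280.result hK' 3 (by norm_num)
  simp only [Finset.prod_range_succ, Nat.even_iff, _root_.Nat.reduceAdd, _root_.Nat.reduceGcd, _root_.one_mul, _root_.Nat.add_one_sub_one, _root_.Nat.reduceMul, _root_.Nat.reduceDiv, _root_.Nat.reducePow, _root_.Finset.range_one, _root_.Finset.prod_singleton, _root_.Nat.zero_mod, ↓ _root_.reduceIte, _root_.zero_add, _root_.pow_one, _root_.Nat.mod_succ, _root_.one_ne_zero, _root_.Nat.mod_self] at h1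
  omega

theorem card_aut_u33 {K : Type*} [Field K] [Fintype K] (hK : Fintype.card K = 9) :
    Nat.card (MulAut (Cfsg.PSU 3 K 3)) = 12096 := by
  have h3 : Fact (Nat.Prime 3) := ⟨Nat.prime_three⟩
  have hK' : Fintype.card K = 3 ^ 2 := by rw [hK]; norm_num
  rw [S0815.result 3 1 le_rfl (by norm_num) hK' 3 (by norm_num) (by norm_num), card_u33 hK]
  norm_num

end groups

end Cfsg.Agent.H680.EPR
end

-- part: H680/EPR/RowSp6
section
/-!
# S3499, row S5806: `Sp_6(q)`, `q ≥ 3`, residual class (helper680, task 5972)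

`row_of` from the list S5806, the index bounds for `L₂(13)` (`q = 3`) and `J₂`, and the cases `L₂(q)`, `G₂(q)`.
-/

set_option autoImplicit false

namespace Cfsg.Agent.H680.EPR

open Subgroup Cfsg Cfsg.Agent.H284 Cfsg.Agent.H419.EP Cfsg.Agent.H59.EP
open scoped MatrixGroups

/-- the conclusion of S5806 -/
def List5806 {F : Type} [Field F] [Fintype F] (H : Subgroup (GL (Fin 3 ⊕ Fin 3) F)) : Prop :=
  ∃ (P : Subgroup (Matrix.GeneralLinearGroup (Fin 3 ⊕ Fin 3) F)) (p : ℕ), Cfsg.Geo.IsResidualCore H P ∧ p.Prime ∧ CharP F p ∧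
    ((Nonempty ((P ⧸ (Cfsg.Geo.scalars (Fin 3 ⊕ Fin 3) F).subgroupOf P) ≃* alternatingGroup (Fin 5)) ∧ Fintype.card F = p ∧ (p % 40 = 3 ∨ p % 40 = 37 ∨ p % 40 = 13 ∨ p % 40 = 27 ∨ p % 8 = 1 ∨ p % 8 = 7)) ∨
     (Nonempty ((P ⧸ (Cfsg.Geo.scalars (Fin 3 ⊕ Fin 3) F).subgroupOf P) ≃* Matrix.ProjectiveSpecialLinearGroup (Fin 2) (ZMod 7)) ∧ ((Fintype.card F = p ∧ p ≠ 7 ∧ (p % 16 = 1 ∨ p % 16 = 15 ∨ p % 16 = 7 ∨ p % 16 = 9)) ∨ (Fintype.card F = p ^ 2 ∧ p ≠ 3 ∧ (p % 16 = 3 ∨ p % 16 = 13 ∨ p % 16 = 5 ∨ p % 16 = 11)))) ∨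
     (Nonempty ((P ⧸ (Cfsg.Geo.scalars (Fin 3 ⊕ Fin 3) F).subgroupOf P) ≃* Matrix.ProjectiveSpecialLinearGroup (Fin 2) (ZMod 13)) ∧ ((Fintype.card F = p ∧ (p % 13 = 1 ∨ p % 13 = 12 ∨ p % 13 = 3 ∨ p % 13 = 10 ∨ p % 13 = 4 ∨ p % 13 = 9)) ∨ (Fintype.card F = p ^ 2 ∧ p ≠ 2 ∧ (p % 13 = 2 ∨ p % 13 = 11 ∨ p % 13 = 5 ∨ p % 13 = 8 ∨ p % 13 = 6 ∨ p % 13 = 7)))) ∨
     (Nonempty ((P ⧸ (Cfsg.Geo.scalars (Fin 3 ⊕ Fin 3) F).subgroupOf P) ≃* alternatingGroup (Fin 7)) ∧ Fintype.card F = 9) ∨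
     ((∃ (K : Type) (_ : Field K) (_ : Fintype K), Fintype.card K = 9 ∧ Nonempty ((P ⧸ (Cfsg.Geo.scalars (Fin 3 ⊕ Fin 3) F).subgroupOf P) ≃* Cfsg.PSU 3 K 3)) ∧ (Fintype.card F = 2 ∨ (Fintype.card F = p ∧ (p % 60 = 7 ∨ p % 60 = 53 ∨ p % 60 = 17 ∨ p % 60 = 43 ∨ p % 12 = 1 ∨ p % 12 = 11)))) ∨
     (Cfsg.Spor.IsoJ2 (P ⧸ (Cfsg.Geo.scalars (Fin 3 ⊕ Fin 3) F).subgroupOf P) ∧ ((Fintype.card F = p ∧ (p % 5 = 0 ∨ p % 5 = 1 ∨ p % 5 = 4)) ∨ (Fintype.card F = p ^ 2 ∧ p ≠ 2 ∧ (p % 5 = 2 ∨ p % 5 = 3)))) ∨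
     (Nonempty ((P ⧸ (Cfsg.Geo.scalars (Fin 3 ⊕ Fin 3) F).subgroupOf P) ≃* Matrix.ProjectiveSpecialLinearGroup (Fin 2) F) ∧ 7 ≤ p) ∨
     (Nonempty ((P ⧸ (Cfsg.Geo.scalars (Fin 3 ⊕ Fin 3) F).subgroupOf P) ≃* Cfsg.Lie.G2 F) ∧ p = 2 ∧ Fintype.card F ≠ 2))

theorem simple_psl_two {p : ℕ} [Fact p.Prime] (hp : 4 ≤ p) :
    IsSimpleGroup (Matrix.ProjectiveSpecialLinearGroup (Fin 2) (ZMod p)) :=
  Matrix.ProjectiveSpecialLinearGroup.rank_two_simple (by rw [Nat.card_eq_fintype_card, ZMod.card]; exact hp)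

theorem simple_alt {n : ℕ} (hn : 5 ≤ n) : IsSimpleGroup (alternatingGroup (Fin n)) :=
  alternatingGroup.isSimpleGroup (by rw [Nat.card_eq_fintype_card, Fintype.card_fin]; exact hn)

theorem card_alt {n : ℕ} (hn : 2 ≤ n) : 2 * Nat.card (alternatingGroup (Fin n)) = n.factorial := by
  have : Nontrivial (Fin n) := Fin.nontrivial_iff_two_le.2 hn
  rw [two_mul_nat_card_alternatingGroup, Nat.card_eq_fintype_card, Fintype.card_perm, Fintype.card_fin]

/-- a list of primes and exponents -/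
def OKl (l : List (ℕ × ℕ)) : Prop :=
  (∀ x ∈ l, x.1.Prime ∧ 0 < x.2) ∧ (l.map Prod.fst).Nodup ∧ ∀ x ∈ l, 5 ≤ x.1 → x.2 = 1

section

variable {Q : Type} [Group Q] [Finite Q] {A : Subgroup Q} {Γ : Subgroup (MulAut Q)}

theorem kill' (hg : TwoGen.{0}) (hs : IsSimpleGroup Q) (h : EPT A Γ) {L : Type*} [Group L] [Finite L]
    (hS : HasSoc A L) (hL : IsSimpleGroup L) (n : ℕ) (hn : n ≠ 0) (hnp : ¬ n.Prime) (hLc : Nat.card L = n)
    (hA : Nat.card (MulAut L) = 2 * n) (l l' : List (ℕ × ℕ)) (h1 : OKl l) (h1' : OKl l')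
    (hc : n = (l.map fun x => x.1 ^ x.2).prod) (hc' : 2 * n = (l'.map fun x => x.1 ^ x.2).prod) (B B' : ℕ)
    (hB : 1 + ((l.map fun x => gal x.1 x.2).sum * (n / 6) + n ^ 2 / 60) * (2 * (n / 6)) ≤ B)
    (hB' : 1 + ((l'.map fun x => gal x.1 x.2).sum * (2 * n / 6) + (2 * n) ^ 2 / 60) * (2 * (2 * n / 6)) ≤ B')
    (hlt : n * B < Nat.card Q) (hlt' : 2 * n * B' < Nat.card Q) : False :=
  kill_two hg hs h hS hL (not_comm_of_card hL (by rw [hLc]; exact hnp)) hn hLc hA.dvd l l' h1.1 h1.2.1 h1.2.2 hc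
    h1'.1 h1'.2.1 h1'.2.2 hc' hB hB' hlt hlt'

theorem kill_a5 (hg : TwoGen.{0}) (hs : IsSimpleGroup Q) (h : EPT A Γ) (hS : HasSoc A (alternatingGroup (Fin 5)))
    (hQ : 3072120 < Nat.card Q) : False := by
  have hc : Nat.card (alternatingGroup (Fin 5)) = 60 := by
    have : 2 * Nat.card (alternatingGroup (Fin 5)) = 120 := card_alt (n := 5) (by norm_num)
    omega
  refine kill' hg hs h hS (simple_alt le_rfl) 60 (by norm_num) (by norm_num) hc ?_
    [(2, 2), (3, 1), (5, 1)] [(2, 3), (3, 1), (5, 1)] ⟨by norm_num only [_root_.List.mem_cons, _root_.List.not_mem_nil, _root_.or_false, _root_.forall_eq_or_imp, _root_.and_self, _root_.forall_eq], by decide, by decide⟩ ⟨by norm_num only [_root_.List.mem_cons, _root_.List.not_mem_nil, _root_.or_false, _root_.forall_eq_or_imp, _root_.and_self, _root_.forall_eq], by decide, by decide⟩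
    (by decide) (by decide) 3001 25601 (by decide +kernel) (by decide +kernel) (by omega) (by omega)
  rw [card_aut_alt (by norm_num) (by norm_num)]
  norm_num [Nat.factorial]

theorem kill_a7 (hg : TwoGen.{0}) (hs : IsSimpleGroup Q) (h : EPT A Γ) (hS : HasSoc A (alternatingGroup (Fin 7)))
    (hQ : 5000000000000 < Nat.card Q) : False := by
  have hc : Nat.card (alternatingGroup (Fin 7)) = 2520 := by
    have : 2 * Nat.card (alternatingGroup (Fin 7)) = 5040 := card_alt (n := 7) (by norm_num)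
    omega
  refine kill' hg hs h hS (simple_alt (by norm_num)) 2520 (by norm_num) (by norm_num) hc ?_
    [(2, 3), (3, 2), (5, 1), (7, 1)] [(2, 4), (3, 2), (5, 1), (7, 1)] ⟨by norm_num only [_root_.List.mem_cons, _root_.List.not_mem_nil, _root_.or_false, _root_.forall_eq_or_imp, _root_.and_self, _root_.forall_eq], by decide, by decide⟩
    ⟨by norm_num only [_root_.List.mem_cons, _root_.List.not_mem_nil, _root_.or_false, _root_.forall_eq_or_imp, _root_.and_self, _root_.forall_eq], by decide, by decide⟩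
    (by decide) (by decide) 900000000 900000000 (by decide +kernel) (by decide +kernel) (by omega) (by omega)
  rw [card_aut_alt (by norm_num) (by norm_num)]
  norm_num [Nat.factorial]

theorem kill_l7 (hg : TwoGen.{0}) (hs : IsSimpleGroup Q) (h : EPT A Γ)
    (hS : HasSoc A (Matrix.ProjectiveSpecialLinearGroup (Fin 2) (ZMod 7))) (hQ : 300000000 < Nat.card Q) : False := by
  have : Fact (Nat.Prime 7) := ⟨by norm_num⟩
  have hc : Nat.card (Matrix.ProjectiveSpecialLinearGroup (Fin 2) (ZMod 7)) = 168 := by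
    have : 2 * (6 * Nat.card (Matrix.ProjectiveSpecialLinearGroup (Fin 2) (ZMod 7))) = 2016 :=
      card_psl_two (p := 7) (by decide)
    omega
  refine kill' hg hs h hS (simple_psl_two (by norm_num)) 168 (by norm_num) (by norm_num) hc ?_
    [(2, 3), (3, 1), (7, 1)] [(2, 4), (3, 1), (7, 1)] ⟨by norm_num only [_root_.List.mem_cons, _root_.List.not_mem_nil, _root_.or_false, _root_.forall_eq_or_imp, _root_.and_self, _root_.forall_eq], by decide, by decide⟩
    ⟨by norm_num only [_root_.List.mem_cons, _root_.List.not_mem_nil, _root_.or_false, _root_.forall_eq_or_imp, _root_.and_self, _root_.forall_eq], by decide, by decide⟩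
    (by decide) (by decide) 800000 800000 (by decide +kernel) (by decide +kernel) (by omega) (by omega)
  have : Nat.card (MulAut (Matrix.ProjectiveSpecialLinearGroup (Fin 2) (ZMod 7))) * 6 = 2016 :=
    card_aut_psl_two (p := 7) (by norm_num)
  omega

theorem kill_l13 (hg : TwoGen.{0}) (hs : IsSimpleGroup Q) (h : EPT A Γ)
    (hS : HasSoc A (Matrix.ProjectiveSpecialLinearGroup (Fin 2) (ZMod 13))) (hQ : 150000000000 < Nat.card Q) :
    False := by
  have : Fact (Nat.Prime 13) := ⟨by norm_num⟩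
  have hc : Nat.card (Matrix.ProjectiveSpecialLinearGroup (Fin 2) (ZMod 13)) = 1092 := by
    have : 2 * (12 * Nat.card (Matrix.ProjectiveSpecialLinearGroup (Fin 2) (ZMod 13))) = 26208 :=
      card_psl_two (p := 13) (by decide)
    omega
  refine kill' hg hs h hS (simple_psl_two (by norm_num)) 1092 (by norm_num) (by norm_num) hc ?_
    [(2, 2), (3, 1), (7, 1), (13, 1)] [(2, 3), (3, 1), (7, 1), (13, 1)] ⟨by norm_num only [_root_.List.mem_cons, _root_.List.not_mem_nil, _root_.or_false, _root_.forall_eq_or_imp, _root_.and_self, _root_.forall_eq], by decide, by decide⟩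
    ⟨by norm_num only [_root_.List.mem_cons, _root_.List.not_mem_nil, _root_.or_false, _root_.forall_eq_or_imp, _root_.and_self, _root_.forall_eq], by decide, by decide⟩
    (by decide) (by decide) 65000000 65000000 (by decide +kernel) (by decide +kernel) (by omega) (by omega)
  have : Nat.card (MulAut (Matrix.ProjectiveSpecialLinearGroup (Fin 2) (ZMod 13))) * 12 = 26208 :=
    card_aut_psl_two (p := 13) (by norm_num)
  omega

theorem kill_u33 (hg : TwoGen.{0}) (hs : IsSimpleGroup Q) (h : EPT A Γ) {K : Type} [Field K] [Fintype K]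
    (hK : Fintype.card K = 9) (hS : HasSoc A (Cfsg.PSU 3 K 3)) (hQ : 1000000000000000 < Nat.card Q) : False := by
  have hK' : Fintype.card K = 3 ^ 2 := by rw [hK]; norm_num
  have hL : IsSimpleGroup (Cfsg.PSU 3 K 3) := S0283.result hK' 3 (by norm_num) (by norm_num)
  have hf : Finite (Cfsg.PSU 3 K 3) := Nat.finite_of_card_ne_zero (by rw [card_u33 hK]; norm_num)
  exact kill' hg hs h hS hL 6048 (by norm_num) (by norm_num) (card_u33 hK) (card_aut_u33 hK)
    [(2, 5), (3, 3), (7, 1)] [(2, 6), (3, 3), (7, 1)] ⟨by norm_num only [_root_.List.mem_cons, _root_.List.not_mem_nil, _root_.or_false, _root_.forall_eq_or_imp, _root_.and_self, _root_.forall_eq], by decide, by decide⟩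
    ⟨by norm_num only [_root_.List.mem_cons, _root_.List.not_mem_nil, _root_.or_false, _root_.forall_eq_or_imp, _root_.and_self, _root_.forall_eq], by decide, by decide⟩
    (by decide) (by decide) 80000000000 80000000000 (by decide +kernel) (by decide +kernel) (by omega) (by omega)

end

/-- lower bounds -/
theorem card_six_le {Q : Type} [Group Q] {F : Type} [Field F] [Fintype F] (m : Model Q (Cfsg.spGL 3 F)) {c N : ℕ}
    (hc : c ≤ Fintype.card F) (hN : N = c ^ 9 * ((c ^ 2 - 1) * (c ^ 4 - 1) * (c ^ 6 - 1))) : N ≤ Nat.card Q * 2 := by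
  have h1 := (sp_mono hc 3).trans (card_sp_le (by norm_num) m)
  rw [Finset.prod_range_succ, Finset.prod_range_succ, Finset.prod_range_succ, Finset.prod_range_zero, one_mul] at h1
  norm_num only [] at h1
  rw [hN]
  exact h1

end Cfsg.Agent.H680.EPR
end
end

-- part: H775/EPS/SuzMain
section
prune_inst 0x156005400dc0020000008592d12020446c00019000200400dda30f46020673220d8221404d801c154a28a20100010028121000e040000000000004000001012080aa12063140000466001f801182000000000000000000000000000000051004200000000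
set_option linter.all false
open scoped Cfsg.Agent.FastGrp

-- part: H775/EPS/Hit
section
/-!
# S3499: the hitting set bound (helper775)

`I` a set of elements `≠ 1`. If all but `r'` of the `r` groups `A ∩ A^x` contain an element of `I`, then
`|Q : A| ≤ 1 + |I| r + r' (2 (|A| / μ))`.
-/

set_option autoImplicit false

namespace Cfsg.Agent.H775.EPS

open MulAction Subgroup Cfsg.Agent.H284 Cfsg.Agent.H173.EP

variable {Q : Type*} [Group Q] {A : Subgroup Q} {Γ : Subgroup (MulAut Q)}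

theorem stab_ne_bot (h : EPT A Γ) {b : Q ⧸ A} (hb : b ≠ ((1 : Q) : Q ⧸ A)) :
    stabilizer (PG A Γ) ((1 : Q) : Q ⧸ A) ⊓ stabilizer (PG A Γ) b ≠ ⊥ := by
  intro e
  obtain ⟨x, rfl⟩ := QuotientGroup.mk_surjective b
  have hx : x ∉ A := by
    intro hx
    apply hb
    rw [eq_comm, QuotientGroup.eq, inv_one, one_mul]
    exact hx
  apply h.M0 x hx
  rw [← comap_stab (Γ := Γ)]
  have e' : stabilizer (PG A Γ) ((1 : Q) : Q ⧸ A) ⊓ stabilizer (PG A Γ) (x : Q ⧸ A) = ⊥ := e
  rw [e', Subgroup.eq_bot_iff_forall]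
  intro q hq
  -- `lm` is injective
  have hq1 : (lm q : PG A Γ) = 1 := hq
  have h2 : A.normalCore = ⊥ ∨ A.normalCore = ⊤ ∨ True := Or.inr (Or.inr trivial)
  clear h2
  -- `q` lies in every conjugate of `A`
  have h4 : ∀ y : Q, y * q * y⁻¹ ∈ A := by
    intro y
    have h4 : (lm q : PG A Γ) ∈ stabilizer (PG A Γ) ((y⁻¹ : Q) : Q ⧸ A) := by rw [hq1]; exact one_mem _
    rw [lm_stab, mem_cj, inv_inv] at h4
    exact h4
  -- the core of `A` is a `Γ`-invariant subgroup of `A` in `A^x`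
  have hK := h.F1 x hx A.normalCore (Subgroup.normalCore_le A) (by
    intro σ hσ k hk y
    have h5 := hk (σ⁻¹ y)
    have h6 := (h.inv σ hσ _).2 h5
    rw [map_mul, map_mul, map_inv, MulAut.apply_inv_self] at h6
    exact h6) (by
    intro k hk
    rw [mem_cj]
    have := hk x⁻¹
    rwa [inv_inv] at this)
  have h5 : q ∈ A.normalCore := h4
  rw [hK, Subgroup.mem_bot] at h5
  exact h5

/-- the points of a line -/
theorem ncard_pts_le [Finite Q] (hs : IsSimpleGroup Q) (h : EPT A Γ) {μ : ℕ} (hμ : 0 < μ)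
    (hmu : ∀ x, x ∉ A → μ ≤ Nat.card (A ⊓ cj x A : Subgroup Q)) {x : Q} (hx : x ∉ A) :
    {c : Q ⧸ A | ∃ y, y ∉ A ∧ c = (y : Q ⧸ A) ∧ A ⊓ cj y A = A ⊓ cj x A}.ncard ≤ 2 * (Nat.card A / μ) := by
  have hE := epa h hs
  have hb : (x : Q ⧸ A) ≠ ((1 : Q) : Q ⧸ A) := by
    intro e
    apply hx
    rw [eq_comm, QuotientGroup.eq, inv_one, one_mul] at e
    exact e
  refine le_trans (Set.ncard_le_ncard ?_ (Set.toFinite _))
    (ncard_line_le hE (D := Nat.card A / μ) (card_stab_le hs h hμ hmu) hb (stab_ne_bot h hb))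
  rintro _ ⟨y, hy, rfl, e⟩ s hs'
  obtain ⟨σ, hσ, e1⟩ := stab_base h hs'.1
  have h1 : s ∈ stabilizer (PG A Γ) (y : Q ⧸ A) :=
    (sg_stab e1 y).2 (stab_of_eq h hy e.symm hσ ((sg_stab e1 x).1 hs'.2))
  exact h1

/-- **the hitting set bound** -/
theorem index_le_hit [Finite Q] (hs : IsSimpleGroup Q) (h : EPT A Γ) {μ : ℕ} (hμ : 0 < μ)
    (hmu : ∀ x, x ∉ A → μ ≤ Nat.card (A ⊓ cj x A : Subgroup Q)) (I : Set Q) (hI : ∀ t ∈ I, t ≠ 1) :
    A.index ≤ 1 + I.ncard * {M : Subgroup Q | ∃ x, x ∉ A ∧ M = A ⊓ cj x A}.ncard +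
      {M : Subgroup Q | (∃ x, x ∉ A ∧ M = A ⊓ cj x A) ∧ ∀ t ∈ I, t ∉ M}.ncard * (2 * (Nat.card A / μ)) := by
  classical
  have := Fintype.ofFinite (Q ⧸ A)
  set r := {M : Subgroup Q | ∃ x, x ∉ A ∧ M = A ⊓ cj x A}.ncard with hr
  set R' := {M : Subgroup Q | (∃ x, x ∉ A ∧ M = A ⊓ cj x A) ∧ ∀ t ∈ I, t ∉ M} with hR'
  have hIf : I.Finite := Set.toFinite _
  have hRf : R'.Finite := Set.toFinite _
  have hcov : (Finset.univ.erase ((1 : Q) : Q ⧸ A) : Finset (Q ⧸ A)) ⊆
      (hIf.toFinset.biUnion fun t => Finset.univ.filter fun c : Q ⧸ A => t • c = c) ∪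
        (hRf.toFinset.biUnion fun M => Finset.univ.filter fun c : Q ⧸ A =>
          ∃ y, y ∉ A ∧ c = (y : Q ⧸ A) ∧ A ⊓ cj y A = M) := by
    intro b hb
    rw [Finset.mem_erase] at hb
    obtain ⟨x, rfl⟩ := QuotientGroup.mk_surjective b
    have hx : x ∉ A := by
      intro hx
      apply hb.1
      rw [eq_comm, QuotientGroup.eq, inv_one, one_mul]
      exact hx
    rw [Finset.mem_union]
    by_cases ht : ∃ t ∈ I, t ∈ A ⊓ cj x A
    · obtain ⟨t, ht, htM⟩ := ht
      left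
      rw [Finset.mem_biUnion]
      refine ⟨t, hIf.mem_toFinset.2 ht, ?_⟩
      rw [Finset.mem_filter]
      refine ⟨Finset.mem_univ _, ?_⟩
      have h1 := mem_cj.1 (mem_inf.1 htM).2
      change ((t * x : Q) : Q ⧸ A) = (x : Q ⧸ A)
      rw [eq_comm, QuotientGroup.eq, ← mul_assoc]
      exact h1
    · right
      push Not at ht
      rw [Finset.mem_biUnion]
      refine ⟨A ⊓ cj x A, hRf.mem_toFinset.2 ⟨⟨x, hx, rfl⟩, ht⟩, ?_⟩
      rw [Finset.mem_filter]
      exact ⟨Finset.mem_univ _, x, hx, rfl, rfl⟩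
  have h1 := (Finset.card_le_card hcov).trans (Finset.card_union_le _ _)
  rw [Finset.card_erase_of_mem (Finset.mem_univ _), Finset.card_univ, ← Nat.card_eq_fintype_card] at h1
  have h2 : (hIf.toFinset.biUnion fun t => Finset.univ.filter fun c : Q ⧸ A => t • c = c).card ≤ I.ncard * r := by
    refine Finset.card_biUnion_le.trans ?_
    refine (Finset.sum_le_card_nsmul _ _ r ?_).trans ?_
    · intro t ht
      refine le_trans (le_of_eq ?_) (h.fix_le t (hI t (hIf.mem_toFinset.1 ht)))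
      rw [Set.ncard_eq_toFinset_card']
      congr 1
      ext c
      simp
    · rw [smul_eq_mul, ← Set.ncard_eq_toFinset_card _ hIf]
  have h3 : (hRf.toFinset.biUnion fun M => Finset.univ.filter fun c : Q ⧸ A =>
          ∃ y, y ∉ A ∧ c = (y : Q ⧸ A) ∧ A ⊓ cj y A = M).card ≤ R'.ncard * (2 * (Nat.card A / μ)) := by
    refine Finset.card_biUnion_le.trans ?_
    refine (Finset.sum_le_card_nsmul _ _ (2 * (Nat.card A / μ)) ?_).trans ?_
    · intro M hM
      obtain ⟨⟨x, hx, rfl⟩, _⟩ := hRf.mem_toFinset.1 hM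
      refine le_trans (le_of_eq ?_) (ncard_pts_le hs h hμ hmu hx)
      rw [Set.ncard_eq_toFinset_card']
      congr 1
      ext c
      simp only [_root_.Finset.mem_filter, _root_.Finset.mem_univ, _root_.true_and, _root_.Set.toFinset_ofPred]
    · rw [smul_eq_mul, ← Set.ncard_eq_toFinset_card _ hRf]
  have h4 : A.index = Nat.card (Q ⧸ A) := rfl
  rw [h4]
  have h5 := h1.trans (Nat.add_le_add h2 h3)
  omega

end Cfsg.Agent.H775.EPS
end

-- part: H775/EPS/MinInv
section
/-!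
# S3499: minimal invariant subgroups (helper775)

`K ≠ 1` a subgroup of the finite group `B`, invariant under the automorphisms in `Δ` and minimal with that property. Then
`K` is elementary abelian, or simple, or it contains a perfect subgroup `E ≠ 1` with `[E, τ E] = 1 = E ∩ τ E` for some
`τ ∈ Δ`.
-/

set_option autoImplicit false

namespace Cfsg.Agent.H775.EPS

open Subgroup Cfsg.Agent.H59.EP
open scoped commutatorElement

variable {B : Type*} [Group B] [Finite B]

/-- restriction of an automorphism to an invariant subgroup -/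
noncomputable def restr (K : Subgroup B) (τ : MulAut B) (h : ∀ k ∈ K, τ k ∈ K) : MulAut K :=
  MulEquiv.ofBijective ((τ.toMonoidHom.comp K.subtype).codRestrict K fun k => h k k.2) (by
    apply Function.Injective.bijective_of_finite
    intro a b hab
    exact Subtype.ext (τ.injective (congrArg Subtype.val hab)))

theorem char_inv {K : Subgroup B} {τ : MulAut B} (h : ∀ k ∈ K, τ k ∈ K) {Y : Subgroup K} (hY : Y.Characteristic) :
    ∀ k ∈ Y.map K.subtype, τ k ∈ Y.map K.subtype := by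
  rintro _ ⟨y, hy, rfl⟩
  refine ⟨restr K τ h y, ?_, rfl⟩
  have h1 := characteristic_iff_map_eq.1 hY (restr K τ h)
  have h2 : restr K τ h y ∈ Y.map (restr K τ h).toMonoidHom := ⟨y, hy, rfl⟩
  rwa [h1] at h2

theorem trichotomy {Δ : Set (MulAut B)} {K : Subgroup B} (hne : K ≠ ⊥) (hinv : ∀ τ ∈ Δ, ∀ k ∈ K, τ k ∈ K)
    (hmin : ∀ K' : Subgroup B, K' ≤ K → K' ≠ ⊥ → (∀ τ ∈ Δ, ∀ k ∈ K', τ k ∈ K') → K' = K) :
    (∃ s : ℕ, s.Prime ∧ s ∣ Nat.card K ∧ ElAb s K) ∨ (IsSimpleGroup K ∧ ¬ Group.IsSolvable K) ∨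
      (∃ E : Subgroup B, E ≤ K ∧ E ≠ ⊥ ∧ ⁅E, E⁆ = E ∧ ∃ τ ∈ Δ, E ⊓ E.map τ.toMonoidHom = ⊥ ∧
        ∀ a ∈ E, ∀ b ∈ E, a * τ b = τ b * a) := by
  have hnt : Nontrivial K := (Subgroup.nontrivial_iff_ne_bot K).2 hne
  have hsub : ∀ Y : Subgroup K, Y ≠ ⊥ → (∀ τ ∈ Δ, ∀ k ∈ Y.map K.subtype, τ k ∈ Y.map K.subtype) → Y = ⊤ := by
    intro Y hYne hY
    have h1 := hmin (Y.map K.subtype) (Subgroup.map_subtype_le Y) (by
      intro e
      rw [Subgroup.map_eq_bot_iff_of_injective _ K.subtype_injective] at e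
      exact hYne e) hY
    rw [Subgroup.eq_top_iff']
    intro y
    have h2 : (y : B) ∈ Y.map K.subtype := by rw [h1]; exact y.2
    obtain ⟨z, hz, e⟩ := h2
    have : z = y := Subtype.ext e
    rw [← this]
    exact hz
  have hc : ∀ Y : Subgroup K, Y.Characteristic → Y = ⊥ ∨ Y = ⊤ := by
    intro Y hY
    by_cases hYb : Y = ⊥
    · exact Or.inl hYb
    · exact Or.inr (hsub Y hYb fun τ hτ => char_inv (hinv τ hτ) hY)
  by_cases hcomm : ∀ a b : K, a * b = b * a
  · left
    obtain ⟨s, hs, hsd⟩ := Nat.exists_prime_and_dvd (n := Nat.card K) (by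
      have := Finite.one_lt_card (α := K)
      omega)
    have : Fact s.Prime := ⟨hs⟩
    obtain ⟨x, hx⟩ := exists_prime_orderOf_dvd_card' s hsd
    let Y : Subgroup K :=
      { carrier := {y | y ^ s = 1}
        one_mem' := one_pow s
        mul_mem' := fun {a b} ha hb => by
          show (a * b) ^ s = 1
          rw [(show Commute a b from hcomm a b).mul_pow, show a ^ s = 1 from ha, show b ^ s = 1 from hb, one_mul]
        inv_mem' := fun {a} ha => by
          show a⁻¹ ^ s = 1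
          rw [inv_pow, show a ^ s = 1 from ha, inv_one] }
    have hY : Y.Characteristic := by
      rw [characteristic_iff_map_le]
      rintro φ _ ⟨y, hy, rfl⟩
      show (φ y) ^ s = 1
      rw [← map_pow, show y ^ s = 1 from hy, map_one]
    refine ⟨s, hs, hsd, fun a ha b hb => congrArg Subtype.val (hcomm ⟨a, ha⟩ ⟨b, hb⟩), ?_⟩
    rcases hc Y hY with h | h
    · exfalso
      have h1 : x ∈ Y := by
        show x ^ s = 1
        rw [← hx, pow_orderOf_eq_one]
      rw [h, mem_bot] at h1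
      rw [h1, orderOf_one] at hx
      exact hs.one_lt.ne hx
    · intro a ha
      have h1 : (⟨a, ha⟩ : K) ∈ Y := by rw [h]; exact mem_top _
      exact congrArg Subtype.val (show (⟨a, ha⟩ : K) ^ s = 1 from h1)
  · right
    have hnc : ¬ Group.IsSolvable K := by
      intro hsol
      have hch : (commutator K).Characteristic := inferInstance
      rcases hc _ hch with h | h
      · apply hcomm
        intro a b
        have h1 : ⁅a, b⁆ ∈ commutator K := commutator_mem_commutator (mem_top _) (mem_top _)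
        rw [h, mem_bot, commutatorElement_eq_one_iff_mul_comm] at h1
        exact h1
      · have h1 : commutator K < ⊤ := Group.IsSolvable.commutator_lt_top_of_nontrivial K
        exact h1.ne h
    -- the solvable normal subgroups are trivial
    have hrad : ∀ N : Subgroup K, N.Normal → Group.IsSolvable N → N = ⊥ := by
      intro N hN hNs
      rcases hc _ (Cfsg.Agent.H459.Rad.rad_spec (G := K)).1 with h | h
      · rw [eq_bot_iff, ← h]
        exact Cfsg.Agent.H459.Rad.le_rad hN hNs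
      · exact absurd (Cfsg.Agent.H459.Rad.rad_eq_top_iff.1 h) hnc
    -- a minimal normal subgroup
    have hfin : {N : Subgroup K | N.Normal ∧ N ≠ ⊥}.Finite := Set.toFinite _
    obtain ⟨N, hN⟩ := hfin.exists_minimal ⟨⊤, inferInstance, top_ne_bot⟩
    have hNn : N.Normal := hN.prop.1
    have hNne : N ≠ ⊥ := hN.prop.2
    have hminN : ∀ K' : Subgroup K, K'.Normal → K' ≤ N → K' = ⊥ ∨ K' = N := by
      intro K' hK hKN
      by_cases h : K' = ⊥
      · exact Or.inl h
      · exact Or.inr (le_antisymm hKN (hN.le_of_le ⟨hK, h⟩ hKN))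
    by_cases hall : ∀ τ ∈ Δ, ∀ k ∈ N.map K.subtype, τ k ∈ N.map K.subtype
    · left
      have hNtop := hsub N hNne hall
      refine ⟨{ exists_pair_ne := exists_pair_ne K, eq_bot_or_eq_top_of_normal := fun K' hK => ?_ }, hnc⟩
      rcases hminN K' hK (by rw [hNtop]; exact le_top) with h | h
      · exact Or.inl h
      · exact Or.inr (h.trans hNtop)
    · right
      push Not at hall
      obtain ⟨τ, hτ, k, hk, hkn⟩ := hall
      set φ := restr K τ (hinv τ hτ) with hφ
      have hn' : (N.map φ.toMonoidHom).Normal := hNn.map _ φ.surjective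
      have hcard : Nat.card (N.map φ.toMonoidHom) = Nat.card N :=
        (Nat.card_congr (N.equivMapOfInjective _ φ.injective).toEquiv).symm
      have hdis : N ⊓ N.map φ.toMonoidHom = ⊥ := by
        rcases hminN (N ⊓ N.map φ.toMonoidHom) (by infer_instance) (inf_le_left) with h | h
        · exact h
        · exfalso
          have h1 : N ≤ N.map φ.toMonoidHom := le_trans (le_of_eq h.symm) inf_le_right
          have h2 : N.map φ.toMonoidHom = N := (Subgroup.eq_of_le_of_card_ge h1 hcard.le).symm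
          apply hkn
          obtain ⟨n, hn, rfl⟩ := hk
          refine ⟨φ n, ?_, rfl⟩
          rw [← h2]
          exact ⟨n, hn, rfl⟩
      have hper : ⁅N, N⁆ = N := by
        rcases hminN ⁅N, N⁆ inferInstance (Subgroup.commutator_le_left N N) with h | h
        · exfalso
          apply hNne
          apply hrad N hNn
          apply Group.isSolvable_of_comm
          intro a b
          have h1 : ⁅(a : K), (b : K)⁆ ∈ ⁅N, N⁆ := commutator_mem_commutator a.2 b.2
          rw [h, mem_bot, commutatorElement_eq_one_iff_mul_comm] at h1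
          exact Subtype.ext h1
        · exact h
      refine ⟨N.map K.subtype, Subgroup.map_subtype_le N, ?_, ?_, τ, hτ, ?_, ?_⟩
      · intro e
        rw [Subgroup.map_eq_bot_iff_of_injective _ K.subtype_injective] at e
        exact hNne e
      · rw [← Subgroup.map_commutator, hper]
      · rw [Subgroup.eq_bot_iff_forall]
        rintro _ ⟨⟨n, hn, rfl⟩, ⟨_, ⟨m, hm, rfl⟩, e⟩⟩
        have h1 : φ m = n := Subtype.ext e
        have h2 : n ∈ N ⊓ N.map φ.toMonoidHom := ⟨hn, ⟨m, hm, h1⟩⟩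
        rw [hdis, mem_bot] at h2
        rw [h2]
        rfl
      · rintro _ ⟨n, hn, rfl⟩ _ ⟨m, hm, rfl⟩
        have h1 : Commute n (φ m) := Subgroup.commute_of_normal_of_disjoint N (N.map φ.toMonoidHom) hNn hn'
          (disjoint_iff.2 hdis) n (φ m) hn ⟨m, hm, rfl⟩
        exact congrArg Subtype.val h1.eq

end Cfsg.Agent.H775.EPS
end

-- part: H775/EPS/Base
section
/-!
# S3499: minimal invariant subgroups of the two-point stabilisers (helper775)

`N` simple nonabelian, normal in `A` with `C_A(N) = 1`, `|A| ≤ 2 |N|`. Every `M = A ∩ A^x` is the normaliser in `A` of a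
subgroup `K ≠ 1` of `M ∩ N` which is elementary abelian, simple, or has a pair of commuting perfect subgroups.
-/

set_option autoImplicit false

namespace Cfsg.Agent.H775.EPS

open Subgroup Cfsg.Agent.H284 Cfsg.Agent.H173.EP Cfsg.Agent.H59.EP

universe u

variable {Q : Type u} [Group Q] [Finite Q] {A : Subgroup Q} {Γ : Subgroup (MulAut Q)}

/-- the socle is invariant under `Γ` -/
theorem soc_inv (h : EPT A Γ) {N : Subgroup Q} (hNA : N ≤ A) (hN : ∀ a ∈ A, ∀ n ∈ N, a * n * a⁻¹ ∈ N)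
    (hNs : IsSimpleGroup N) (hC : ∀ a ∈ A, (∀ n ∈ N, a * n = n * a) → a = 1) {σ : MulAut Q} (hσ : σ ∈ Γ) :
    ∀ n ∈ N, σ n ∈ N := by
  have hσA : ∀ a ∈ A, σ a ∈ A := fun a ha => (h.inv σ hσ a).2 ha
  have hσA' : ∀ a ∈ A, σ⁻¹ a ∈ A := fun a ha => (h.inv σ⁻¹ (Γ.inv_mem hσ) a).2 ha
  have hN'A : N.map σ.toMonoidHom ≤ A := by
    rintro _ ⟨n, hn, rfl⟩
    exact hσA n (hNA hn)
  have hN'n : ∀ a ∈ A, ∀ n ∈ N.map σ.toMonoidHom, a * n * a⁻¹ ∈ N.map σ.toMonoidHom := by
    rintro a ha _ ⟨n, hn, rfl⟩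
    refine ⟨σ⁻¹ a * n * (σ⁻¹ a)⁻¹, hN _ (hσA' a ha) n hn, ?_⟩
    show σ (σ⁻¹ a * n * (σ⁻¹ a)⁻¹) = a * σ n * a⁻¹
    rw [map_mul, map_mul, map_inv, MulAut.apply_inv_self]
  have h1 : ((N.map σ.toMonoidHom).subgroupOf N).Normal := ⟨by
    rintro ⟨k, hk⟩ hk' ⟨n, hn⟩
    exact hN'n n (hNA hn) k hk'⟩
  have hcard : Nat.card (N.map σ.toMonoidHom) = Nat.card N :=
    Subgroup.card_map_of_injective σ.injective
  rcases hNs.eq_bot_or_eq_top_of_normal _ h1 with h2 | h2
  · exfalso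
    have hnt := hNs.toNontrivial
    apply (Subgroup.nontrivial_iff_ne_bot N).1 hnt
    rw [Subgroup.eq_bot_iff_forall]
    intro n hn
    have hσn : σ n ∈ N.map σ.toMonoidHom := ⟨n, hn, rfl⟩
    have h3 : σ n = 1 := by
      apply hC _ (hN'A hσn)
      intro m hm
      have h4 : σ n * m * (σ n)⁻¹ * m⁻¹ ∈ N := N.mul_mem (hN _ (hN'A hσn) m hm) (N.inv_mem hm)
      have h5 : σ n * m * (σ n)⁻¹ * m⁻¹ ∈ N.map σ.toMonoidHom := by
        have e : σ n * m * (σ n)⁻¹ * m⁻¹ = σ n * (m * (σ n)⁻¹ * m⁻¹) := by group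
        rw [e]
        exact mul_mem hσn (hN'n m (hNA hm) _ (inv_mem hσn))
      have h6 : (⟨_, h4⟩ : N) ∈ (N.map σ.toMonoidHom).subgroupOf N := h5
      rw [h2, mem_bot] at h6
      have h7 := congrArg Subtype.val h6
      change σ n * m * (σ n)⁻¹ * m⁻¹ = 1 at h7
      rwa [mul_inv_eq_one, mul_inv_eq_iff_eq_mul] at h7
    apply σ.injective
    rw [h3, map_one]
  · rw [Subgroup.subgroupOf_eq_top] at h2
    have h3 : N = N.map σ.toMonoidHom := Subgroup.eq_of_le_of_card_ge h2 hcard.le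
    intro n hn
    rw [h3]
    exact ⟨n, hn, rfl⟩

/-- every two-point stabiliser meets the socle -/
theorem inf_soc_ne_bot {N : Subgroup Q} (hNA : N ≤ A) (hN : ∀ a ∈ A, ∀ n ∈ N, a * n * a⁻¹ ∈ N)
    (hcard : Nat.card A ≤ 2 * Nat.card N) {M : Subgroup Q} (hMA : M ≤ A) (h6 : 6 ≤ Nat.card M) : M ⊓ N ≠ ⊥ := by
  intro e
  have hn : (N.subgroupOf A).Normal := ⟨by
    rintro ⟨n, hn'⟩ hn ⟨a, ha⟩
    exact hN a ha n hn⟩
  have h1 : (M.subgroupOf A) ⊓ (N.subgroupOf A) = ⊥ := by
    rw [Subgroup.eq_bot_iff_forall]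
    rintro ⟨x, hx⟩ hx'
    have h2 : x ∈ M ⊓ N := ⟨(mem_inf.1 hx').1, (mem_inf.1 hx').2⟩
    rw [e, mem_bot] at h2
    exact Subtype.ext h2
  have h2 := card_mul_dvd h1
  rw [Nat.card_congr (Subgroup.subgroupOfEquivOfLe hMA).toEquiv,
    Nat.card_congr (Subgroup.subgroupOfEquivOfLe hNA).toEquiv] at h2
  have h3 := Nat.le_of_dvd Nat.card_pos h2
  have h4 : 0 < Nat.card N := Nat.card_pos
  have h5 : 6 * Nat.card N ≤ Nat.card M * Nat.card N := Nat.mul_le_mul_right _ h6
  omega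

/-- **the subgroup `K`** -/
theorem exists_K (h : EPT A Γ) {N : Subgroup Q} (hNA : N ≤ A) (hN : ∀ a ∈ A, ∀ n ∈ N, a * n * a⁻¹ ∈ N)
    (hNs : IsSimpleGroup N) (hC : ∀ a ∈ A, (∀ n ∈ N, a * n = n * a) → a = 1)
    {x : Q} (hx : x ∉ A) (hMN : A ⊓ cj x A ⊓ N ≠ ⊥) :
    ∃ K : Subgroup N, K ≠ ⊥ ∧ (∀ k ∈ K, (k : Q) ∈ A ⊓ cj x A) ∧
      (∀ a, a ∈ A ⊓ cj x A ↔ a ∈ A ∧ ∀ k ∈ K.map N.subtype, a * k * a⁻¹ ∈ K.map N.subtype) ∧
      ((∃ s : ℕ, s.Prime ∧ s ∣ Nat.card K ∧ ElAb s K) ∨ (IsSimpleGroup K ∧ ¬ Group.IsSolvable K) ∨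
        (∃ E : Subgroup N, E ≤ K ∧ E ≠ ⊥ ∧ ⁅E, E⁆ = E ∧ ∃ τ : MulAut N, E ⊓ E.map τ.toMonoidHom = ⊥ ∧
          ∀ a ∈ E, ∀ b ∈ E, a * τ b = τ b * a)) := by
  classical
  set Δ : Set (MulAut N) := {τ | ∃ σ ∈ Γ, x⁻¹ * σ x ∈ A ∧ ∀ n : N, ((τ n : N) : Q) = σ n} with hΔ
  have hres : ∀ σ ∈ Γ, x⁻¹ * σ x ∈ A → ∃ τ ∈ Δ, ∀ n : N, ((τ n : N) : Q) = σ n := by
    intro σ hσ hxσ
    have h1 : ∀ n ∈ N, σ n ∈ N := soc_inv h hNA hN hNs hC hσ
    exact ⟨restr N σ h1, ⟨σ, hσ, hxσ, fun n => rfl⟩, fun n => rfl⟩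
  -- the minimal subgroup
  set 𝓗 : Set (Subgroup N) := {K | K ≠ ⊥ ∧ (∀ k ∈ K, (k : Q) ∈ A ⊓ cj x A) ∧ ∀ τ ∈ Δ, ∀ k ∈ K, τ k ∈ K} with h𝓗
  have hfin : 𝓗.Finite := Set.toFinite _
  have hne : 𝓗.Nonempty := by
    refine ⟨(A ⊓ cj x A).subgroupOf N, ?_, fun k hk => hk, ?_⟩
    · intro e
      apply hMN
      rw [Subgroup.subgroupOf_eq_bot, disjoint_iff] at e
      exact e
    · rintro τ ⟨σ, hσ, hxσ, hτ⟩ k hk
      have h1 : ((τ k : N) : Q) ∈ A ⊓ cj x A := by
        rw [hτ]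
        exact inf_inv h hσ hxσ hk
      exact h1
  obtain ⟨K, hK⟩ := hfin.exists_minimal hne
  obtain ⟨hK1, hK2, hK3⟩ := hK.prop
  have hmin : ∀ K' : Subgroup N, K' ≤ K → K' ≠ ⊥ → (∀ τ ∈ Δ, ∀ k ∈ K', τ k ∈ K') → K' = K := by
    intro K' hK' hne' hinv
    exact le_antisymm hK' (hK.le_of_le ⟨hne', fun k hk => hK2 k (hK' hk), hinv⟩ hK')
  have hinv : ∀ σ ∈ Γ, x⁻¹ * σ x ∈ A → ∀ k ∈ K.map N.subtype, σ k ∈ K.map N.subtype := by
    rintro σ hσ hxσ _ ⟨k, hk, rfl⟩
    obtain ⟨τ, hτΔ, hτ⟩ := hres σ hσ hxσ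
    exact ⟨τ k, hK3 τ hτΔ k hk, hτ k⟩
  refine ⟨K, hK1, hK2, ?_, ?_⟩
  · intro a
    constructor
    · intro ha
      refine ⟨ha.1, ?_⟩
      have h1 := hinv (MulAut.conj a) ((h.conj a).2 ha.1) (by
        have h2 := mem_cj.1 ha.2
        show x⁻¹ * (a * x * a⁻¹) ∈ A
        have e : x⁻¹ * (a * x * a⁻¹) = x⁻¹ * a * x * a⁻¹ := by group
        rw [e]
        exact A.mul_mem h2 (A.inv_mem ha.1))
      exact h1
    · rintro ⟨ha, hk⟩
      refine mem_inf.2 ⟨ha, ?_⟩
      have h1 := h.norm x hx (K.map N.subtype) (by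
        rintro _ ⟨k, hk', rfl⟩
        exact hK2 k hk') hinv (by
        intro e
        rw [Subgroup.map_eq_bot_iff_of_injective _ N.subtype_injective] at e
        exact hK1 e) (MulAut.conj a) ((h.conj a).2 ha) hk
      have h2 : x⁻¹ * (a * x * a⁻¹) ∈ A := h1
      rw [mem_cj]
      have e : x⁻¹ * a * x = x⁻¹ * (a * x * a⁻¹) * a := by group
      rw [e]
      exact A.mul_mem h2 ha
  · rcases trichotomy hK1 hK3 hmin with h1 | h1 | ⟨E, h1, h2, h3, τ, -, h4⟩
    · exact Or.inl h1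
    · exact Or.inr (Or.inl h1)
    · exact Or.inr (Or.inr ⟨E, h1, h2, h3, τ, h4⟩)

/-- the elementary abelian subgroups -/
def SE (B : Type*) [Group B] (s : ℕ) : Set (Subgroup B) := {K | ElAb s K ∧ K ≠ ⊥}

/-- the simple subgroups -/
def SS (B : Type*) [Group B] : Set (Subgroup B) := {K | IsSimpleGroup K ∧ ¬ Group.IsSolvable K}

theorem ncard_biUnion_le' {ι α : Type*} [Finite α] (I : Finset ι) (f : ι → Set α) :
    (⋃ i ∈ I, f i).ncard ≤ ∑ i ∈ I, (f i).ncard := by
  classical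
  induction I using Finset.induction_on with
  | empty => simp only [_root_.Finset.notMem_empty, _root_.Set.iUnion_of_empty, _root_.Set.iUnion_empty, _root_.Set.ncard_empty, _root_.Finset.sum_empty, _root_.Std.le_refl]
  | insert j I hj ih =>
    rw [Finset.sum_insert hj, Finset.set_biUnion_insert]
    exact (Set.ncard_union_le _ _).trans (Nat.add_le_add_left ih _)

/-- **the counts** -/
theorem counts (h : EPT A Γ) {N : Subgroup Q} (hNA : N ≤ A) (hN : ∀ a ∈ A, ∀ n ∈ N, a * n * a⁻¹ ∈ N)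
    (hNs : IsSimpleGroup N) (hC : ∀ a ∈ A, (∀ n ∈ N, a * n = n * a) → a = 1) (hcard : Nat.card A ≤ 2 * Nat.card N)
    (h6 : ∀ x, x ∉ A → 6 ≤ Nat.card (A ⊓ cj x A : Subgroup Q))
    (hE : ∀ (E : Subgroup N) (τ : MulAut N), E ≠ ⊥ → ⁅E, E⁆ = E → E ⊓ E.map τ.toMonoidHom = ⊥ →
      (∀ a ∈ E, ∀ b ∈ E, a * τ b = τ b * a) → False)
    (hev : ∀ K ∈ SS N, 2 ∣ Nat.card K) (P : Finset ℕ) (hP : ∀ s : ℕ, s.Prime → s ∣ Nat.card N → s = 2 ∨ s = 3 ∨ s ∈ P) :
    {M : Subgroup Q | ∃ x, x ∉ A ∧ M = A ⊓ cj x A}.ncard ≤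
      (SE N 2).ncard + (SE N 3).ncard + ∑ p ∈ P, (SE N p).ncard + (SS N).ncard ∧
    {M : Subgroup Q | (∃ x, x ∉ A ∧ M = A ⊓ cj x A) ∧ ∀ t ∈ {t : Q | t ∈ N ∧ orderOf t = 2}, t ∉ M}.ncard ≤
      (SE N 3).ncard + ∑ p ∈ P, (SE N p).ncard := by
  classical
  have key : ∀ M ∈ {M : Subgroup Q | ∃ x, x ∉ A ∧ M = A ⊓ cj x A}, ∃ K : Subgroup N, K ≠ ⊥ ∧ (∀ k ∈ K, (k : Q) ∈ M) ∧
      (∀ a, a ∈ M ↔ a ∈ A ∧ ∀ k ∈ K.map N.subtype, a * k * a⁻¹ ∈ K.map N.subtype) ∧
      (K ∈ SE N 2 ∨ K ∈ SE N 3 ∨ (∃ p ∈ P, K ∈ SE N p) ∨ K ∈ SS N) := by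
    rintro _ ⟨x, hx, rfl⟩
    obtain ⟨K, h1, h2, h3, h4⟩ := exists_K h hNA hN hNs hC hx
      (inf_soc_ne_bot hNA hN hcard inf_le_left (h6 x hx))
    refine ⟨K, h1, h2, h3, ?_⟩
    rcases h4 with ⟨s, hs, hsd, hel⟩ | h4 | ⟨E, -, h4, h5, τ, h7, h8⟩
    · rcases hP s hs (hsd.trans (Subgroup.card_subgroup_dvd_card K)) with rfl | rfl | hp
      · exact Or.inl ⟨hel, h1⟩
      · exact Or.inr (Or.inl ⟨hel, h1⟩)
      · exact Or.inr (Or.inr (Or.inl ⟨s, hp, hel, h1⟩))
    · exact Or.inr (Or.inr (Or.inr h4))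
    · exact absurd (hE E τ h4 h5 h7 h8) id
  choose! f hf1 hf2 hf3 hf4 using key
  have hinj : Set.InjOn f {M : Subgroup Q | ∃ x, x ∉ A ∧ M = A ⊓ cj x A} := by
    intro M hM M' hM' e
    ext a
    rw [hf3 M hM a, hf3 M' hM' a, e]
  have hf : Finite (Subgroup N) := inferInstance
  constructor
  · rw [← hinj.ncard_image]
    have hsub : f '' {M : Subgroup Q | ∃ x, x ∉ A ∧ M = A ⊓ cj x A} ⊆
        SE N 2 ∪ SE N 3 ∪ (⋃ p ∈ P, SE N p) ∪ SS N := by
      rintro _ ⟨M, hM, rfl⟩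
      rcases hf4 M hM with h1 | h1 | ⟨p, hp, h1⟩ | h1
      · exact Or.inl (Or.inl (Or.inl h1))
      · exact Or.inl (Or.inl (Or.inr h1))
      · refine Or.inl (Or.inr ?_)
        simp only [Set.mem_iUnion]
        exact ⟨p, hp, h1⟩
      · exact Or.inr h1
    refine (Set.ncard_le_ncard hsub (Set.toFinite _)).trans ((Set.ncard_union_le _ _).trans ?_)
    refine Nat.add_le_add_right ((Set.ncard_union_le _ _).trans ?_) _
    exact Nat.add_le_add (Set.ncard_union_le _ _) (ncard_biUnion_le' _ _)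
  · have hsub0 : {M : Subgroup Q | (∃ x, x ∉ A ∧ M = A ⊓ cj x A) ∧ ∀ t ∈ {t : Q | t ∈ N ∧ orderOf t = 2}, t ∉ M} ⊆
        {M : Subgroup Q | ∃ x, x ∉ A ∧ M = A ⊓ cj x A} := fun M hM => hM.1
    rw [← (hinj.mono hsub0).ncard_image]
    have hsub : f '' {M : Subgroup Q | (∃ x, x ∉ A ∧ M = A ⊓ cj x A) ∧ ∀ t ∈ {t : Q | t ∈ N ∧ orderOf t = 2}, t ∉ M} ⊆
        SE N 3 ∪ (⋃ p ∈ P, SE N p) := by
      rintro _ ⟨M, ⟨hM, hMt⟩, rfl⟩
      rcases hf4 M hM with h1 | h1 | ⟨p, hp, h1⟩ | h1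
      · exfalso
        obtain ⟨y, hy1⟩ := Subgroup.ne_bot_iff_exists_ne_one.1 h1.2
        have hy : orderOf (y : N) = 2 := orderOf_eq_prime (h1.1.exp _ y.2) fun e => hy1 (Subtype.ext e)
        refine hMt ((y : N) : Q) ⟨(y : N).2, ?_⟩ (hf2 M hM _ y.2)
        rw [Subgroup.orderOf_coe, hy]
      · exact Or.inl h1
      · refine Or.inr ?_
        simp only [Set.mem_iUnion]
        exact ⟨p, hp, h1⟩
      · exfalso
        have : Fact (Nat.Prime 2) := ⟨Nat.prime_two⟩
        obtain ⟨y, hy⟩ := exists_prime_orderOf_dvd_card' 2 (hev _ h1)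
        refine hMt ((y : N) : Q) ⟨(y : N).2, ?_⟩ (hf2 M hM _ y.2)
        rw [Subgroup.orderOf_coe, Subgroup.orderOf_coe, hy]
    refine (Set.ncard_le_ncard hsub (Set.toFinite _)).trans ((Set.ncard_union_le _ _).trans ?_)
    exact Nat.add_le_add_left (ncard_biUnion_le' _ _) _

end Cfsg.Agent.H775.EPS
end

-- part: H775/EPS/Elab
section
/-!
# S3499: the number of elementary abelian subgroups, by centralisers (helper775)

`ncard_elab_le_flag` : if `v_s |B| ≤ v` and `∑_{o(z) = s} |C(z)| ≤ C` then `B` has at most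
`#{o(z) = s} + ∑_{2 ≤ j ≤ v} C s ^ (v (j - 2)) / ∏_{i < j} (s ^ j - s ^ i)` elementary abelian `s`-subgroups `≠ 1`.
-/

set_option autoImplicit false

namespace Cfsg.Agent.H775.EPS

open Subgroup Cfsg.Agent.H59.EP

variable {B : Type*} [Group B] {s : ℕ}

theorem good_append (l' : List B) {l : List B} (h : Good s (l' ++ l)) : Good s l := by
  induction l' with
  | nil => exact h
  | cons x l' ih => exact ih h.1

/-- lists with entries in a subgroup -/
def LS (S : Subgroup B) (n : ℕ) : Set (List B) := {l | l.length = n ∧ ∀ x ∈ l, x ∈ S}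

theorem LS_finite [Finite B] (S : Subgroup B) (n : ℕ) : (LS S n).Finite :=
  (List.finite_length_eq B n).subset fun _ h => h.1

theorem ncard_LS_le [Finite B] (S : Subgroup B) (n : ℕ) : (LS S n).ncard ≤ Nat.card S ^ n := by
  induction n with
  | zero =>
    have : LS S 0 ⊆ {[]} := by
      rintro l ⟨h, _⟩
      exact List.length_eq_zero_iff.1 h
    refine (Set.ncard_le_ncard this (Set.toFinite _)).trans ?_
    rw [Set.ncard_singleton, pow_zero]
  | succ n ih =>
    have hsub : LS S (n + 1) ⊆ (fun p : B × List B => p.1 :: p.2) '' ((S : Set B) ×ˢ LS S n) := by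
      rintro l ⟨h1, h2⟩
      cases l with
      | nil => simp at h1
      | cons x l =>
        exact ⟨(x, l), ⟨h2 x List.mem_cons_self, by simpa using h1, fun y hy => h2 y (List.mem_cons_of_mem _ hy)⟩, rfl⟩
    have hfin : ((S : Set B) ×ˢ LS S n).Finite := (Set.toFinite _).prod (LS_finite S n)
    refine (Set.ncard_le_ncard hsub (hfin.image _)).trans ((Set.ncard_image_le hfin).trans ?_)
    rw [Set.ncard_prod, pow_succ, mul_comm]
    exact Nat.mul_le_mul ih le_rfl

theorem ncard_biUnion_le {ι α : Type*} (I : Finset ι) (f : ι → Set α) (hf : ∀ i ∈ I, (f i).Finite) :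
    (⋃ i ∈ I, f i).ncard ≤ ∑ i ∈ I, (f i).ncard := by
  classical
  induction I using Finset.induction_on with
  | empty => simp only [_root_.Finset.notMem_empty, _root_.Set.iUnion_of_empty, _root_.Set.iUnion_empty, _root_.Set.ncard_empty, _root_.Finset.sum_empty, _root_.Std.le_refl]
  | insert j I hj ih =>
    rw [Finset.sum_insert hj, Finset.set_biUnion_insert]
    exact (Set.ncard_union_le _ _).trans (Nat.add_le_add_left (ih fun i hi => hf i (Finset.mem_insert_of_mem hi)) _)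

/-- good lists with last entry `z` -/
theorem ncard_last_le [Finite B] (hs : s.Prime) {v : ℕ} (hv : (Nat.card B).factorization s ≤ v) (z : B) {j : ℕ}
    (hj : 2 ≤ j) :
    {l : List B | l.length = j ∧ Good s l ∧ ∃ l', l = l' ++ [z]}.ncard ≤
      Nat.card (centralizer ({z} : Set B)) * s ^ (v * (j - 2)) := by
  classical
  have hfs : Fact s.Prime := ⟨hs⟩
  have hfin : Finite (Sylow s (centralizer ({z} : Set B))) := inferInstance
  have := Fintype.ofFinite (Sylow s (centralizer ({z} : Set B)))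
  let P : Sylow s (centralizer ({z} : Set B)) := default
  set a := (Nat.card (centralizer ({z} : Set B))).factorization s with ha
  have hS : ∀ S : Sylow s (centralizer ({z} : Set B)),
      Nat.card ((S : Subgroup (centralizer ({z} : Set B))).map (centralizer ({z} : Set B)).subtype) = s ^ a := by
    intro S
    rw [Subgroup.card_map_of_injective (Subgroup.subtype_injective _)]
    exact S.card_eq_multiplicity
  have hav : a ≤ v := by
    refine le_trans ?_ hv
    exact (Nat.factorization_le_iff_dvd Nat.card_pos.ne' Nat.card_pos.ne').2 (Subgroup.card_subgroup_dvd_card _) s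
  have hsub : {l : List B | l.length = j ∧ Good s l ∧ ∃ l', l = l' ++ [z]} ⊆
      ⋃ S ∈ (Finset.univ : Finset (Sylow s (centralizer ({z} : Set B)))), (fun l' => l' ++ [z]) ''
        LS ((S : Subgroup (centralizer ({z} : Set B))).map (centralizer ({z} : Set B)).subtype) (j - 1) := by
    rintro l ⟨h1, h2, l', rfl⟩
    obtain ⟨h3, -⟩ := h2.elab hs
    have hmem : ∀ x ∈ l' ++ [z], x ∈ _root_.Subgroup.closure {y | y ∈ l' ++ [z]} := fun x hx => _root_.Subgroup.subset_closure hx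
    have hz : z ∈ closure {y | y ∈ l' ++ [z]} := hmem z (by simp)
    have hle : _root_.Subgroup.closure {y | y ∈ l' ++ [z]} ≤ centralizer ({z} : Set B) := by
      intro y hy
      rw [mem_centralizer_singleton_iff]
      exact h3.comm y hy z hz
    have hps : IsPGroup s ((closure {y | y ∈ l' ++ [z]}).subgroupOf (centralizer ({z} : Set B))) := by
      rintro ⟨y, hy⟩
      refine ⟨1, Subtype.ext (Subtype.ext ?_)⟩
      rw [pow_one]
      exact h3.exp y hy
    obtain ⟨S, hS'⟩ := hps.exists_le_sylow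
    simp only [Finset.mem_univ, Set.iUnion_true, Set.mem_iUnion]
    refine ⟨S, l', ⟨?_, ?_⟩, rfl⟩
    · rw [List.length_append, List.length_singleton] at h1
      omega
    · intro x hx
      have hx' := hmem x (List.mem_append_left _ hx)
      exact ⟨⟨x, hle hx'⟩, hS' hx', rfl⟩
  refine (Set.ncard_le_ncard hsub (Set.Finite.biUnion (Finset.finite_toSet _) fun S _ => (LS_finite _ _).image _)).trans
    ((ncard_biUnion_le _ _ fun S _ => (LS_finite _ _).image _).trans ?_)
  have h4 : ∀ S ∈ (Finset.univ : Finset (Sylow s (centralizer ({z} : Set B)))), ((fun l' => l' ++ [z]) ''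
      LS ((S : Subgroup (centralizer ({z} : Set B))).map (centralizer ({z} : Set B)).subtype) (j - 1)).ncard ≤
        (s ^ a) ^ (j - 1) := by
    intro S _
    refine (Set.ncard_image_le (LS_finite _ _)).trans ((ncard_LS_le _ _).trans ?_)
    rw [hS S]
  refine (Finset.sum_le_card_nsmul _ _ _ h4).trans ?_
  rw [smul_eq_mul, Finset.card_univ, ← Nat.card_eq_fintype_card]
  obtain ⟨k, rfl⟩ : ∃ k, j = k + 2 := ⟨j - 2, by omega⟩
  rw [show k + 2 - 1 = k + 1 by omega, show k + 2 - 2 = k by omega, pow_succ, mul_comm ((s ^ a) ^ k), ← mul_assoc]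
  apply Nat.mul_le_mul
  · have h5 : Nat.card (Sylow s (centralizer ({z} : Set B))) ≤ (P : Subgroup (centralizer ({z} : Set B))).index := by
      rw [P.card_eq_index_normalizer]
      exact Nat.le_of_dvd (Nat.pos_of_ne_zero Subgroup.index_ne_zero_of_finite) (Subgroup.index_dvd_of_le le_normalizer)
    have h6 := (P : Subgroup (centralizer ({z} : Set B))).index_mul_card
    rw [P.card_eq_multiplicity] at h6
    calc Nat.card (Sylow s (centralizer ({z} : Set B))) * s ^ a
        ≤ (P : Subgroup (centralizer ({z} : Set B))).index * s ^ a := Nat.mul_le_mul_right _ h5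
      _ = Nat.card (centralizer ({z} : Set B)) := h6
  · rw [← pow_mul]
    exact Nat.pow_le_pow_right hs.pos (Nat.mul_le_mul_right _ hav)

/-- all good lists -/
theorem ncard_LL_top_le [Finite B] (hs : s.Prime) {v C : ℕ} (hv : (Nat.card B).factorization s ≤ v)
    (hC : ∑ z ∈ (Set.toFinite {z : B | orderOf z = s}).toFinset, Nat.card (centralizer ({z} : Set B)) ≤ C) {j : ℕ}
    (hj : 2 ≤ j) : (LL s (⊤ : Subgroup B) j).ncard ≤ C * s ^ (v * (j - 2)) := by
  classical
  have hfs : Fact s.Prime := ⟨hs⟩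
  have hfin : ∀ z : B, {l : List B | l.length = j ∧ Good s l ∧ ∃ l', l = l' ++ [z]}.Finite := fun z =>
    (List.finite_length_eq B j).subset fun _ h => h.1
  have hsub : LL s (⊤ : Subgroup B) j ⊆ ⋃ z ∈ (Set.toFinite {z : B | orderOf z = s}).toFinset,
      {l : List B | l.length = j ∧ Good s l ∧ ∃ l', l = l' ++ [z]} := by
    rintro l ⟨h1, h2, -⟩
    rcases List.eq_nil_or_concat l with rfl | ⟨l', z, rfl⟩
    · simp at h1
      omega
    · rw [List.concat_eq_append] at *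
      have h3 := good_append l' h2
      have hz : orderOf z = s := by
        apply orderOf_eq_prime h3.2.1
        rintro rfl
        exact h3.2.2.2 (one_mem _)
      simp only [Set.mem_iUnion]
      exact ⟨z, (Set.Finite.mem_toFinset _).2 hz, h1, h2, l', rfl⟩
  refine (Set.ncard_le_ncard hsub (Set.Finite.biUnion (Finset.finite_toSet _) fun z _ => hfin z)).trans
    ((ncard_biUnion_le _ _ fun z _ => hfin z).trans ?_)
  refine (Finset.sum_le_sum fun z _ => ncard_last_le hs hv z hj).trans ?_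
  rw [← Finset.sum_mul]
  exact Nat.mul_le_mul_right _ hC

/-- the elementary abelian subgroups of rank `j` -/
theorem ncard_rank_mul_le [Finite B] (hs : s.Prime) (j : ℕ) :
    {E : Subgroup B | ElAb s E ∧ Nat.card E = s ^ j}.ncard * ∏ i ∈ Finset.range j, (s ^ j - s ^ i) ≤
      (LL s (⊤ : Subgroup B) j).ncard := by
  classical
  set 𝓔 := {E : Subgroup B | ElAb s E ∧ Nat.card E = s ^ j} with h𝓔
  have hfin : 𝓔.Finite := Set.toFinite _
  have hdis : ∀ E ∈ 𝓔, ∀ l ∈ LL s E j, _root_.Subgroup.closure {y | y ∈ l} = E := by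
    rintro E ⟨h2, h3⟩ l ⟨h4, h5, h6⟩
    have hle : closure {y | y ∈ l} ≤ E := (closure_le _).2 h6
    apply Subgroup.eq_of_le_of_card_ge hle
    rw [(h5.elab hs).2, h4, h3]
  have hbi : (hfin.toFinset.biUnion fun E => (LL_finite (s := s) E j).toFinset) ⊆
      (LL_finite (s := s) (⊤ : Subgroup B) j).toFinset := by
    intro l hl
    rw [Finset.mem_biUnion] at hl
    obtain ⟨E, hE, hl⟩ := hl
    rw [Set.Finite.mem_toFinset] at hE hl ⊢
    exact ⟨hl.1, hl.2.1, fun x hx => mem_top x⟩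
  have hcard := Finset.card_le_card hbi
  rw [Finset.card_biUnion] at hcard
  · rw [← Set.ncard_eq_toFinset_card _ (LL_finite _ _)] at hcard
    refine le_trans ?_ hcard
    rw [Set.ncard_eq_toFinset_card _ hfin, ← smul_eq_mul]
    apply Finset.card_nsmul_le_sum
    intro E hE
    rw [Set.Finite.mem_toFinset] at hE
    rw [← Set.ncard_eq_toFinset_card _ (LL_finite _ _)]
    have := le_ncard_LL hs hE.1 j
    rwa [hE.2] at this
  · intro E hE E' hE' hne
    rw [Function.onFun, Finset.disjoint_left]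
    intro l hl hl'
    rw [Finset.mem_coe, Set.Finite.mem_toFinset] at hE hE'
    rw [Set.Finite.mem_toFinset] at hl hl'
    apply hne
    rw [← hdis E hE l hl, hdis E' hE' l hl']

/-- the bound for rank `≥ 2` -/
def flag (s v C : ℕ) : ℕ :=
  ∑ j ∈ Finset.Icc 2 v, (C * s ^ (v * (j - 2))) / (∏ i ∈ Finset.range j, (s ^ j - s ^ i))

/-- **the number of elementary abelian `s`-subgroups** -/
theorem ncard_elab_le_flag [Finite B] (hs : s.Prime) {v C : ℕ} (hv : (Nat.card B).factorization s ≤ v)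
    (hC : ∑ z ∈ (Set.toFinite {z : B | orderOf z = s}).toFinset, Nat.card (centralizer ({z} : Set B)) ≤ C) :
    {X : Subgroup B | ElAb s X ∧ X ≠ ⊥}.ncard ≤ {z : B | orderOf z = s}.ncard + flag s v C := by
  classical
  have hfs : Fact s.Prime := ⟨hs⟩
  have hsub : {X : Subgroup B | ElAb s X ∧ X ≠ ⊥} ⊆ ((fun z : B => zpowers z) '' {z : B | orderOf z = s}) ∪
      ⋃ j ∈ Finset.Icc 2 v, {E : Subgroup B | ElAb s E ∧ Nat.card E = s ^ j} := by
    rintro X ⟨h1, h2⟩
    have hps : IsPGroup s X := by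
      rintro ⟨y, hy⟩
      refine ⟨1, Subtype.ext ?_⟩
      rw [pow_one]
      exact h1.exp y hy
    obtain ⟨m, hm⟩ := IsPGroup.iff_card.1 hps
    have hmv : m ≤ v := by
      refine le_trans ?_ hv
      rw [← hs.pow_dvd_iff_le_factorization Nat.card_pos.ne', ← hm]
      exact Subgroup.card_subgroup_dvd_card _
    rcases Nat.lt_or_ge m 2 with hlt | hge
    · left
      have hm1 : m = 1 := by
        have : m ≠ 0 := by
          rintro rfl
          apply h2
          rw [← Subgroup.card_eq_one, hm, pow_zero]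
        omega
      rw [hm1, pow_one] at hm
      obtain ⟨x, hx1⟩ := Subgroup.ne_bot_iff_exists_ne_one.1 h2
      have hx : (x : B) ∈ X := x.2
      have hord : orderOf (x : B) = s := by
        apply orderOf_eq_prime (h1.exp _ hx)
        intro e
        exact hx1 (Subtype.ext e)
      refine ⟨x, hord, ?_⟩
      show zpowers (x : B) = X
      apply Subgroup.eq_of_le_of_card_ge
      · rw [zpowers_le]
        exact hx
      · rw [hm, Nat.card_zpowers, hord]
    · right
      simp only [Set.mem_iUnion]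
      exact ⟨m, Finset.mem_Icc.2 ⟨hge, hmv⟩, h1, hm⟩
  refine (Set.ncard_le_ncard hsub (Set.toFinite _)).trans ((Set.ncard_union_le _ _).trans (Nat.add_le_add
    (Set.ncard_image_le (Set.toFinite _)) ((ncard_biUnion_le _ _ fun _ _ => Set.toFinite _).trans
      (Finset.sum_le_sum fun j hj => ?_))))
  rw [Finset.mem_Icc] at hj
  rw [Nat.le_div_iff_mul_le]
  · exact (ncard_rank_mul_le hs j).trans (ncard_LL_top_le hs hv hC hj.1)
  · apply Finset.prod_pos
    intro i hi
    rw [Finset.mem_range] at hi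
    have := Nat.pow_lt_pow_right hs.one_lt hi
    omega

/-! ### classes -/

theorem ncard_class_le [Finite B] (r : B) : {z : B | ∃ g : B, z = g * r * g⁻¹}.ncard ≤ (centralizer ({r} : Set B)).index := by
  classical
  have hsub : {z : B | ∃ g : B, z = g * r * g⁻¹} ⊆ Set.range fun c : B ⧸ centralizer ({r} : Set B) => c.out * r * c.out⁻¹ := by
    rintro _ ⟨g, rfl⟩
    refine ⟨(g : B ⧸ centralizer ({r} : Set B)), ?_⟩
    obtain ⟨n, hn⟩ := QuotientGroup.mk_out_eq_mul (centralizer ({r} : Set B)) g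
    show (g : B ⧸ centralizer ({r} : Set B)).out * r * (g : B ⧸ centralizer ({r} : Set B)).out⁻¹ = g * r * g⁻¹
    rw [hn]
    have h1 : (n : B) * r = r * n := mem_centralizer_singleton_iff.1 n.2
    calc g * n * r * (g * n)⁻¹ = g * (n * r) * (n : B)⁻¹ * g⁻¹ := by group
      _ = g * r * g⁻¹ := by rw [h1]; group
  refine (Set.ncard_le_ncard hsub (Set.toFinite _)).trans ?_
  rw [← Set.image_univ]
  refine (Set.ncard_image_le (Set.toFinite _)).trans ?_
  rw [Set.ncard_univ]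
  exact le_rfl

theorem card_cent_conj (g x : B) :
    Nat.card (centralizer ({g * x * g⁻¹} : Set B)) = Nat.card (centralizer ({x} : Set B)) := by
  refine Nat.card_congr ?_
  exact
    { toFun := fun w => ⟨g⁻¹ * w * g, by
        have h3 := mem_centralizer_singleton_iff.1 w.2
        rw [mem_centralizer_singleton_iff]
        calc g⁻¹ * w * g * x = g⁻¹ * (w * (g * x * g⁻¹)) * g := by group
          _ = x * (g⁻¹ * w * g) := by rw [h3]; group⟩
      invFun := fun w => ⟨g * w * g⁻¹, by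
        have h3 := mem_centralizer_singleton_iff.1 w.2
        rw [mem_centralizer_singleton_iff]
        calc g * w * g⁻¹ * (g * x * g⁻¹) = g * (w * x) * g⁻¹ := by group
          _ = g * x * g⁻¹ * (g * w * g⁻¹) := by rw [h3]; group⟩
      left_inv := fun w => Subtype.ext (by show g * (g⁻¹ * w * g) * g⁻¹ = w; group)
      right_inv := fun w => Subtype.ext (by show g⁻¹ * (g * w * g⁻¹) * g = w; group) }

theorem sum_biUnion_le {ι α : Type*} [DecidableEq α] (I : Finset ι) (t : ι → Finset α) (f : α → ℕ) :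
    ∑ x ∈ I.biUnion t, f x ≤ ∑ i ∈ I, ∑ x ∈ t i, f x := by
  classical
  induction I using Finset.induction_on with
  | empty => simp
  | insert j I hj ih =>
    rw [Finset.biUnion_insert, Finset.sum_insert hj]
    have h1 := Finset.sum_union_inter (s₁ := t j) (s₂ := I.biUnion t) (f := f)
    omega

/-- the class equation for the elements of order `s` -/
theorem sum_cent_le [Finite B] (R : Finset B) (hR : ∀ z : B, orderOf z = s → ∃ r ∈ R, ∃ g : B, z = g * r * g⁻¹) :
    ∑ z ∈ (Set.toFinite {z : B | orderOf z = s}).toFinset, Nat.card (centralizer ({z} : Set B)) ≤ R.card * Nat.card B := by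
  classical
  have hsub : (Set.toFinite {z : B | orderOf z = s}).toFinset ⊆
      R.biUnion fun r => (Set.toFinite {z : B | ∃ g : B, z = g * r * g⁻¹}).toFinset := by
    intro z hz
    rw [Set.Finite.mem_toFinset] at hz
    obtain ⟨r, hr, h1⟩ := hR z hz
    rw [Finset.mem_biUnion]
    exact ⟨r, hr, (Set.Finite.mem_toFinset _).2 h1⟩
  refine (Finset.sum_le_sum_of_subset hsub).trans ((sum_biUnion_le _ _ _).trans ?_)
  rw [← smul_eq_mul]
  refine Finset.sum_le_card_nsmul _ _ _ fun r _ => ?_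
  have h1 : ∀ z ∈ (Set.toFinite {z : B | ∃ g : B, z = g * r * g⁻¹}).toFinset,
      Nat.card (centralizer ({z} : Set B)) ≤ Nat.card (centralizer ({r} : Set B)) := by
    intro z hz
    rw [Set.Finite.mem_toFinset] at hz
    obtain ⟨g, rfl⟩ := hz
    rw [card_cent_conj]
  refine (Finset.sum_le_card_nsmul _ _ _ h1).trans ?_
  rw [smul_eq_mul, ← Set.ncard_eq_toFinset_card _ (Set.toFinite _),
    ← (centralizer ({r} : Set B)).index_mul_card]
  exact Nat.mul_le_mul_right _ (ncard_class_le r)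

end Cfsg.Agent.H775.EPS
end

-- part: H775/EPS/SuzNum
section
/-!
# S3499: numbers for the Suzuki group (helper775)
-/

set_option autoImplicit false

namespace Cfsg.Agent.H775.EPS

open Subgroup Cfsg
open Cfsg.Spor (Suz IsoSuz)

theorem reps_two : ∃ a b : Suz, Nat.card (centralizer ({a} : Set Suz)) = 3317760 ∧
    Nat.card (centralizer ({b} : Set Suz)) = 161280 ∧
    ∀ t : Suz, orderOf t = 2 → (∃ g, t = g * a * g⁻¹) ∨ ∃ g, t = g * b * g⁻¹ := by
  refine ⟨Cfsg.Agent.SuzThree.CentA.z0, Cfsg.Agent.KFacts.SuzLFour.e0, KFacts.SuzCent.card_C1,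
    KFacts.SuzTwoB.card_CE, ?_⟩
  intro t ht
  rcases CpAutSuz.Classes.exists_conj_inv ht with ⟨g, hg⟩ | ⟨g, hg⟩
  · exact Or.inl ⟨g, hg.symm⟩
  · exact Or.inr ⟨g, hg.symm⟩

theorem reps_three : ∃ a b c : Suz, ∀ t : Suz, orderOf t = 3 →
    (∃ g, t = g * a * g⁻¹) ∨ (∃ g, t = g * b * g⁻¹) ∨ ∃ g, t = g * c * g⁻¹ := by
  refine ⟨Cfsg.Agent.SuzThree.ThreeWr.y0, CpAutSuz.Classes.z1, CpAutSuz.Classes.t1, ?_⟩
  intro g hg
  obtain ⟨u, huu, hu1, hus⟩ := H265.SuzEven.exists_inv (s := g) (by rw [← hg]; exact pow_orderOf_eq_one g)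
  have hu : orderOf u = 2 := orderOf_eq_prime (by rw [pow_two]; exact huu) hu1
  have hconj : ∀ h t : Suz, h * t * h⁻¹ = u → orderOf (h⁻¹ * g * h) = 3 ∧ (h⁻¹ * g * h) * t = t * (h⁻¹ * g * h) := by
    intro h t ht
    refine ⟨?_, ?_⟩
    · have h1 : orderOf (MulAut.conj h⁻¹ g) = orderOf g := MulEquiv.orderOf_eq _ _
      rw [MulAut.conj_apply, inv_inv] at h1
      rw [h1, hg]
    · calc h⁻¹ * g * h * t = h⁻¹ * (g * (h * t * h⁻¹)) * h := by group
        _ = t * (h⁻¹ * g * h) := by rw [ht, ← hus, ← ht]; group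
  have key : ∀ h c t : Suz, c * (h⁻¹ * g * h) * c⁻¹ = t → ∃ d, g = d * t * d⁻¹ := by
    intro h c t ht
    refine ⟨h * c⁻¹, ?_⟩
    rw [← ht]
    group
  rcases CpAutSuz.Classes.exists_conj_inv hu with ⟨h, hh⟩ | ⟨h, hh⟩
  · obtain ⟨h1, h2⟩ := hconj h _ hh
    rcases CpAutSuz.Classes.conj_of_z0 h1 h2 with ⟨c, hc⟩ | ⟨c, hc⟩
    · exact Or.inl (key h c _ hc)
    · exact Or.inr (Or.inl (key h c _ hc))
  · obtain ⟨h1, h2⟩ := hconj h _ hh
    obtain ⟨c, hc⟩ := CpAutSuz.Classes.conj_of_e0 h1 h2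
    exact Or.inr (Or.inr (key h c _ hc))

section

variable {B : Type*} [Group B]

theorem card_suz_iso (h : IsoSuz B) : Nat.card B = 448345497600 := by
  obtain ⟨e⟩ := h
  rw [Nat.card_congr e.toEquiv]
  exact SporadicRecognition.SuzOrder.card_Suz

theorem finite_suz_iso (h : IsoSuz B) : Finite B := Nat.finite_of_card_ne_zero (by rw [card_suz_iso h]; norm_num)

theorem cent_map {G H : Type*} [Group G] [Group H] (e : G ≃* H) (x : G) :
    Nat.card (centralizer ({e x} : Set H)) = Nat.card (centralizer ({x} : Set G)) := by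
  symm
  refine Nat.card_congr ?_
  exact
    { toFun := fun w => ⟨e w, by
        have h3 := mem_centralizer_singleton_iff.1 w.2
        rw [mem_centralizer_singleton_iff, ← map_mul, ← map_mul, h3]⟩
      invFun := fun w => ⟨e.symm w, by
        have h3 := mem_centralizer_singleton_iff.1 w.2
        rw [mem_centralizer_singleton_iff]
        apply e.injective
        rw [map_mul, map_mul, e.apply_symm_apply, h3]⟩
      left_inv := fun w => Subtype.ext (e.symm_apply_apply _)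
      right_inv := fun w => Subtype.ext (e.apply_symm_apply _) }

theorem conj_symm (e : B ≃* Suz) {t : B} {a : Suz} (h : ∃ g, e t = g * a * g⁻¹) : ∃ g : B, t = g * e.symm a * g⁻¹ := by
  obtain ⟨g, hg⟩ := h
  refine ⟨e.symm g, ?_⟩
  rw [← map_inv, ← map_mul, ← map_mul, ← hg, e.symm_apply_apply]

/-- the classes of involutions -/
theorem reps_two' (h : IsoSuz B) : ∃ a b : B, Nat.card (centralizer ({a} : Set B)) = 3317760 ∧
    Nat.card (centralizer ({b} : Set B)) = 161280 ∧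
    ∀ t : B, orderOf t = 2 → (∃ g, t = g * a * g⁻¹) ∨ ∃ g, t = g * b * g⁻¹ := by
  obtain ⟨e⟩ := h
  obtain ⟨a, b, h1, h2, h3⟩ := reps_two
  refine ⟨e.symm a, e.symm b, by rw [cent_map]; exact h1, by rw [cent_map]; exact h2, ?_⟩
  intro t ht
  rcases h3 (e t) (by rw [MulEquiv.orderOf_eq, ht]) with h4 | h4
  · exact Or.inl (conj_symm e h4)
  · exact Or.inr (conj_symm e h4)

/-- **the number of involutions** -/
theorem ncard_inv_le (h : IsoSuz B) : {z : B | orderOf z = 2}.ncard ≤ 2915055 := by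
  have hfin := finite_suz_iso h
  obtain ⟨a, b, ha, hb, hab⟩ := reps_two' h
  have hsub : {z : B | orderOf z = 2} ⊆ {z : B | ∃ g : B, z = g * a * g⁻¹} ∪ {z : B | ∃ g : B, z = g * b * g⁻¹} := by
    intro z hz
    exact hab z hz
  refine (Set.ncard_le_ncard hsub (Set.toFinite _)).trans ((Set.ncard_union_le _ _).trans ?_)
  have h1 := ncard_class_le a
  have h2 := ncard_class_le b
  have h3 := (centralizer ({a} : Set B)).card_mul_index
  have h4 := (centralizer ({b} : Set B)).card_mul_index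
  rw [ha, card_suz_iso h] at h3
  rw [hb, card_suz_iso h] at h4
  omega

theorem sum_two (h : IsoSuz B) [Finite B] :
    ∑ z ∈ (Set.toFinite {z : B | orderOf z = 2}).toFinset, Nat.card (centralizer ({z} : Set B)) ≤ 2 * 448345497600 := by
  classical
  obtain ⟨a, b, -, -, hab⟩ := reps_two' h
  refine (sum_cent_le {a, b} ?_).trans ?_
  · intro z hz
    rcases hab z hz with h1 | h1
    · exact ⟨a, by simp, h1⟩
    · exact ⟨b, by simp, h1⟩
  · rw [card_suz_iso h]
    exact Nat.mul_le_mul_right _ Finset.card_le_two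

theorem sum_three (h : IsoSuz B) [Finite B] :
    ∑ z ∈ (Set.toFinite {z : B | orderOf z = 3}).toFinset, Nat.card (centralizer ({z} : Set B)) ≤ 3 * 448345497600 := by
  classical
  have hc := card_suz_iso h
  obtain ⟨e⟩ := h
  obtain ⟨a, b, c, habc⟩ := reps_three
  refine (sum_cent_le {e.symm a, e.symm b, e.symm c} ?_).trans ?_
  · intro z hz
    rcases habc (e z) (by rw [MulEquiv.orderOf_eq, hz]) with h1 | h1 | h1
    · exact ⟨e.symm a, by simp, conj_symm e h1⟩
    · exact ⟨e.symm b, by simp, conj_symm e h1⟩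
    · exact ⟨e.symm c, by simp, conj_symm e h1⟩
  · rw [hc]
    exact Nat.mul_le_mul_right _ Finset.card_le_three

theorem fact2 (h : IsoSuz B) : (Nat.card B).factorization 2 ≤ 13 := by
  rw [card_suz_iso h]
  by_contra hlt
  push Not at hlt
  have h1 : 2 ^ 14 ∣ 448345497600 := (Nat.prime_two.pow_dvd_iff_le_factorization (by norm_num)).2 hlt
  norm_num at h1

theorem fact3 (h : IsoSuz B) : (Nat.card B).factorization 3 ≤ 7 := by
  rw [card_suz_iso h]
  by_contra hlt
  push Not at hlt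
  have h1 : 3 ^ 8 ∣ 448345497600 := (Nat.prime_three.pow_dvd_iff_le_factorization (by norm_num)).2 hlt
  norm_num at h1

/-- `|Aut Suz|` -/
theorem aut_suz (h : IsoSuz B) : Nat.card (MulAut B) ∣ 896690995200 := by
  obtain ⟨e⟩ := h
  rw [Nat.card_congr (MulAut.congr e).toEquiv]
  have h1 := card_mul_index (MulAut.conj : Spor.Suz →* MulAut Spor.Suz).range
  rw [← h1, show 896690995200 = 448345497600 * 2 by norm_num]
  refine mul_dvd_mul ?_ ?_
  · have h2 : Nat.card Spor.Suz = 448345497600 := SporadicRecognition.SuzOrder.card_Suz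
    rw [← h2]
    exact Subgroup.card_range_dvd _
  · rcases Cfsg.Agent.KFacts.SuzOut.index_eq with h2 | h2 <;> rw [h2]
    exact one_dvd 2

end

end Cfsg.Agent.H775.EPS
end

-- part: H775/EPS/Five
section
/-!
# S3499: pairs of elements of order 5 in the Suzuki group, general part (helper775)
-/

set_option autoImplicit false

namespace Cfsg.Agent.H775.EPS

open Subgroup Cfsg.Agent.J2Type.SylowFive Cfsg.Agent.H812 Cfsg.Agent.H812.FiveBasis
open scoped commutatorElement

section inverting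

variable {E : Type*} [Group E] [Finite E]

/-- a perfect group of order divisible by 5 but not by 25: some element of order 5 is inverted -/
theorem exists_inv (hper : commutator E = ⊤) (h5 : 5 ∣ Nat.card E) (h25 : ¬ 25 ∣ Nat.card E) :
    ∃ v a : E, orderOf v = 5 ∧ a * v * a⁻¹ = v⁻¹ := by
  classical
  have hf : Fact (Nat.Prime 5) := ⟨by norm_num⟩
  let P : Sylow 5 E := default
  have hP : Nat.card (P : Subgroup E) = 5 := by
    have h1 : Nat.card (P : Subgroup E) = 5 ^ (Nat.card E).factorization 5 := P.card_eq_multiplicity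
    have h2 : (Nat.card E).factorization 5 = 1 := by
      apply le_antisymm
      · by_contra hlt
        push Not at hlt
        apply h25
        have h3 : 5 ^ 2 ∣ Nat.card E := (hf.out.pow_dvd_iff_le_factorization Nat.card_pos.ne').2 hlt
        exact h3
      · exact (hf.out.dvd_iff_one_le_factorization Nat.card_pos.ne').1 h5
    rw [h1, h2, pow_one]
  have hcyc : IsCyclic (P : Subgroup E) := isCyclic_of_prime_card hP
  obtain ⟨⟨v, hvP⟩, hv⟩ := hcyc.exists_generator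
  have hv5 : orderOf v = 5 := by
    have h1 : orderOf (⟨v, hvP⟩ : (P : Subgroup E)) = Nat.card (P : Subgroup E) := orderOf_eq_card_of_forall_mem_zpowers hv
    rw [hP] at h1
    rw [← h1, Subgroup.orderOf_mk]
  have hzP : ∀ y ∈ (P : Subgroup E), ∃ k < 5, y = v ^ k := by
    intro y hy
    have h1 := hv ⟨y, hy⟩
    have h2 : (⟨y, hy⟩ : (P : Subgroup E)) ∈ Submonoid.powers (⟨v, hvP⟩ : (P : Subgroup E)) :=
      mem_powers_iff_mem_zpowers.2 h1
    obtain ⟨n, hn⟩ := h2
    have hn' : v ^ n = y := congrArg Subtype.val hn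
    refine ⟨n % 5, Nat.mod_lt _ (by norm_num), ?_⟩
    rw [← hn', ← pow_mod_orderOf v n, hv5]
  -- Burnside's transfer theorem
  have hN : ¬ normalizer ((P : Subgroup E) : Set E) ≤ centralizer ((P : Subgroup E) : Set E) := by
    intro hle
    have hdis := (MonoidHom.ker_transferSylow_isComplement' P hle)
    have hcomm : IsMulCommutative (P : Subgroup E) :=
      ⟨⟨fun a b => Subtype.ext (hle (le_normalizer b.2) a a.2)⟩⟩
    have hker : (MonoidHom.transferSylow P hle).ker = ⊤ := by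
      rw [eq_top_iff, ← hper, commutator_def, commutator_le]
      intro a _ b _
      rw [MonoidHom.mem_ker, map_commutatorElement, commutatorElement_eq_one_iff_mul_comm]
      exact mul_comm' _ _
    rw [hker, isComplement'_top_left] at hdis
    have h2 := hdis
    have h3 : Nat.card (P : Subgroup E) = 1 := by rw [h2, Subgroup.card_bot]
    rw [hP] at h3
    norm_num at h3
  obtain ⟨a, haN, haC⟩ := SetLike.not_le_iff_exists.1 hN
  have h1 : a * v * a⁻¹ ∈ (P : Subgroup E) := (mem_normalizer_iff.1 haN v).1 hvP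
  obtain ⟨k, hk5, hk⟩ := hzP _ h1
  have hv5' : v ^ 5 = 1 := by rw [← hv5, pow_orderOf_eq_one]
  have hsq : a * a * v * (a * a)⁻¹ = v ^ (k * k) := by
    calc a * a * v * (a * a)⁻¹ = a * (a * v * a⁻¹) * a⁻¹ := by group
      _ = (a * v * a⁻¹) ^ k := by rw [conj_pow, ← hk]
      _ = v ^ (k * k) := by rw [hk, ← pow_mul]
  have h4 : v ^ 4 = v⁻¹ := by
    rw [eq_inv_iff_mul_eq_one, ← pow_succ]
    exact hv5'
  refine ⟨v, ?_⟩
  interval_cases k
  · exfalso
    rw [pow_zero] at hk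
    have : v = 1 := by
      calc v = a⁻¹ * (a * v * a⁻¹) * a := by group
        _ = 1 := by rw [hk]; group
    rw [this, orderOf_one] at hv5
    norm_num at hv5
  · exfalso
    apply haC
    rw [pow_one] at hk
    rw [mem_centralizer_iff]
    intro y hy
    obtain ⟨m, -, rfl⟩ := hzP y hy
    have h2 : Commute a v := by
      show a * v = v * a
      rw [← mul_inv_eq_iff_eq_mul]
      exact hk
    exact (h2.pow_right m).eq.symm
  · refine ⟨a * a, hv5, ?_⟩
    rw [hsq]
    exact h4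
  · refine ⟨a * a, hv5, ?_⟩
    rw [hsq, ← h4, show 3 * 3 = 5 + 4 by norm_num, pow_add, hv5', one_mul]
  · exact ⟨a, hv5, by rw [hk, h4]⟩

end inverting

/-! ### counting -/

/-- elements of order 5 with centraliser of order 300 -/
def G3 {G : Type*} [Group G] (y : G) : Prop := orderOf y = 5 ∧ Nat.card (centralizer ({y} : Set G)) = 300

theorem card_cent_equiv {G H : Type*} [Group G] [Group H] (e : G ≃* H) (x : G) :
    Nat.card (centralizer ({x} : Set G)) = Nat.card (centralizer ({e x} : Set H)) := by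
  refine Nat.card_congr ?_
  exact
    { toFun := fun w => ⟨e w, by
        have h3 := mem_centralizer_singleton_iff.1 w.2
        rw [mem_centralizer_singleton_iff, ← map_mul, ← map_mul, h3]⟩
      invFun := fun w => ⟨e.symm w, by
        have h3 := mem_centralizer_singleton_iff.1 w.2
        rw [mem_centralizer_singleton_iff]
        apply e.injective
        rw [map_mul, map_mul, e.apply_symm_apply, h3]⟩
      left_inv := fun w => Subtype.ext (e.symm_apply_apply _)
      right_inv := fun w => Subtype.ext (e.apply_symm_apply _) }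

theorem G3.map {G H : Type*} [Group G] [Group H] (e : G ≃* H) (x : G) : G3 (e x) ↔ G3 x := by
  unfold G3
  rw [MulEquiv.orderOf_eq, card_cent_equiv e x]

theorem G3.conj {G : Type*} [Group G] (g x : G) : G3 (g * x * g⁻¹) ↔ G3 x := G3.map (MulAut.conj g) x

variable {G : Type*} [Group G]

theorem cent_pow {x : G} (hx : orderOf x = 5) {k : ℕ} (hk : ¬ 5 ∣ k) :
    centralizer ({x ^ k} : Set G) = centralizer ({x} : Set G) := by
  ext g
  rw [mem_centralizer_singleton_iff, mem_centralizer_singleton_iff]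
  have hco : Nat.Coprime k (orderOf x) := by
    rw [hx]; exact ((Nat.Prime.coprime_iff_not_dvd (by norm_num)).2 hk).symm
  obtain ⟨m, hm⟩ := exists_pow_eq_self_of_coprime hco
  constructor
  · intro h
    have h1 : Commute g (x ^ k) := h
    have h2 := h1.pow_right m
    rw [hm] at h2
    exact h2.eq
  · intro h
    exact ((show Commute g x from h).pow_right k).eq

theorem G3.pow {x : G} (hx : orderOf x = 5) {k : ℕ} (hk : ¬ 5 ∣ k) : G3 (x ^ k) ↔ G3 x := by
  unfold G3
  have hco : Nat.Coprime (orderOf x) k := by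
    rw [hx]; exact (Nat.Prime.coprime_iff_not_dvd (by norm_num)).2 hk
  rw [cent_pow hx hk, hco.orderOf_pow]

/-- the line of a vector -/
def ln (u : V2) : Fin 4 :=
  if u.1 = 0 ∧ u.2 = 0 then 0 else if u.1 = 0 ∨ u.2 = 0 then 1 else if u.1 = u.2 ∨ u.1 = -u.2 then 2 else 3

/-- representatives -/
def rp : Fin 4 → V2 := ![(0, 0), (1, 0), (1, 1), (1, 2)]

theorem ln_spec : ∀ u : V2, (ln u = 0 ∧ u = 0) ∨ ∃ k : ZMod 5, k ≠ 0 ∧ ((ln u ≠ 0 ∧ u = k • rp (ln u)) ∨
    (ln u ≠ 0 ∧ u = k • (-(rp (ln u)).1, (rp (ln u)).2)) ∨ (ln u = 1 ∧ u = k • ((0, 1) : V2))) := by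
  decide +kernel

theorem rp_ne : ∀ i : Fin 4, i ≠ 0 → rp i ≠ 0 ∧ (-(rp i).1, (rp i).2) ≠ (0 : V2) := by decide +kernel

theorem card_ne : ∀ P : Fin 4 → Bool, P 0 = false → (Finset.univ.filter fun u : V2 => P (ln u) = true).card ≠ 12 := by
  decide +kernel

theorem no_pair_aux {b : Fin 3 → G} (h : Bas b) (hord : ∀ u : V2, u ≠ 0 → orderOf (c b u) = 5)
    (hsw : G3 (c b (1, 0)) ↔ G3 (c b (0, 1))) (hneg : ∀ u : V2, G3 (c b (-u.1, u.2)) ↔ G3 (c b u)) :
    {u : V2 | G3 (c b u)}.ncard ≠ 12 := by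
  classical
  have h0 : ¬ G3 (c b 0) := by
    intro h1
    have h2 := h1.1
    rw [c_zero, orderOf_one] at h2
    norm_num at h2
  have hsmul : ∀ (k : ZMod 5) (u : V2), k ≠ 0 → u ≠ 0 → (G3 (c b (k • u)) ↔ G3 (c b u)) := by
    intro k u hk hu
    rw [c_smul h]
    apply G3.pow (hord u hu)
    revert k
    decide
  have key : ∀ u : V2, G3 (c b u) ↔ G3 (c b (rp (ln u))) := by
    intro u
    rcases ln_spec u with ⟨h1, h2⟩ | ⟨k, hk, ⟨hl, h1⟩ | ⟨hl, h1⟩ | ⟨hl, h1⟩⟩
    · rw [h1, h2]; rfl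
    · conv_lhs => rw [h1]
      exact hsmul k _ hk (rp_ne _ hl).1
    · conv_lhs => rw [h1]
      rw [hsmul k _ hk (rp_ne _ hl).2]
      exact hneg _
    · conv_lhs => rw [h1]
      rw [hsmul k _ hk (by decide), hl]
      exact hsw.symm
  intro hcard
  apply card_ne (fun i => decide (G3 (c b (rp i)))) (by
    rw [decide_eq_false_iff_not]
    exact h0)
  rw [← hcard, ← Set.ncard_coe_finset]
  congr 1
  ext u
  simp only [Finset.coe_filter, Finset.mem_univ, true_and, Set.mem_ofPred_eq, decide_eq_true_eq]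
  exact (key u).symm

/-- **No pair `v`, `w` with `v` inverted in `C(w)`** -/
theorem no_pair [Finite G] (h12 : ∀ P : Sylow 5 G, Nat.card (P : Subgroup G) = 25 ∧
      {y | y ∈ (P : Subgroup G) ∧ G3 y}.ncard = 12) {v w a : G}
    (hv : orderOf v = 5) (hw : orderOf w = 5) (hvw : v * w = w * v) (hn : w ∉ zpowers v)
    (hcard : Nat.card (centralizer ({v} : Set G)) = Nat.card (centralizer ({w} : Set G)))
    (hav : a * v * a⁻¹ = v⁻¹) (haw : a * w = w * a) : False := by
  classical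
  have hf : Fact (Nat.Prime 5) := ⟨by norm_num⟩
  have hB : Bas ![v, w, (v * w)⁻¹] := FiveMain.bas_of hv hw hvw hn (mul_inv_cancel _)
  set b : Fin 3 → G := ![v, w, (v * w)⁻¹] with hb
  have hb0 : b 0 = v := rfl
  have hb1 : b 1 = w := rfl
  have hord : ∀ u : V2, u ≠ 0 → orderOf (c b u) = 5 := by
    intro u hu
    apply orderOf_eq_prime
    · rw [← c_nsmul hB, FiveMain.five_smul, c_zero]
    · intro h1
      exact hu (c_eq_one hB h1)
  let H : Subgroup G :=
    { carrier := Set.range (c b)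
      one_mem' := ⟨0, c_zero (b := b)⟩
      mul_mem' := by
        rintro _ _ ⟨u, rfl⟩ ⟨u', rfl⟩
        exact ⟨u + u', c_add hB u u'⟩
      inv_mem' := by
        rintro _ ⟨u, rfl⟩
        exact ⟨-u, c_neg hB u⟩ }
  have hH : IsPGroup 5 H := by
    rintro ⟨_, u, rfl⟩
    refine ⟨1, Subtype.ext ?_⟩
    show c b u ^ 5 ^ 1 = 1
    rw [pow_one, ← c_nsmul hB, FiveMain.five_smul, c_zero]
  obtain ⟨P, hP⟩ := hH.exists_le_sylow
  obtain ⟨hP25, hP12⟩ := h12 P
  have hbP : ∀ i, b i ∈ (P : Subgroup G) := fun i => hP ⟨FiveBasis.v i, c_v hB i⟩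
  apply no_pair_aux hB hord
  · have e1 : c b (1, 0) = v := by
      have := c_v hB 0
      exact this
    have e2 : c b (0, 1) = w := by
      have := c_v hB 1
      exact this
    rw [e1, e2]
    unfold G3
    rw [hv, hw, hcard]
  · intro u
    have e1 : c b (-u.1, u.2) = a * c b u * a⁻¹ := by
      have h1 : a * c b u * a⁻¹ = (a * v * a⁻¹) ^ u.1.val * (a * w * a⁻¹) ^ u.2.val := by
        rw [conj_pow, conj_pow]
        unfold c
        rw [hb0, hb1]
        group
      have h2 : a * w * a⁻¹ = w := by rw [haw, mul_inv_cancel_right]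
      rw [h1, hav, h2]
      have h3 : (-u.1, u.2) = -(u.1, (0 : ZMod 5)) + ((0 : ZMod 5), u.2) := by ext <;> simp
      rw [h3, c_add hB, c_neg hB]
      unfold c
      rw [hb0, hb1, ZMod.val_zero, pow_zero, pow_zero, mul_one, one_mul, inv_pow]
    rw [e1]
    exact G3.conj a _
  · rw [← hP12]
    have e : {y | y ∈ (P : Subgroup G) ∧ G3 y} = c b '' {u : V2 | G3 (c b u)} := by
      ext y
      constructor
      · rintro ⟨hy, h3⟩
        obtain ⟨u, rfl⟩ := c_bij hB hP25 hbP hy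
        exact ⟨u, h3, rfl⟩
      · rintro ⟨u, hu, rfl⟩
        exact ⟨mul_mem (pow_mem (hbP 0) _) (pow_mem (hbP 1) _), hu⟩
    rw [e, Set.ncard_image_of_injective _ fun u w huw => c_inj hB huw]

end Cfsg.Agent.H775.EPS
end

-- part: H775/EPS/SuzFive
section
/-!
# S3499: the Suzuki group has no commuting perfect subgroups `E`, `τ(E)` (helper775)
-/

set_option autoImplicit false

namespace Cfsg.Agent.H775.EPS

open Subgroup Cfsg.Agent.J2Type.SylowFive Cfsg.Agent.H812 Cfsg.Agent.H812.FiveBasis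
open scoped commutatorElement

theorem G3_iff {G : Type*} [Group G] [Finite G] (h : Cfsg.Spor.IsoSuz G) {x y : G} (hx : G3 x)
    (hsq : IsConj x (x ^ 2)) (hy : G3 y)
    (h2 : ∃ A B : Subgroup G, Nat.card A = 5 ∧ Nat.card B = 5 ∧ (∀ g : G, A.map (MulAut.conj g).toMonoidHom ≠ B) ∧
      ∀ C : Subgroup G, Nat.card C = 5 → ∃ g : G, C.map (MulAut.conj g).toMonoidHom = A ∨
        C.map (MulAut.conj g).toMonoidHom = B) : IsConj x y := by
  classical
  obtain ⟨A, B, -, -, -, hAB⟩ := h2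
  have hz : ∀ g y : G, (zpowers y).map (MulAut.conj g).toMonoidHom = zpowers (g * y * g⁻¹) := by
    intro g y
    rw [MonoidHom.map_zpowers]; rfl
  -- subgroups conjugate to the same group
  have htr : ∀ (u w g k : G) (D : Subgroup G), (zpowers u).map (MulAut.conj g).toMonoidHom = D →
      (zpowers w).map (MulAut.conj k).toMonoidHom = D → zpowers (k⁻¹ * g * u * (k⁻¹ * g)⁻¹) = zpowers w := by
    intro u w g k D h1 h2
    rw [hz] at h1 h2
    have h3 : zpowers (g * u * g⁻¹) = zpowers (k * w * k⁻¹) := h1.trans h2.symm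
    have h4 := congrArg (fun K : Subgroup G => K.map (MulAut.conj k⁻¹).toMonoidHom) h3
    simp only [hz] at h4
    have e1 : k⁻¹ * (g * u * g⁻¹) * k⁻¹⁻¹ = k⁻¹ * g * u * (k⁻¹ * g)⁻¹ := by group
    have e2 : k⁻¹ * (k * w * k⁻¹) * k⁻¹⁻¹ = w := by group
    rw [e1, e2] at h4
    exact h4
  have hcen : ∀ u w g : G, zpowers (g * u * g⁻¹) = zpowers w →
      Nat.card (centralizer ({u} : Set G)) = Nat.card (centralizer ({w} : Set G)) := by
    intro u w g e
    have h1 : centralizer ({g * u * g⁻¹} : Set G) = centralizer ({w} : Set G) := by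
      rw [← centralizer_closure {g * u * g⁻¹}, ← zpowers_eq_closure, e, zpowers_eq_closure, centralizer_closure]
    rw [← h1]
    exact card_cent_equiv (MulAut.conj g) u
  have hc5 : ∀ u : G, orderOf u = 5 → Nat.card (zpowers u) = 5 := fun u hu => by rw [Nat.card_zpowers, hu]
  -- `x` and `y` generate conjugate subgroups
  have hxy : ∃ g : G, zpowers (g * x * g⁻¹) = zpowers y := by
    by_contra hcon
    push Not at hcon
    have hall : ∀ w : G, orderOf w = 5 → Nat.card (centralizer ({w} : Set G)) = 300 := by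
      intro w hw
      obtain ⟨gx, hgx⟩ := hAB _ (hc5 x hx.1)
      obtain ⟨gy, hgy⟩ := hAB _ (hc5 y hy.1)
      obtain ⟨gw, hgw⟩ := hAB _ (hc5 w hw)
      rcases hgx with hgx | hgx <;> rcases hgy with hgy | hgy
      · exact absurd (htr _ _ _ _ _ hgx hgy) (hcon _)
      · rcases hgw with hgw | hgw
        · rw [hcen _ _ _ (htr _ _ _ _ _ hgw hgx), hx.2]
        · rw [hcen _ _ _ (htr _ _ _ _ _ hgw hgy), hy.2]
      · rcases hgw with hgw | hgw
        · rw [hcen _ _ _ (htr _ _ _ _ _ hgw hgy), hy.2]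
        · rw [hcen _ _ _ (htr _ _ _ _ _ hgw hgx), hx.2]
      · exact absurd (htr _ _ _ _ _ hgx hgy) (hcon _)
    obtain ⟨a, b, ha, hb, hab⟩ := Cfsg.Agent.H348.Der.SuzFacts.exists_five h
    exact hab ((hall a ha).trans (hall b hb).symm)
  obtain ⟨g, hg⟩ := hxy
  -- `y` is a power of a conjugate of `x`
  have h1 : y ∈ zpowers (g * x * g⁻¹) := by rw [hg]; exact mem_zpowers y
  obtain ⟨k, hk⟩ := mem_powers_iff_mem_zpowers.2 h1
  change (g * x * g⁻¹) ^ k = y at hk
  have hx5 : x ^ 5 = 1 := by rw [← hx.1, pow_orderOf_eq_one]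
  have hk' : y = g * x ^ (k % 5) * g⁻¹ := by
    rw [← hk, conj_pow, ← pow_mod_orderOf x k, hx.1]
  have h4 : IsConj x (x ^ 4) := by
    have := hsq.pow 2
    rw [← pow_mul] at this
    exact hsq.trans this
  have h3 : IsConj x (x ^ 3) := by
    have h5 := hsq.pow 4
    rw [← pow_mul, show 2 * 4 = 5 + 3 by norm_num, pow_add, hx5, one_mul] at h5
    exact h4.trans h5
  have hlt : k % 5 < 5 := Nat.mod_lt _ (by norm_num)
  have h0 : ∀ j < 5, j ≠ 0 → IsConj x (x ^ j) := by
    intro j hj hj0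
    interval_cases j
    · exact absurd rfl hj0
    · rw [pow_one]
    · exact hsq
    · exact h3
    · exact h4
  have hne : k % 5 ≠ 0 := by
    intro e
    rw [e, pow_zero, mul_one, mul_inv_cancel] at hk'
    have := hy.1
    rw [hk', orderOf_one] at this
    norm_num at this
  rw [hk']
  exact (h0 _ hlt hne).trans (isConj_iff.2 ⟨g, rfl⟩)

/-- every Sylow 5-subgroup has 12 elements with centraliser of order 300 -/
theorem five_count {G : Type*} [Group G] [Finite G] (h : Cfsg.Spor.IsoSuz G) (P : Sylow 5 G) :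
    Nat.card (P : Subgroup G) = 25 ∧ {y | y ∈ (P : Subgroup G) ∧ G3 y}.ncard = 12 := by
  classical
  have h' := h
  obtain ⟨e⟩ := h
  have h5 : Fact (Nat.Prime 5) := ⟨by norm_num⟩
  have hcard : Nat.card G = 448345497600 := by
    rw [Nat.card_congr e.toEquiv]; exact SporadicRecognition.SuzOrder.card_Suz
  have hP25 : Nat.card (P : Subgroup G) = 25 := by
    have := J2Type.SylowSeven.card_sylow P 2 17933819904 (by rw [hcard]; norm_num) (by norm_num)
    rw [this]; norm_num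
  have hG : Nat.card G = 200 * 2241727488 := by rw [hcard]
  have hm : 2241727488 % 5 = 3 := by norm_num
  have hg0 : Good (e.symm SuzLoc.x5) := SuzFive.good_map e.symm SuzFive.good_x5
  obtain ⟨g, hg⟩ := J2Type.SylowFive.exists_conj_mem_sylow P (y := e.symm SuzLoc.x5) (n := 1)
    (by rw [hg0.1]; norm_num)
  have hg1 := hg0.conj g
  have hsq : IsConj (g * e.symm SuzLoc.x5 * g⁻¹) ((g * e.symm SuzLoc.x5 * g⁻¹) ^ 2) := by
    obtain ⟨c, hc⟩ := isConj_iff.1 SuzFive.conj_sq
    have h1 : e.symm c * e.symm SuzLoc.x5 * (e.symm c)⁻¹ = (e.symm SuzLoc.x5) ^ 2 := by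
      rw [← map_inv, ← map_mul, ← map_mul, hc, map_pow]
    refine isConj_iff.2 ⟨g * e.symm c * g⁻¹, ?_⟩
    rw [conj_pow, ← h1]
    group
  refine ⟨hP25, ?_⟩
  have h12 := (FiveKey.card_main hP25 hG hm hg1 hsq hg).2
  rw [Nat.card_coe_set_eq] at h12
  rw [← h12]
  congr 1
  have hG3 : G3 (g * e.symm SuzLoc.x5 * g⁻¹) := ⟨hg1.1, FiveKey.card_centralizer hP25 hg1 hg⟩
  ext y
  constructor
  · rintro ⟨hy, hy3⟩
    exact ⟨hy, G3_iff h' hG3 hsq hy3 (FiveMain.two_classes hP25 hG hm hg1 hsq hg)⟩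
  · rintro ⟨hy, hc⟩
    refine ⟨hy, ?_⟩
    obtain ⟨c, hc⟩ := isConj_iff.1 hc
    rw [← hc]
    exact (G3.conj c _).2 hG3

theorem prime_sq {p : ℕ} (hp : p.Prime) (hp5 : 5 ≤ p) (hd : p ^ 2 ∣ 448345497600) : p = 5 := by
  by_contra hne
  have h2 : Nat.Coprime (p ^ 2) (2 ^ 13) := Nat.Coprime.pow _ _ ((Nat.coprime_primes hp Nat.prime_two).2 (by omega))
  have h3 : Nat.Coprime (p ^ 2) (3 ^ 7) := Nat.Coprime.pow _ _ ((Nat.coprime_primes hp Nat.prime_three).2 (by omega))
  have h5 : Nat.Coprime (p ^ 2) (5 ^ 2) := Nat.Coprime.pow _ _ ((Nat.coprime_primes hp (by norm_num)).2 hne)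
  rw [show 448345497600 = 2 ^ 13 * (3 ^ 7 * (5 ^ 2 * 1001)) by norm_num] at hd
  have h6 := h5.dvd_of_dvd_mul_left (h3.dvd_of_dvd_mul_left (h2.dvd_of_dvd_mul_left hd))
  have h7 := Nat.le_of_dvd (by norm_num) h6
  have h8 : p < 32 := by
    by_contra hlt
    push Not at hlt
    nlinarith only [h7, hlt]
  interval_cases p <;> revert h6 <;> norm_num

/-- **no commuting pairs of perfect subgroups** -/
theorem no_E {B : Type*} [Group B] [Finite B] (h : Cfsg.Spor.IsoSuz B) {E : Subgroup B} (hne : E ≠ ⊥)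
    (hper : ⁅E, E⁆ = E) (τ : MulAut B) (hdis : E ⊓ E.map τ.toMonoidHom = ⊥)
    (hc : ∀ a ∈ E, ∀ b ∈ E, a * τ b = τ b * a) : False := by
  classical
  have hnt : Nontrivial E := (Subgroup.nontrivial_iff_ne_bot E).2 hne
  have hperE : commutator E = ⊤ := by
    have h1 := Subgroup.map_subtype_commutator E
    rw [hper] at h1
    apply Subgroup.map_injective E.subtype_injective
    rw [h1, ← MonoidHom.range_eq_map, E.range_subtype]
  have hns : ¬ Group.IsSolvable E := by
    intro hsol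
    have h1 : commutator E < ⊤ := Group.IsSolvable.commutator_lt_top_of_nontrivial E
    exact h1.ne hperE
  obtain ⟨p, hp, hp5, hpE⟩ := Cfsg.Agent.H59.EP.exists_prime_ge_five hns
  have hcard : Nat.card B = 448345497600 := by
    obtain ⟨e⟩ := h
    rw [Nat.card_congr e.toEquiv]; exact SporadicRecognition.SuzOrder.card_Suz
  -- `|E|^2` divides `|B|`
  have hsq : Nat.card E * Nat.card E ∣ Nat.card B := by
    have hcm : ∀ (a : E) (b : E.map τ.toMonoidHom), Commute (E.subtype a) ((E.map τ.toMonoidHom).subtype b) := by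
      rintro ⟨a, ha⟩ ⟨_, b, hb, rfl⟩
      exact hc a ha b hb
    have hinj : Function.Injective (MonoidHom.noncommCoprod E.subtype (E.map τ.toMonoidHom).subtype hcm) := by
      rw [MonoidHom.noncommCoprod_injective]
      refine ⟨subtype_injective _, subtype_injective _, ?_⟩
      rw [Subgroup.range_subtype, Subgroup.range_subtype, disjoint_iff]
      exact hdis
    have h1 := Subgroup.card_subgroup_dvd_card (MonoidHom.noncommCoprod E.subtype (E.map τ.toMonoidHom).subtype hcm).range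
    rwa [← Nat.card_congr (MonoidHom.ofInjective hinj).toEquiv, Nat.card_prod,
      Subgroup.card_map_of_injective τ.injective] at h1
  rw [hcard] at hsq
  have hp : p = 5 := prime_sq hp hp5 (by
    rw [pow_two]
    exact (Nat.mul_dvd_mul hpE hpE).trans hsq)
  subst hp
  have h25 : ¬ 25 ∣ Nat.card E := by
    intro h25
    have := (Nat.mul_dvd_mul h25 h25).trans hsq
    norm_num at this
  obtain ⟨v, a, hv, hav⟩ := exists_inv hperE hpE h25
  have hv' : orderOf (v : B) = 5 := by rw [Subgroup.orderOf_coe, hv]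
  refine no_pair (five_count h) (v := (v : B)) (w := τ v) (a := (a : B)) hv' (by rw [MulEquiv.orderOf_eq, hv'])
    (hc v v.2 v v.2) ?_ (card_cent_equiv τ _) ?_ (hc a a.2 v v.2)
  · intro hmem
    have h1 : zpowers (v : B) ≤ E := by rw [zpowers_le]; exact v.2
    have h2 : τ (v : B) ∈ E ⊓ E.map τ.toMonoidHom := ⟨h1 hmem, ⟨v, v.2, rfl⟩⟩
    rw [hdis, mem_bot] at h2
    have h3 : (v : B) = 1 := by
      apply τ.injective
      rw [h2, map_one]
    rw [h3, orderOf_one] at hv'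
    norm_num at hv'
  · have h1 := congrArg (Subtype.val) hav
    exact h1

end Cfsg.Agent.H775.EPS
end

-- part: H775/EPS/SimpleCount
section
/-!
# S3499: the number of simple subgroups, with restricted generating pairs (helper775)
-/

set_option autoImplicit false

namespace Cfsg.Agent.H775.EPS

open Subgroup Cfsg.Agent.H59.EP

universe u

variable {B : Type u} [Group B]

/-- `T` a set of pairs invariant under conjugation, `𝒮` a set of nonabelian simple subgroups of order `≥ m` generated by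
pairs in `T`: `|𝒮| m ≤ |T|` -/
theorem ncard_simple_mul_le [Finite B] {𝒮 : Set (Subgroup B)} {m : ℕ}
    (hs : ∀ X ∈ 𝒮, IsSimpleGroup X ∧ ¬ Group.IsSolvable X) (hm : ∀ X ∈ 𝒮, m ≤ Nat.card X) (T : Set (B × B))
    (hT : ∀ g : B, ∀ p ∈ T, (g * p.1 * g⁻¹, g * p.2 * g⁻¹) ∈ T)
    (hgen : ∀ X ∈ 𝒮, ∃ a b : X, ((a : B), (b : B)) ∈ T ∧ _root_.Subgroup.closure ({a, b} : Set X) = ⊤) :
    𝒮.ncard * m ≤ T.ncard := by
  classical
  have hfin : 𝒮.Finite := Set.toFinite _
  let G : Subgroup B → Set (B × B) := fun X => {p | p ∈ T ∧ _root_.Subgroup.closure ({p.1, p.2} : Set B) = X}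
  have hG : ∀ X ∈ 𝒮, m ≤ (G X).ncard := by
    intro X hX
    obtain ⟨hXs, hXn⟩ := hs X hX
    obtain ⟨a, b, habT, hab⟩ := hgen X hX
    refine (hm X hX).trans ?_
    have hcl : _root_.Subgroup.closure ({(a : B), (b : B)} : Set B) = X := by
      have h1 := congrArg (Subgroup.map X.subtype) hab
      rw [MonoidHom.map_closure, Set.image_pair, ← MonoidHom.range_eq_map, X.range_subtype] at h1
      exact h1
    have hinj : Set.InjOn (fun g : B => (g * a * g⁻¹, g * b * g⁻¹)) (X : Set B) := by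
      intro g hg k hk e
      simp only [Prod.mk.injEq] at e
      have h1 : ∀ x ∈ X, (k⁻¹ * g) * x = x * (k⁻¹ * g) := by
        have hle : X ≤ centralizer {k⁻¹ * g} := by
          rw [← hcl, closure_le]
          rintro x (rfl | rfl)
          · rw [SetLike.mem_coe, mem_centralizer_singleton_iff]
            have h2 := e.1
            rw [mul_inv_eq_iff_eq_mul] at h2
            have h3 : k⁻¹ * (g * a) = a * k⁻¹ * g := by rw [h2]; group
            rw [mul_assoc k⁻¹ g, h3, mul_assoc]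
          · rw [SetLike.mem_coe, mem_centralizer_singleton_iff]
            have h2 := e.2
            rw [mul_inv_eq_iff_eq_mul] at h2
            have h3 : k⁻¹ * (g * b) = b * k⁻¹ * g := by rw [h2]; group
            rw [mul_assoc k⁻¹ g, h3, mul_assoc]
        intro x hx
        exact (mem_centralizer_singleton_iff.1 (hle hx)).symm
      have hz : (⟨k⁻¹ * g, mul_mem (inv_mem hk) hg⟩ : X) ∈ center X := by
        rw [mem_center_iff]
        intro x
        exact Subtype.ext (h1 x x.2).symm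
      have hzb : center X = ⊥ := by
        rcases hXs.eq_bot_or_eq_top_of_normal (center X) inferInstance with h2 | h2
        · exact h2
        · exfalso
          apply hXn
          apply Group.isSolvable_of_comm
          intro x y
          have : y ∈ center X := by rw [h2]; exact mem_top _
          exact mem_center_iff.1 this x
      rw [hzb, mem_bot] at hz
      have h2 : k⁻¹ * g = 1 := Subtype.ext_iff.1 hz
      rw [inv_mul_eq_one] at h2
      exact h2.symm
    have hcard : Nat.card X = ((fun g : B => (g * (a : B) * g⁻¹, g * (b : B) * g⁻¹)) '' (X : Set B)).ncard := by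
      rw [hinj.ncard_image]
      rfl
    rw [hcard]
    refine Set.ncard_le_ncard ?_ (Set.toFinite _)
    rintro _ ⟨g, hg, rfl⟩
    refine ⟨hT g _ habT, ?_⟩
    show _root_.Subgroup.closure ({g * (a : B) * g⁻¹, g * (b : B) * g⁻¹} : Set B) = X
    have h1 : ({g * (a : B) * g⁻¹, g * (b : B) * g⁻¹} : Set B) = (MulAut.conj g).toMonoidHom '' {(a : B), (b : B)} := by
      rw [Set.image_pair]
      rfl
    rw [h1, ← MonoidHom.map_closure, hcl]
    ext y
    constructor
    · rintro ⟨x, hx, rfl⟩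
      exact X.mul_mem (X.mul_mem hg hx) (X.inv_mem hg)
    · intro hy
      refine ⟨g⁻¹ * y * g, X.mul_mem (X.mul_mem (X.inv_mem hg) hy) hg, ?_⟩
      show g * (g⁻¹ * y * g) * g⁻¹ = y
      group
  have hdis : (hfin.toFinset : Set (Subgroup B)).PairwiseDisjoint fun X => (Set.toFinite (G X)).toFinset := by
    intro X _ Y _ hne
    rw [Function.onFun, Finset.disjoint_left]
    intro p hp hq
    rw [Set.Finite.mem_toFinset] at hp hq
    exact hne (hp.2.symm.trans hq.2)
  have h1 : (hfin.toFinset.biUnion fun X => (Set.toFinite (G X)).toFinset).card ≤ T.ncard := by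
    rw [Set.ncard_eq_toFinset_card T (Set.toFinite _)]
    apply Finset.card_le_card
    intro p hp
    rw [Finset.mem_biUnion] at hp
    obtain ⟨X, -, hp⟩ := hp
    rw [Set.Finite.mem_toFinset] at hp ⊢
    exact hp.1
  rw [Finset.card_biUnion hdis] at h1
  refine le_trans ?_ h1
  rw [Set.ncard_eq_toFinset_card _ hfin, ← smul_eq_mul]
  apply Finset.card_nsmul_le_sum
  intro X hX
  rw [← Set.ncard_eq_toFinset_card _ (Set.toFinite _)]
  exact hG X (hfin.mem_toFinset.1 hX)

/-- finite simple nonabelian groups of order dividing `n` and less than `m` are generated by an involution and another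
element (a consequence of `S3938`) -/
def InvGen (n m : ℕ) : Prop := ∀ (X : Type u) [Group X] [Finite X], IsSimpleGroup X → ¬ Group.IsSolvable X →
  Nat.card X ∣ n → Nat.card X < m → ∃ z y : X, orderOf z = 2 ∧ _root_.Subgroup.closure ({z, y} : Set X) = ⊤

/-- the simple subgroups -/
theorem ncard_simple_le_inv [Finite B] {m : ℕ} (hm : 0 < m) (hI : InvGen.{u} (Nat.card B) m)
    (hg : ∀ (X : Type u) [Group X] [Finite X] [IsSimpleGroup X], ∃ x y : X, Subgroup.closure ({x, y} : Set X) = ⊤)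
    {𝒮 : Set (Subgroup B)} (hs : ∀ X ∈ 𝒮, IsSimpleGroup X ∧ ¬ Group.IsSolvable X) :
    𝒮.ncard ≤ {z : B | orderOf z = 2}.ncard * Nat.card B / 60 + Nat.card B ^ 2 / m := by
  classical
  have hun : 𝒮 ⊆ {X ∈ 𝒮 | Nat.card X < m} ∪ {X ∈ 𝒮 | m ≤ Nat.card X} := by
    intro X hX
    rcases Nat.lt_or_ge (Nat.card X) m with h | h
    · exact Or.inl ⟨hX, h⟩
    · exact Or.inr ⟨hX, h⟩
  refine (Set.ncard_le_ncard hun (Set.toFinite _)).trans ((Set.ncard_union_le _ _).trans (Nat.add_le_add ?_ ?_))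
  · rw [Nat.le_div_iff_mul_le (by norm_num)]
    have h1 := ncard_simple_mul_le (𝒮 := {X ∈ 𝒮 | Nat.card X < m}) (m := 60) (fun X hX => hs X hX.1)
      (fun X hX => Cfsg.Agent.H168.NoSolv.sixty_le (hs X hX.1).2) ({z : B | orderOf z = 2} ×ˢ (Set.univ : Set B)) (by
        rintro g ⟨a, b⟩ ⟨ha, -⟩
        refine ⟨?_, Set.mem_univ _⟩
        show orderOf (g * a * g⁻¹) = 2
        rw [show g * a * g⁻¹ = MulAut.conj g a from rfl, MulEquiv.orderOf_eq]
        exact ha) (by
        intro X hX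
        obtain ⟨z, y, hz, hzy⟩ := hI X (hs X hX.1).1 (hs X hX.1).2 (Subgroup.card_subgroup_dvd_card X) hX.2
        refine ⟨z, y, ⟨?_, Set.mem_univ _⟩, hzy⟩
        show orderOf (z : B) = 2
        rw [Subgroup.orderOf_coe, hz])
    rwa [Set.ncard_prod, Set.ncard_univ] at h1
  · rw [Nat.le_div_iff_mul_le hm]
    have h1 := ncard_simple_mul_le (𝒮 := {X ∈ 𝒮 | m ≤ Nat.card X}) (m := m) (fun X hX => hs X hX.1)
      (fun X hX => hX.2) (Set.univ : Set (B × B)) (fun _ _ _ => Set.mem_univ _) (by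
        intro X hX
        have := (hs X hX.1).1
        obtain ⟨x, y, hxy⟩ := hg X
        exact ⟨x, y, Set.mem_univ _, hxy⟩)
    rwa [Set.ncard_univ, Nat.card_prod, ← pow_two] at h1

end Cfsg.Agent.H775.EPS
end

-- part: H775/EPS/SuzMain
section
/-!
# S3499: `A` with socle `Suz` has index at most `2 ^ 82` (helper775)
-/

set_option autoImplicit false

namespace Cfsg.Agent.H775.EPS

open Subgroup Cfsg.Agent.H284 Cfsg.Agent.H173.EP Cfsg.Agent.H59.EP Cfsg.Agent.H419.EP
open Cfsg.Spor (Suz IsoSuz)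

universe u

theorem fac_eq {n p a m : ℕ} (hp : p.Prime) (h : n = p ^ a * m) (hm : ¬ p ∣ m) : n.factorization p = a := by
  have hm0 : m ≠ 0 := by
    rintro rfl
    exact hm (dvd_zero _)
  rw [h, Nat.factorization_mul (pow_ne_zero _ hp.ne_zero) hm0, Finsupp.add_apply, hp.factorization_pow,
    Finsupp.single_eq_same, Nat.factorization_eq_zero_of_not_dvd hm, add_zero]

theorem primes_suz {s : ℕ} (hs : s.Prime) (hd : s ∣ 448345497600) : s = 2 ∨ s = 3 ∨ s ∈ ({5, 7, 11, 13} : Finset ℕ) := by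
  rw [show 448345497600 = 2 ^ 13 * 3 ^ 7 * 5 ^ 2 * 7 * 11 * 13 by norm_num] at hd
  simp only [hs.dvd_mul] at hd
  rcases hd with ((((h | h) | h) | h) | h) | h
  · exact Or.inl ((Nat.prime_dvd_prime_iff_eq hs (by norm_num)).1 (hs.dvd_of_dvd_pow h))
  · exact Or.inr (Or.inl ((Nat.prime_dvd_prime_iff_eq hs (by norm_num)).1 (hs.dvd_of_dvd_pow h)))
  · have := (Nat.prime_dvd_prime_iff_eq hs (by norm_num)).1 (hs.dvd_of_dvd_pow h)
    subst this
    right; right; decide
  · have := (Nat.prime_dvd_prime_iff_eq hs (by norm_num)).1 h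
    subst this
    right; right; decide
  · have := (Nat.prime_dvd_prime_iff_eq hs (by norm_num)).1 h
    subst this
    right; right; decide
  · have := (Nat.prime_dvd_prime_iff_eq hs (by norm_num)).1 h
    subst this
    right; right; decide

/-- elementary abelian `p`-subgroups, crude bound -/
theorem ncard_SE_le {B : Type*} [Group B] [Finite B] {p v : ℕ} (hp : p.Prime) (hv : (Nat.card B).factorization p = v) :
    (SE B p).ncard ≤ gal p v * (Nat.card B / p) := by
  have h1 := ncard_elab_class_le (B := B) hp (c := Nat.card B / p)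
  rw [hv] at h1
  refine le_trans (Set.ncard_le_ncard ?_ (Set.toFinite _)) h1
  rintro X ⟨hX, hne⟩
  refine ⟨hX, hne, ?_⟩
  rw [Nat.le_div_iff_mul_le hp.pos, mul_comm]
  have h2 := (normalizer (X : Set B)).card_mul_index
  rw [← h2]
  apply Nat.mul_le_mul_right
  obtain ⟨y, hy1⟩ := Subgroup.ne_bot_iff_exists_ne_one.1 hne
  have : Fact p.Prime := ⟨hp⟩
  have hy : orderOf (y : B) = p := orderOf_eq_prime (hX.exp _ y.2) fun e => hy1 (Subtype.ext e)
  have h3 : zpowers (y : B) ≤ normalizer (X : Set B) := by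
    rw [zpowers_le]
    exact le_normalizer y.2
  have h4 := Nat.le_of_dvd Nat.card_pos (Subgroup.card_dvd_of_le h3)
  rwa [Nat.card_zpowers, hy] at h4

/-- the total number of two-point stabilisers -/
def R0 : ℕ := (2915055 + flag 2 13 (2 * 448345497600)) + (448345497600 + flag 3 7 (3 * 448345497600)) +
  (gal 5 2 * (448345497600 / 5) + gal 7 1 * (448345497600 / 7) + gal 11 1 * (448345497600 / 11) +
    gal 13 1 * (448345497600 / 13)) + (2915055 * 448345497600 / 60 + 448345497600 ^ 2 / 250000)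

def R1 : ℕ := (448345497600 + flag 3 7 (3 * 448345497600)) +
  (gal 5 2 * (448345497600 / 5) + gal 7 1 * (448345497600 / 7) + gal 11 1 * (448345497600 / 11) +
    gal 13 1 * (448345497600 / 13))

theorem num : 1 + 2915055 * R0 + R1 * (2 * (896690995200 / 6)) ≤ 2 ^ 82 := by decide +kernel

/-- **The index**, with hypotheses on simple groups -/
theorem index_le_core {Q : Type u} [Group Q] [Finite Q] (hs : IsSimpleGroup Q) {A : Subgroup Q}
    {Γ : Subgroup (MulAut Q)} (h : EPT A Γ) {L : Type*} [Group L] (hL : IsoSuz L) (hsoc : HasSoc A L)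
    (hI : InvGen.{u} 448345497600 250000) (hg : TwoGen.{u})
    (hev : ∀ (X : Type u) [Group X] [Finite X], IsSimpleGroup X → ¬ Group.IsSolvable X → 2 ∣ Nat.card X) :
    A.index ≤ 2 ^ 82 := by
  classical
  have hLfin := finite_suz_iso hL
  have hAL : Nat.card A ≤ 896690995200 :=
    hsoc.card_le.trans (Nat.le_of_dvd (by norm_num) (aut_suz hL))
  obtain ⟨N, hNA, hN, hC, ⟨e⟩⟩ := hsoc
  have hSN : IsoSuz N := by
    obtain ⟨e'⟩ := hL
    exact ⟨e.trans e'⟩
  have hcN : Nat.card N = 448345497600 := card_suz_iso hSN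
  have hNs : IsSimpleGroup N := by
    obtain ⟨e'⟩ := hSN
    have h1 : IsSimpleGroup Suz := Cfsg.Agent.S1694.result.1
    exact e'.isSimpleGroup
  have hNc : ¬ ∀ a ∈ N, ∀ b ∈ N, a * b = b * a := by
    intro hcomm
    obtain ⟨a, b, ha, -, -⟩ := reps_two' hSN
    have h1 : centralizer ({a} : Set N) = ⊤ := by
      rw [Subgroup.eq_top_iff']
      intro x
      rw [mem_centralizer_singleton_iff]
      exact Subtype.ext (hcomm x x.2 a a.2)
    rw [h1, Subgroup.card_top, hcN] at ha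
    norm_num at ha
  have hab := noAb_of_soc hNA hN hNs hNc hC
  have h6 : ∀ x, x ∉ A → 6 ≤ Nat.card (A ⊓ cj x A : Subgroup Q) := fun x hx => EPT.six_le h hab hx
  have hcard : Nat.card A ≤ 2 * Nat.card N := by
    rw [hcN]
    exact hAL
  obtain ⟨hr, hr'⟩ := counts h hNA hN hNs hC hcard h6
    (fun E τ h1 h2 h3 h4 => no_E hSN h1 h2 τ h3 h4)
    (fun K hK => hev K hK.1 hK.2) {5, 7, 11, 13} (by
      intro s hs hd
      rw [hcN] at hd
      exact primes_suz hs hd)
  -- the numbers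
  have hi2 : {z : N | orderOf z = 2}.ncard ≤ 2915055 := ncard_inv_le hSN
  have hS2 : (SE N 2).ncard ≤ 2915055 + flag 2 13 (2 * 448345497600) :=
    (ncard_elab_le_flag Nat.prime_two (fact2 hSN) (sum_two hSN)).trans (Nat.add_le_add_right hi2 _)
  have hS3 : (SE N 3).ncard ≤ 448345497600 + flag 3 7 (3 * 448345497600) := by
    refine (ncard_elab_le_flag Nat.prime_three (fact3 hSN) (sum_three hSN)).trans (Nat.add_le_add_right ?_ _)
    refine (Set.ncard_le_ncard (Set.subset_univ _) (Set.toFinite _)).trans ?_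
    rw [Set.ncard_univ, hcN]
  have hP : ∑ p ∈ ({5, 7, 11, 13} : Finset ℕ), (SE N p).ncard ≤
      gal 5 2 * (448345497600 / 5) + gal 7 1 * (448345497600 / 7) + gal 11 1 * (448345497600 / 11) +
        gal 13 1 * (448345497600 / 13) := by
    have h5 := ncard_SE_le (B := N) (p := 5) (v := 2) (by norm_num)
      (by rw [hcN]; exact fac_eq (m := 17933819904) (by norm_num) (by norm_num) (by norm_num))
    have h7 := ncard_SE_le (B := N) (p := 7) (v := 1) (by norm_num)
      (by rw [hcN]; exact fac_eq (m := 64049356800) (by norm_num) (by norm_num) (by norm_num))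
    have h11 := ncard_SE_le (B := N) (p := 11) (v := 1) (by norm_num)
      (by rw [hcN]; exact fac_eq (m := 40758681600) (by norm_num) (by norm_num) (by norm_num))
    have h13 := ncard_SE_le (B := N) (p := 13) (v := 1) (by norm_num)
      (by rw [hcN]; exact fac_eq (m := 34488115200) (by norm_num) (by norm_num) (by norm_num))
    rw [hcN] at h5 h7 h11 h13
    rw [Finset.sum_insert (by decide), Finset.sum_insert (by decide), Finset.sum_insert (by decide),
      Finset.sum_singleton]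
    omega
  have hSS : (SS N).ncard ≤ 2915055 * 448345497600 / 60 + 448345497600 ^ 2 / 250000 := by
    have h1 := ncard_simple_le_inv (B := N) (m := 250000) (by norm_num) (by rw [hcN]; exact hI)
      (fun X _ _ _ => hg X) (𝒮 := SS N) (fun X hX => hX)
    rw [hcN] at h1
    refine h1.trans (Nat.add_le_add_right (Nat.div_le_div_right (Nat.mul_le_mul_right _ hi2)) _)
  have hR0 : {M : Subgroup Q | ∃ x, x ∉ A ∧ M = A ⊓ cj x A}.ncard ≤ R0 :=
    hr.trans (Nat.add_le_add (Nat.add_le_add (Nat.add_le_add hS2 hS3) hP) hSS)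
  have hR1 : {M : Subgroup Q | (∃ x, x ∉ A ∧ M = A ⊓ cj x A) ∧ ∀ t ∈ {t : Q | t ∈ N ∧ orderOf t = 2}, t ∉ M}.ncard ≤
      R1 := hr'.trans (Nat.add_le_add hS3 hP)
  have hIn : {t : Q | t ∈ N ∧ orderOf t = 2}.ncard ≤ 2915055 := by
    have e1 : {t : Q | t ∈ N ∧ orderOf t = 2} = Subtype.val '' {z : N | orderOf z = 2} := by
      ext t
      constructor
      · rintro ⟨h1, h2⟩
        exact ⟨⟨t, h1⟩, by rw [Set.mem_ofPred_eq, Subgroup.orderOf_mk, h2], rfl⟩
      · rintro ⟨z, hz, rfl⟩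
        exact ⟨z.2, by rw [Subgroup.orderOf_coe]; exact hz⟩
    rw [e1, Set.ncard_image_of_injective _ Subtype.val_injective]
    exact hi2
  have hfin := index_le_hit hs h (μ := 6) (by norm_num) h6 {t : Q | t ∈ N ∧ orderOf t = 2} (by
    rintro t ⟨-, ht⟩ rfl
    rw [orderOf_one] at ht
    norm_num at ht)
  refine hfin.trans (le_trans ?_ num)
  refine Nat.add_le_add (Nat.add_le_add_left (Nat.mul_le_mul hIn hR0) 1) (Nat.mul_le_mul hR1 ?_)
  exact Nat.mul_le_mul_left 2 (Nat.div_le_div_right hAL)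

end Cfsg.Agent.H775.EPS
end
end

-- part: H419/EP/Filt
section
set_option linter.all false
open scoped Cfsg.Agent.FastGrp

/-!
# S3499: the root group datum of the simple groups with a `Model` (helper419)
-/

set_option autoImplicit false

namespace Cfsg.Agent.H419.EP

open Cfsg Cfsg.Agent.H568.EP Cfsg.Agent.KFacts.RgdFilt Cfsg.Agent.KFacts.RgdFiltClass Cfsg.Agent.LieClassical.OrthCore
open scoped MatrixGroups

section
variable {Q : Type} [Group Q] {F : Type} [Field F] [Fintype F]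

theorem hasFilt_lin {n : ℕ} (hn : 2 ≤ n) (m : Model Q (Cfsg.Geo.specialLinear (Fin n) F)) :
    HasFilt (ringChar F) Q := by
  haveI : Fact (ringChar F).Prime := ⟨CharP.char_is_prime F _⟩
  obtain ⟨m'⟩ := H117.EP.model_PSL (F := F) hn
  obtain ⟨e⟩ := equiv_of_models m m'
  obtain ⟨k, rfl⟩ : ∃ k, n = k + 1 := ⟨n - 1, by omega⟩
  haveI : Finite (Matrix.ProjectiveSpecialLinearGroup (Fin (k + 1)) F) := Quotient.finite _
  exact (hasFilt_PSL (F := F) (p := ringChar F) k).of_equiv e.symm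

theorem hasFilt_sp {k : ℕ} (hk : 1 ≤ k) (m : Model Q (Cfsg.spGL k F)) : HasFilt (ringChar F) Q := by
  haveI : Fact (ringChar F).Prime := ⟨CharP.char_is_prime F _⟩
  obtain ⟨e⟩ := equiv_of_models m (H729.EPM.modelPSp k F)
  haveI : Finite (PSp k F) := Quotient.finite _
  exact (hasFilt_PSp (F := F) (p := ringChar F) hk).of_equiv e.symm

theorem hasFilt_uni {n q : ℕ} (hF : Fintype.card F = q ^ 2) (hn : 3 ≤ n)
    (m : Model Q (Cfsg.GU n F q ⊓ Cfsg.Geo.specialLinear (Fin n) F)) : HasFilt (ringChar F) Q := by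
  haveI : Fact (ringChar F).Prime := ⟨CharP.char_is_prime F _⟩
  obtain ⟨m'⟩ := H117.EP.model_PSU (F := F) hF hn
  obtain ⟨e⟩ := equiv_of_models m m'
  haveI : Finite (PSU n F q) := Quotient.finite _
  exact (hasFilt_PSU (F := F) (p := ringChar F) hF hn).of_equiv e.symm

theorem hasFilt_orth {ι : Type} [Fintype ι] [DecidableEq ι] {Qf : (ι → F) → F}
    (hQ : Cfsg.Geo.IsNondegenerateQuadraticForm Qf) (hn : 7 ≤ Fintype.card ι) (m : Model Q (Cfsg.Geo.omegaGL Qf)) :
    HasFilt (ringChar F) Q := by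
  haveI : Fact (ringChar F).Prime := ⟨CharP.char_is_prime F _⟩
  obtain ⟨m'⟩ := H775.EP.model_omega hQ (by omega)
  obtain ⟨e⟩ := equiv_of_models m m'
  obtain ⟨Q', hQ', hnd⟩ := H883.Bridge.exists_quadraticForm hQ
  subst hQ'
  rcases GenOrth.normal_form (Fintype.card ι) hnd (by rw [Module.finrank_fintype_fun_eq_card]) with ⟨k, hk, hs⟩ | ⟨k, hk, hs⟩ |
    ⟨k, hk, a, b, hab, hs⟩
  · have h2 := two_ne_of_sim hnd hs
    obtain ⟨c, hc, j, hj⟩ := hs
    obtain ⟨f⟩ := H173.OI.pomega_similar (Q := Cfsg.quadFormOdd k F) (Q' := ⇑Q') hc j hj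
    haveI : Finite (Cfsg.POmega F (Cfsg.quadFormOdd k F)) := Quotient.finite _
    exact (hasFilt_PO_odd (F := F) (p := ringChar F) h2 (by omega)).of_equiv (e.trans f.symm).symm
  · obtain ⟨c, hc, j, hj⟩ := hs
    obtain ⟨f⟩ := H173.OI.pomega_similar (Q := Cfsg.quadFormPlus k F) (Q' := ⇑Q') hc j hj
    obtain ⟨n, rfl⟩ : ∃ n, k = n + 3 := ⟨k - 3, by omega⟩
    haveI : Finite (Cfsg.POmega F (Cfsg.quadFormPlus (n + 3) F)) := Quotient.finite _
    exact (hasFilt_PO_plus (F := F) (p := ringChar F) n).of_equiv (e.trans f.symm).symm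
  · obtain ⟨c, hc, j, hj⟩ := hs
    obtain ⟨f⟩ := H173.OI.pomega_similar (Q := Cfsg.quadFormMinus k F a b) (Q' := ⇑Q') hc j hj
    haveI : Finite (Cfsg.POmega F (Cfsg.quadFormMinus k F a b)) := Quotient.finite _
    exact (hasFilt_PO_minus (F := F) (p := ringChar F) a b hab (by omega)).of_equiv (e.trans f.symm).symm

end

end Cfsg.Agent.H419.EP
end

-- part: H284/EPO/Fam
section
prune_inst 0x10000000000000
set_option linter.all false
open scoped Cfsg.Agent.FastGrp

/-!
# Own characteristic, rank at least two, `q > 2`: the table of families (helper284, for S3499)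

* `BigL p L` : `L` has a filtered root group datum of characteristic `p`, rank `≥ 2`, all simple root groups of order `≥ 3`;
* `bigL_PSL`, ... : all families;
* `BigL.kill` : `EPT A Γ`, `HasSoc A L`, `HasFilt p Q` is impossible (`own_filtC` of helper470 and helper737);
* `own_PSL`, ..., `own_exc` : the situation `Big`; `ownPSL_of`, ... : what remains of the targets `OwnPSL`, ....
-/

set_option autoImplicit false
set_option linter.unusedSectionVars false

namespace Cfsg.Agent.H284.Own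

open CoxeterSystem Cfsg.Agent.ChevalleyStructure.CoxeterGeom Cfsg.Agent.Tits.Roots Cfsg.Agent.Tits.Core
  Cfsg.Agent.Nodes.BNOf Cfsg.Agent.KFacts.RgdFilt Cfsg.Agent.H419.EP Cfsg.Agent.H284.Pan Cfsg.Agent.H470.EPO
open scoped MatrixGroups

/-- `L` has a filtered root group datum of characteristic `p`, rank `≥ 2`, all simple root groups of order `≥ 3` -/
def BigL (p : ℕ) (L : Type*) [Group L] : Prop :=
  ∃ (l : ℕ) (M : CoxeterMatrix (Fin l)), 2 ≤ l ∧ FiltC p 3 M L

theorem BigL.of_equiv {p : ℕ} {L L' : Type*} [Group L] [Group L'] [Finite L] (e : L ≃* L') (h : BigL p L) : BigL p L' := by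
  obtain ⟨l, M, hl, hF⟩ := h
  exact ⟨l, M, hl, hF.of_equiv e⟩

/-- a simple group with such a datum is not commutative -/
theorem BigL.nab {p : ℕ} {L : Type*} [Group L] [IsSimpleGroup L] (h : BigL p L) : ∃ a b : L, a * b ≠ b * a := by
  obtain ⟨l, M, hl, A, hC, T, n, X, R, F, -, hX, -, hc⟩ := h
  by_contra hcon
  push Not at hcon
  have i : Fin l := ⟨0, by omega⟩
  have hn : (X (sr i)).Normal := ⟨fun x hx g => by
    have : g * x * g⁻¹ = x := by rw [hcon g x, mul_inv_cancel_right]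
    rwa [this]⟩
  rcases hn.eq_bot_or_eq_top with h1 | h1
  · have h2 := hc i
    rw [h1, Subgroup.card_bot] at h2
    omega
  · apply R.notp i
    have h2 : X (sr i) ⊔ X (-sr i) = X (sr i) := by rw [h1, top_sup_eq]
    rw [h2]
    exact R.pgrp i

/-- **Own characteristic.** -/
theorem BigL.kill {p : ℕ} [Fact p.Prime] {L : Type} [Group L] [Finite L] [IsSimpleGroup L] (hb : BigL p L) {Q : Type*}
    [Group Q] [Finite Q] [IsSimpleGroup Q] (hQ : HasFilt p Q) {A : Subgroup Q} {Γ : Subgroup (MulAut Q)}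
    (h : H284.EPT A Γ) (hs : HasSoc A L) : False := by
  have hn := hb.nab
  obtain ⟨l, M, hl, hF⟩ := hb
  exact own_filtC hl hQ h hn hs hF

/-! ### the families -/

section Families

variable {p : ℕ} [Fact p.Prime]

theorem bigL_PSL (K : Type*) [Field K] [Fintype K] [CharP K p] {d : ℕ} (hd : 3 ≤ d) (hK : 3 ≤ Fintype.card K) :
    BigL p (Matrix.ProjectiveSpecialLinearGroup (Fin d) K) := by
  obtain ⟨n, rfl⟩ : ∃ n, d = n + 1 := ⟨d - 1, by omega⟩
  exact ⟨n, _, by omega, (filtC_PSL n).mono (by rwa [Nat.card_eq_fintype_card])⟩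

theorem bigL_PSp (K : Type*) [Field K] [Fintype K] [CharP K p] {d : ℕ} (hd : 2 ≤ d) (hK : 3 ≤ Fintype.card K) :
    BigL p (Cfsg.PSp d K) :=
  ⟨d, _, hd, (filtC_PSp (by omega)).mono (by rwa [Nat.card_eq_fintype_card])⟩

theorem bigL_PSU (K : Type*) [Field K] [Fintype K] [CharP K p] {d q : ℕ} (hF : Fintype.card K = q ^ 2) (hd : 4 ≤ d)
    (hq : 3 ≤ q) : BigL p (Cfsg.PSU d K q) := by
  obtain ⟨m, hm, hdm, h⟩ := filtC_PSU (p := p) hF (N := d) (by omega)
  exact ⟨m, _, by omega, h.mono hq⟩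

/-- odd dimension: all root groups have order `q ^ 2` or `q ^ 3`, so `q = 2` is allowed -/
theorem bigL_PSU_odd (K : Type*) [Field K] [Fintype K] [CharP K p] {d q : ℕ} (hF : Fintype.card K = q ^ 2) (hd : 5 ≤ d)
    (ho : Odd d) : BigL p (Cfsg.PSU d K q) := by
  have hq : 2 ≤ q := by
    have h1 : 2 ≤ Fintype.card K := Fintype.one_lt_card
    by_contra h5
    have h7 : q ^ 2 ≤ 1 := by
      calc q ^ 2 ≤ 1 ^ 2 := Nat.pow_le_pow_left (by omega) 2
        _ = 1 := by norm_num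
    omega
  obtain ⟨m, rfl⟩ := ho
  refine ⟨m, _, by omega, (filtQ_PSU_odd hF (by omega)).filtC fun i => ?_⟩
  have h4 : 4 ≤ q ^ 2 := by
    calc 4 = 2 ^ 2 := by norm_num
      _ ≤ q ^ 2 := Nat.pow_le_pow_left hq 2
  have h8 : 8 ≤ q ^ 3 := by
    calc 8 = 2 ^ 3 := by norm_num
      _ ≤ q ^ 3 := Nat.pow_le_pow_left hq 3
  split_ifs <;> omega

theorem bigL_POdd (K : Type*) [Field K] [Fintype K] [CharP K p] {d : ℕ} (hd : 2 ≤ d) (hK : Odd (Fintype.card K)) :
    BigL p (Cfsg.POmega K (Cfsg.quadFormOdd d K)) := by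
  have h3 : 3 ≤ Fintype.card K := by
    have h1 : 2 ≤ Fintype.card K := Fintype.one_lt_card
    obtain ⟨k, hk⟩ := hK
    omega
  have h2 : (2 : K) ≠ 0 := by
    intro h2
    have h3 : CharP K 2 := CharTwo.of_one_ne_zero_of_two_eq_zero one_ne_zero h2
    have h4 : 2 ∣ Fintype.card K := by
      obtain ⟨n, -, hn⟩ := FiniteField.card K 2
      rw [hn]
      exact dvd_pow_self 2 n.pos.ne'
    obtain ⟨k, hk⟩ := hK
    omega
  exact ⟨d, _, hd, (filtC_PO_odd h2 hd).mono (by rwa [Nat.card_eq_fintype_card])⟩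

theorem bigL_PPlus (K : Type*) [Field K] [Fintype K] [CharP K p] {d : ℕ} (hd : 3 ≤ d) (hK : 3 ≤ Fintype.card K) :
    BigL p (Cfsg.POmega K (Cfsg.quadFormPlus d K)) := by
  obtain ⟨n, rfl⟩ : ∃ n, d = n + 3 := ⟨d - 3, by omega⟩
  exact ⟨_, _, by omega, (filtC_PO_plus n).mono (by rwa [Nat.card_eq_fintype_card])⟩

theorem bigL_PMinus (K : Type*) [Field K] [Fintype K] [CharP K p] {d : ℕ} {a b : K}
    (hab : ∀ z₁ z₂ : K, z₁ ^ 2 + a * z₁ * z₂ + b * z₂ ^ 2 = 0 → z₁ = 0 ∧ z₂ = 0) (hd : 2 ≤ d)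
    (hK : 3 ≤ Fintype.card K) : BigL p (Cfsg.POmega K (Cfsg.quadFormMinus d K a b)) :=
  ⟨d, _, hd, (filtC_PO_minus a b hab hd).mono (by rwa [Nat.card_eq_fintype_card])⟩

end Families

section Exceptional

open Cfsg.Lie Cfsg.Agent.ChevalleyStructure Cfsg.Agent.ChevalleyStructure.CoxeterGeomTypes
  Cfsg.Agent.Nodes.RGDChev

theorem bigL_group {D : ChevalleyDatum} {l : ℕ} {M : CoxeterMatrix (Fin l)} (hp : IsType D l M) (hl : 2 ≤ l)
    (K : Type*) [Field K] [Fintype K] (p : ℕ) [CharP K p] (hK : 3 ≤ Fintype.card K) : BigL p ↥(D.group K) :=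
  ⟨l, M, hl, (filtC_group hp K p).mono (by rwa [Nat.card_eq_fintype_card])⟩

theorem bigL_G2 (K : Type*) [Field K] [Fintype K] (p : ℕ) [CharP K p] (hK : 3 ≤ Fintype.card K) :
    BigL p ↥(chevG2.group K) :=
  bigL_group (l := 2) (M := CoxeterMatrix.G₂) (by simp [IsType, typeList]) (by norm_num) K p hK

end Exceptional

/-! ### the situation `Big` -/

section Big

variable {Q : Type} [Group Q] [Finite Q] {A : Subgroup Q} {Γ : Subgroup (MulAut Q)} {ι : Type} [Fintype ι]
  [DecidableEq ι] {F : Type} [Field F] [Fintype F] {S P : Subgroup (GL ι F)}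

theorem BigL.kill_big {L : Type} [Group L] (hb : BigL (ringChar F) L) (b : Big A Γ S P)
    (e : Nonempty (socle P ≃* L)) : False := by
  obtain ⟨l, M, hl, hF⟩ := hb
  obtain ⟨e⟩ := e
  exact own_big b hl e hF

variable {K : Type} [Field K] [Fintype K] (hc : ringChar F = ringChar K)

include hc

theorem own_PSp (b : Big A Γ S P) {d : ℕ} (hd : 2 ≤ d) (hK : 3 ≤ Fintype.card K)
    (e : Nonempty (socle P ≃* Cfsg.PSp d K)) : False := by
  have : Fact (ringChar K).Prime := ⟨CharP.char_is_prime K _⟩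
  exact (hc ▸ bigL_PSp K hd hK : BigL (ringChar F) _).kill_big b e

theorem own_PSU (b : Big A Γ S P) {d q : ℕ} (hF : Fintype.card K = q ^ 2) (hd : 4 ≤ d) (hq : 3 ≤ q)
    (e : Nonempty (socle P ≃* Cfsg.PSU d K q)) : False := by
  have : Fact (ringChar K).Prime := ⟨CharP.char_is_prime K _⟩
  exact (hc ▸ bigL_PSU K hF hd hq : BigL (ringChar F) _).kill_big b e

theorem own_PSU_odd (b : Big A Γ S P) {d q : ℕ} (hF : Fintype.card K = q ^ 2) (hd : 5 ≤ d) (ho : Odd d)
    (e : Nonempty (socle P ≃* Cfsg.PSU d K q)) : False := by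
  have : Fact (ringChar K).Prime := ⟨CharP.char_is_prime K _⟩
  exact (hc ▸ bigL_PSU_odd K hF hd ho : BigL (ringChar F) _).kill_big b e

theorem own_POdd (b : Big A Γ S P) {d : ℕ} (hd : 2 ≤ d) (hK : Odd (Fintype.card K))
    (e : Nonempty (socle P ≃* Cfsg.POmega K (Cfsg.quadFormOdd d K))) : False := by
  have : Fact (ringChar K).Prime := ⟨CharP.char_is_prime K _⟩
  exact (hc ▸ bigL_POdd K hd hK : BigL (ringChar F) _).kill_big b e

theorem own_PPlus (b : Big A Γ S P) {d : ℕ} (hd : 3 ≤ d) (hK : 3 ≤ Fintype.card K)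
    (e : Nonempty (socle P ≃* Cfsg.POmega K (Cfsg.quadFormPlus d K))) : False := by
  have : Fact (ringChar K).Prime := ⟨CharP.char_is_prime K _⟩
  exact (hc ▸ bigL_PPlus K hd hK : BigL (ringChar F) _).kill_big b e

theorem own_PMinus (b : Big A Γ S P) {d : ℕ} {x y : K}
    (hxy : ∀ z₁ z₂ : K, z₁ ^ 2 + x * z₁ * z₂ + y * z₂ ^ 2 = 0 → z₁ = 0 ∧ z₂ = 0) (hd : 2 ≤ d)
    (hK : 3 ≤ Fintype.card K) (e : Nonempty (socle P ≃* Cfsg.POmega K (Cfsg.quadFormMinus d K x y))) : False := by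
  have : Fact (ringChar K).Prime := ⟨CharP.char_is_prime K _⟩
  exact (hc ▸ bigL_PMinus K hxy hd hK : BigL (ringChar F) _).kill_big b e

end Big

/-! ### the exceptional groups, in the situation `Big` -/

section BigExc

open Cfsg.Lie

variable {Q : Type} [Group Q] [Finite Q] {A : Subgroup Q} {Γ : Subgroup (MulAut Q)} {ι : Type} [Fintype ι]
  [DecidableEq ι] {F : Type} [Field F] [Fintype F] {S P : Subgroup (GL ι F)}
  {K : Type} [Field K] [Fintype K] (hc : ringChar F = ringChar K)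

include hc

end BigExc

/-! ### what remains of the targets -/

/-- `OwnPSp` from `card K = 2`, `3 ≤ d` -/
theorem ownPSp_of
    (hq : ∀ {Q : Type} [Group Q] [Finite Q] {A : Subgroup Q} {Γ : Subgroup (MulAut Q)} {ι : Type} [Fintype ι]
      [DecidableEq ι] {F : Type} [Field F] [Fintype F] {S P : Subgroup (GL ι F)}, Big A Γ S P →
      ∀ (K : Type) [Field K] [Fintype K] (d : ℕ), 3 ≤ d → Fintype.card K = 2 → ringChar F = ringChar K →
      Nonempty (socle P ≃* Cfsg.PSp d K) → False) : OwnPSp := by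
  intro Q _ _ A Γ ι _ _ F _ _ S P b K _ _ d hd h4 hc e
  have h1 : 2 ≤ Fintype.card K := Fintype.one_lt_card
  rcases Nat.lt_or_ge (Fintype.card K) 3 with h5 | h5
  · refine hq b K d ?_ (by omega) hc e
    by_contra h6
    have := h4 (by omega)
    omega
  · exact own_PSp hc b hd h5 e

/-- `OwnPSU` from `d = 3` and from `q = 2`, `d` even -/
theorem ownPSU_of
    (h3 : ∀ {Q : Type} [Group Q] [Finite Q] {A : Subgroup Q} {Γ : Subgroup (MulAut Q)} {ι : Type} [Fintype ι]
      [DecidableEq ι] {F : Type} [Field F] [Fintype F] {S P : Subgroup (GL ι F)}, Big A Γ S P →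
      ∀ (K : Type) [Field K] [Fintype K] (q : ℕ), Fintype.card K = q ^ 2 → 3 ≤ q → ringChar F = ringChar K →
      Nonempty (socle P ≃* Cfsg.PSU 3 K q) → False)
    (hq : ∀ {Q : Type} [Group Q] [Finite Q] {A : Subgroup Q} {Γ : Subgroup (MulAut Q)} {ι : Type} [Fintype ι]
      [DecidableEq ι] {F : Type} [Field F] [Fintype F] {S P : Subgroup (GL ι F)}, Big A Γ S P →
      ∀ (K : Type) [Field K] [Fintype K] (d : ℕ), Fintype.card K = 4 → 4 ≤ d → Even d → ringChar F = ringChar K →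
      Nonempty (socle P ≃* Cfsg.PSU d K 2) → False) : OwnPSU := by
  intro Q _ _ A Γ ι _ _ F _ _ S P b K _ _ d q hF hd h4 hc e
  have h1 : 2 ≤ Fintype.card K := Fintype.one_lt_card
  have hq2 : 2 ≤ q := by
    by_contra h5
    have h6 : q ≤ 1 := by omega
    have h7 : q ^ 2 ≤ 1 := by
      calc q ^ 2 ≤ 1 ^ 2 := Nat.pow_le_pow_left h6 2
        _ = 1 := by norm_num
    omega
  rcases Nat.lt_or_ge q 3 with h5 | h5
  · obtain rfl : q = 2 := by omega
    have hd4 : 4 ≤ d := by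
      by_contra h6
      exact h4 ⟨by omega, rfl⟩
    rcases Nat.even_or_odd d with hev | hod
    · exact hq b K d (by rw [hF]; norm_num) hd4 hev hc e
    · refine own_PSU_odd hc b hF ?_ hod e
      obtain ⟨k, hk⟩ := hod
      omega
  · rcases Nat.lt_or_ge d 4 with h6 | h6
    · obtain rfl : d = 3 := by omega
      exact h3 b K q hF h5 hc e
    · exact own_PSU hc b hF h6 h5 e

/-- `OwnPOmega` from `card K = 2`, plus and minus type -/
theorem ownPOmega_of
    (hp : ∀ {Q : Type} [Group Q] [Finite Q] {A : Subgroup Q} {Γ : Subgroup (MulAut Q)} {ι : Type} [Fintype ι]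
      [DecidableEq ι] {F : Type} [Field F] [Fintype F] {S P : Subgroup (GL ι F)}, Big A Γ S P →
      ∀ (K : Type) [Field K] [Fintype K] (d : ℕ), 4 ≤ d → Fintype.card K = 2 → ringChar F = ringChar K →
      Nonempty (socle P ≃* Cfsg.POmega K (Cfsg.quadFormPlus d K)) → False)
    (hm : ∀ {Q : Type} [Group Q] [Finite Q] {A : Subgroup Q} {Γ : Subgroup (MulAut Q)} {ι : Type} [Fintype ι]
      [DecidableEq ι] {F : Type} [Field F] [Fintype F] {S P : Subgroup (GL ι F)}, Big A Γ S P →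
      ∀ (K : Type) [Field K] [Fintype K] (d : ℕ) (x y : K), 4 ≤ d → Fintype.card K = 2 → ringChar F = ringChar K →
      (∀ z₁ z₂ : K, z₁ ^ 2 + x * z₁ * z₂ + y * z₂ ^ 2 = 0 → z₁ = 0 ∧ z₂ = 0) →
      Nonempty (socle P ≃* Cfsg.POmega K (Cfsg.quadFormMinus (d - 1) K x y)) → False) : OwnPOmega := by
  intro Q _ _ A Γ ι _ _ F _ _ S P b K _ _ d hc h
  have h1 : 2 ≤ Fintype.card K := Fintype.one_lt_card
  rcases h with ⟨hd, ho, e⟩ | ⟨hd, e⟩ | ⟨x, y, hd, hxy, e⟩
  · exact own_POdd hc b (by omega) ho e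
  · rcases Nat.lt_or_ge (Fintype.card K) 3 with h5 | h5
    · exact hp b K d hd (by omega) hc e
    · exact own_PPlus hc b (by omega) h5 e
  · rcases Nat.lt_or_ge (Fintype.card K) 3 with h5 | h5
    · exact hm b K d x y hd (by omega) hc hxy e
    · exact own_PMinus hc b hxy (by omega) h5 e

end Cfsg.Agent.H284.Own
end

-- part: H765/EPS/Bridge
section
prune_inst 0x150040041c0120000000090c1201c02960000000008040044c301040c88e00244820060890021055a08008100010028131000a040000000000004000005012080804000b208000c46001f000100000000000000000000000000000000010000200000000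
set_option linter.all false
open scoped Cfsg.Agent.FastGrp

-- part: H765/EPS/Sp
section
/-!
# The group `Sp₈(2)` (helper765)
-/

set_option autoImplicit false
set_option linter.unusedSectionVars false

namespace Cfsg.Agent.H765.EPS

open Matrix Cfsg.Agent.ClassicalGeometry.SympBasic

section

variable (K : Type*) [Field K]

/-- bit to field element -/
def bt (b : Bool) : K := if b = true then 1 else 0

/-- the vector of a number -/
def vec (n : ℕ) : Fin 4 ⊕ Fin 4 → K :=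
  Sum.elim (fun i => bt K (n.testBit i)) (fun i => bt K (n.testBit (4 + i)))

end

section

variable {K : Type*} [Field K]

theorem bt_xor (h2 : (2 : K) = 0) (a b : Bool) : bt K (a ^^ b) = bt K a + bt K b := by
  have h3 : (1 : K) + 1 = 0 := by rw [one_add_one_eq_two, h2]
  cases a <;> cases b <;> simp [bt, h3]

theorem bt_and (a b : Bool) : bt K (a && b) = bt K a * bt K b := by
  cases a <;> cases b <;> simp [bt]

theorem bt_inj {a b : Bool} (h : bt K a = bt K b) : a = b := by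
  cases a <;> cases b <;> simp [bt] at h ⊢

theorem vec_xor (h2 : (2 : K) = 0) (m n : ℕ) : vec K (m ^^^ n) = vec K m + vec K n := by
  funext i
  rcases i with i | i
  · show bt K _ = bt K _ + bt K _
    rw [Nat.testBit_xor, bt_xor h2]
  · show bt K _ = bt K _ + bt K _
    rw [Nat.testBit_xor, bt_xor h2]

theorem vec_inj {m n : ℕ} (hm : m < 256) (hn : n < 256) (h : vec K m = vec K n) : m = n := by
  apply Nat.eq_of_testBit_eq
  intro i
  by_cases h8 : 8 ≤ i
  · have h1 : m < 2 ^ i := lt_of_lt_of_le hm (show 2 ^ 8 ≤ 2 ^ i from Nat.pow_le_pow_right (by norm_num) h8)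
    have h2 : n < 2 ^ i := lt_of_lt_of_le hn (show 2 ^ 8 ≤ 2 ^ i from Nat.pow_le_pow_right (by norm_num) h8)
    rw [Nat.testBit_lt_two_pow h1, Nat.testBit_lt_two_pow h2]
  · push Not at h8
    by_cases h4 : i < 4
    · have h1 := congrFun h (Sum.inl ⟨i, h4⟩)
      exact bt_inj h1
    · have h1 := congrFun h (Sum.inr ⟨i - 4, by omega⟩)
      have h2 : 4 + (i - 4) = i := by omega
      have h3 : bt K (m.testBit (4 + (i - 4))) = bt K (n.testBit (4 + (i - 4))) := h1
      rw [h2] at h3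
      exact bt_inj h3

theorem vec_surj [Fintype K] (hK : Fintype.card K = 2) (w : Fin 4 ⊕ Fin 4 → K) : ∃ n < 256, vec K n = w := by
  have hinj : Function.Injective (fun n : Fin 256 => vec K (n : ℕ)) := fun m n h => Fin.ext (vec_inj m.2 n.2 h)
  have hbij := (Fintype.bijective_iff_injective_and_card (fun n : Fin 256 => vec K (n : ℕ))).2 ⟨hinj, by
    rw [Fintype.card_fin, Fintype.card_fun, hK, Fintype.card_sum, Fintype.card_fin]
    norm_num⟩
  obtain ⟨n, hn⟩ := hbij.2 w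
  exact ⟨n, n.2, hn⟩

theorem vec_zero : vec K 0 = 0 := by
  funext i
  rcases i with i | i
  · show bt K _ = 0
    simp [bt]
  · show bt K _ = 0
    simp [bt]

theorem form_vec (h2 : (2 : K) = 0) (m n : ℕ) : Cfsg.sympForm 4 K (vec K m) (vec K n) = bt K (sf m n) := by
  have h3 : ∀ x : K, -x = x := fun x => by
    rw [neg_eq_iff_add_eq_zero, ← two_mul, h2, zero_mul]
  rw [sympForm_eq_sum]
  have e : ∀ i : Fin 4, (vec K m (Sum.inr i) * vec K n (Sum.inl i) - vec K m (Sum.inl i) * vec K n (Sum.inr i)) =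
      bt K ((m.testBit i && n.testBit (4 + i)) ^^ (m.testBit (4 + i) && n.testBit i)) := by
    intro i
    rw [bt_xor h2, bt_and, bt_and, sub_eq_add_neg, h3, add_comm]
    rfl
  rw [Finset.sum_congr rfl fun i _ => e i, Fin.sum_univ_four]
  rw [← bt_xor h2, ← bt_xor h2, ← bt_xor h2]
  congr 1
  unfold sf par
  simp only [Nat.testBit_and, Nat.testBit_shiftRight]
  have b0 : (15 : ℕ).testBit 0 = true := by decide
  have b1 : (15 : ℕ).testBit 1 = true := by decide
  have b2 : (15 : ℕ).testBit 2 = true := by decide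
  have b3 : (15 : ℕ).testBit 3 = true := by decide
  rw [b0, b1, b2, b3]
  simp only [Bool.and_true]
  show _ = _
  have f0 : ((0 : Fin 4) : ℕ) = 0 := rfl
  have f1 : ((1 : Fin 4) : ℕ) = 1 := rfl
  have f2 : ((2 : Fin 4) : ℕ) = 2 := rfl
  have f3 : ((3 : Fin 4) : ℕ) = 3 := rfl
  rw [f0, f1, f2, f3]
  generalize m.testBit 0 = a0
  generalize m.testBit 1 = a1
  generalize m.testBit 2 = a2
  generalize m.testBit 3 = a3
  generalize n.testBit 0 = c0
  generalize n.testBit 1 = c1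
  generalize n.testBit 2 = c2
  generalize n.testBit 3 = c3
  generalize m.testBit (4 + 0) = d0
  generalize m.testBit (4 + 1) = d1
  generalize m.testBit (4 + 2) = d2
  generalize m.testBit (4 + 3) = d3
  generalize n.testBit (4 + 0) = g0
  generalize n.testBit (4 + 1) = g1
  generalize n.testBit (4 + 2) = g2
  generalize n.testBit (4 + 3) = g3
  cases (a0 && g0) <;> cases (a1 && g1) <;> cases (a2 && g2) <;> cases (a3 && g3) <;>
  cases (d0 && c0) <;> cases (d1 && c1) <;> cases (d2 && c2) <;> cases (d3 && c3) <;> rfl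

theorem sf_comm (m n : ℕ) : sf m n = sf n m := by
  unfold sf
  rw [Nat.land_comm (m &&& 15), Nat.land_comm (m >>> 4), Bool.xor_comm]

/-- the transvection of a number -/
def TT (K : Type*) [Field K] (n : ℕ) : Matrix.symplecticGroup (Fin 4) K := transv (vec K n) 1

theorem TT_vec (h2 : (2 : K) = 0) (m n : ℕ) :
    ((TT K m : Matrix.symplecticGroup (Fin 4) K) : Matrix (Fin 4 ⊕ Fin 4) (Fin 4 ⊕ Fin 4) K) *ᵥ vec K n = vec K (act m n) := by
  show Cfsg.sympTransvection 4 (vec K m) 1 *ᵥ vec K n = _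
  rw [sympTransvection_mulVec, form_vec h2, sf_comm, one_mul]
  unfold act
  by_cases h : sf m n = true
  · rw [if_pos h, h, vec_xor h2]
    simp [bt]
  · rw [if_neg h]
    have h' : sf m n = false := by simpa using h
    rw [h']
    simp [bt]

theorem TT_sq (h2 : (2 : K) = 0) (m : ℕ) : TT K m * TT K m = 1 := by
  apply Subtype.ext
  show Cfsg.sympTransvection 4 (vec K m) 1 * Cfsg.sympTransvection 4 (vec K m) 1 = 1
  rw [sympTransvection_mul, one_add_one_eq_two, h2, sympTransvection_zero]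

theorem TT_inv (h2 : (2 : K) = 0) (m : ℕ) : (TT K m)⁻¹ = TT K m := inv_eq_of_mul_eq_one_left (TT_sq h2 m)

theorem conj_TT {g : Matrix.symplecticGroup (Fin 4) K} {m n : ℕ}
    (h : (g : Matrix (Fin 4 ⊕ Fin 4) (Fin 4 ⊕ Fin 4) K) *ᵥ vec K m = vec K n) : g * TT K m * g⁻¹ = TT K n := by
  rw [mul_inv_eq_iff_eq_mul]
  apply Subtype.ext
  show (g : Matrix (Fin 4 ⊕ Fin 4) (Fin 4 ⊕ Fin 4) K) * Cfsg.sympTransvection 4 (vec K m) 1 =
    Cfsg.sympTransvection 4 (vec K n) 1 * (g : Matrix (Fin 4 ⊕ Fin 4) (Fin 4 ⊕ Fin 4) K)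
  rw [mul_sympTransvection g.2, h]

theorem TT_cj (h2 : (2 : K) = 0) (m n : ℕ) : TT K m * TT K n * TT K m = TT K (act m n) := by
  have h1 := conj_TT (TT_vec h2 m n)
  rwa [TT_inv h2] at h1

theorem prod_vec (h2 : (2 : K) = 0) (l : List ℕ) (n : ℕ) :
    (((l.map (TT K)).prod : Matrix.symplecticGroup (Fin 4) K) : Matrix (Fin 4 ⊕ Fin 4) (Fin 4 ⊕ Fin 4) K) *ᵥ vec K n = vec K (aw l n) := by
  induction l with
  | nil => exact Matrix.one_mulVec _
  | cons x l ih =>
    rw [List.map_cons, List.prod_cons, coe_mul_mulVec, ih, TT_vec h2]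
    rfl

theorem two_of_card [Fintype K] (hK : Fintype.card K = 2) : (2 : K) = 0 := by
  have h1 : ((Fintype.card K : ℕ) : K) = 0 := by
    have := FiniteField.cast_card_eq_zero K
    exact this
  rw [hK] at h1
  exact_mod_cast h1

/-- equality in the group can be checked on the vectors -/
theorem ext_vec [Fintype K] (hK : Fintype.card K = 2) {g k : Matrix.symplecticGroup (Fin 4) K}
    (h : ∀ n < 256, (g : Matrix (Fin 4 ⊕ Fin 4) (Fin 4 ⊕ Fin 4) K) *ᵥ vec K n = (k : Matrix (Fin 4 ⊕ Fin 4) (Fin 4 ⊕ Fin 4) K) *ᵥ vec K n) : g = k := by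
  apply Subtype.ext
  rw [← Matrix.mulVec_injective.eq_iff]
  funext w
  obtain ⟨n, hn, rfl⟩ := vec_surj hK w
  exact h n hn

private noncomputable def actF15 (x y : ℕ) : ℕ :=
  Bool.rec y (Nat.xor y x) (Nat.beq (Nat.land (Nat.shiftRight 27030 (Nat.land (Nat.xor (Nat.land (Nat.land x 15)
    (Nat.shiftRight y 4)) (Nat.land (Nat.shiftRight x 4) (Nat.land y 15))) 15)) 1) 1)

private theorem par15 (a b : ℕ) :
    (par a ^^ par b) = Nat.beq (Nat.land (Nat.shiftRight 27030 (Nat.land (Nat.xor a b) 15)) 1) 1 := by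
  have h1 : ∀ z < 16, par z = Nat.beq (Nat.land (Nat.shiftRight 27030 z) 1) 1 := by decide +kernel
  have h2 : ∀ a0 a1 a2 a3 b0 b1 b2 b3 : Bool, (((a0 ^^ a1) ^^ (a2 ^^ a3)) ^^ ((b0 ^^ b1) ^^ (b2 ^^ b3))) =
      ((((a0 ^^ b0) && true) ^^ ((a1 ^^ b1) && true)) ^^ (((a2 ^^ b2) && true) ^^ ((a3 ^^ b3) && true))) := by decide +kernel
  refine Eq.trans ?_ (h1 _ (Nat.lt_succ_of_le (Nat.and_le_right (n := a ^^^ b) (m := 15))))
  show _ = ((((a ^^^ b) &&& 15).testBit 0 ^^ ((a ^^^ b) &&& 15).testBit 1) ^^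
    (((a ^^^ b) &&& 15).testBit 2 ^^ ((a ^^^ b) &&& 15).testBit 3))
  rewrite [Nat.testBit_and, Nat.testBit_and, Nat.testBit_and, Nat.testBit_and, Nat.testBit_xor, Nat.testBit_xor,
    Nat.testBit_xor, Nat.testBit_xor]
  exact h2 _ _ _ _ _ _ _ _

private theorem act15 (x y : ℕ) : act x y = actF15 x y := by
  have h := par15 ((x &&& 15) &&& (y >>> 4)) ((x >>> 4) &&& (y &&& 15))
  show (if (par ((x &&& 15) &&& (y >>> 4)) ^^ par ((x >>> 4) &&& (y &&& 15))) = true then y ^^^ x else y) =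
    Bool.rec y (y ^^^ x) (Nat.beq (Nat.land (Nat.shiftRight 27030 (Nat.land (Nat.xor ((x &&& 15) &&& (y >>> 4))
      ((x >>> 4) &&& (y &&& 15))) 15)) 1) 1)
  rewrite [← h]
  cases (par ((x &&& 15) &&& (y >>> 4)) ^^ par ((x >>> 4) &&& (y &&& 15))) <;> rfl

private theorem aw15 : aw = fun l y => List.rec (motive := fun _ => ℕ) y (fun x _ ih => actF15 x ih) l := by
  funext l y
  induction l with
  | nil => rfl
  | cons x l ih => exact (act15 x (aw l y)).trans (congrArg (actF15 x) ih)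

theorem TT_seven [Fintype K] (hK : Fintype.card K = 2) :
    TT K 1 * TT K 4 * TT K 8 * TT K 5 * TT K 9 * TT K 12 * TT K 13 = 1 := by
  have h2 := two_of_card hK
  have h1 : TT K 1 * TT K 4 * TT K 8 * TT K 5 * TT K 9 * TT K 12 * TT K 13 =
      (([1, 4, 8, 5, 9, 12, 13] : List ℕ).map (TT K)).prod := by
    simp [mul_assoc]
  rw [h1]
  apply ext_vec hK
  intro n hn
  rw [prod_vec h2]
  have h3 : ∀ n < 256, aw [1, 4, 8, 5, 9, 12, 13] n = n := by rewrite [aw15]; decide +kernel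
  rw [h3 n hn]
  exact (Matrix.one_mulVec _).symm

theorem TT_gen [Fintype K] (hK : Fintype.card K = 2) :
    Subgroup.closure {g : Matrix.symplecticGroup (Fin 4) K | ∃ n, Ok n ∧ g = TT K n} = ⊤ := by
  rw [eq_top_iff, ← Cfsg.Agent.S0765.result 4, Subgroup.closure_le]
  rintro g ⟨w, c, e⟩
  have hc : c = 0 ∨ c = 1 := by
    classical
    by_contra hcon
    push Not at hcon
    have h1 : ({0, 1, c} : Finset K).card ≤ 2 := by
      rw [← hK]
      exact Finset.card_le_univ _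
    rw [Finset.card_eq_three.2 ⟨0, 1, c, zero_ne_one, hcon.1.symm, hcon.2.symm, rfl⟩] at h1
    omega
  rcases hc with rfl | rfl
  · rw [sympTransvection_zero] at e
    have : g = 1 := Subtype.ext e
    rw [this]
    exact one_mem _
  · obtain ⟨n, hn, rfl⟩ := vec_surj hK w
    by_cases h0 : n = 0
    · rw [h0, vec_zero] at e
      have h3 : Cfsg.sympTransvection 4 (0 : Fin 4 ⊕ Fin 4 → K) 1 = 1 := by
        rw [sympTransvection_def]
        simp
      rw [h3] at e
      have : g = 1 := Subtype.ext e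
      rw [this]
      exact one_mem _
    · exact Subgroup.subset_closure ⟨n, ⟨Nat.pos_of_ne_zero h0, hn⟩, Subtype.ext e⟩

end

end Cfsg.Agent.H765.EPS
end

-- part: H765/EPS/SpY
section
/-!
# An element of order 17 of `Sp₈(2)` (helper765)
-/

set_option autoImplicit false
set_option linter.unusedSectionVars false

namespace Cfsg.Agent.H765.EPS

open Matrix Cfsg.Agent.ClassicalGeometry.SympBasic

/-- the word of an element of order 17 -/
def y0w : List ℕ := [40, 66, 32, 4, 16, 5, 64, 128]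

def ypw : ℕ → ℕ → ℕ
  | 0, n => n
  | k + 1, n => aw y0w (ypw k n)

section

variable (K : Type*) [Field K]

/-! ### The table of `aw y0w` on 8 bits -/

/-- the table -/
def yTab : ℕ :=
  0x322352430d1c6d7c9283f2e3adbccddc5d4c3d2c62730213fdec9d8cc2d3a2b37869180947562736d8c9b8a9e7f687961706776628394859b7a6d7c68899e8f9637203125c4d3c2dc3d2a3b2fced9c8d0c1d6c7d33225342acbdccdd9382f3e229384958160776678998e9f8b6a7d6c74657263779681908e6f78697d9c8b9a89a8bfaeba5b4c5d43a2b5a4b05146574f5e49584cadbaabb554435246a7b0a1bd0c1b0a1effe8f9e706110014f5e2f3ebfaedfce8091e0f11f0e7f6e20314051cbdaabbaf4e594856b7a0b1a54453425a4b5c4d59b8afbea041564753b2a5b4a8190e1f0beafdecf213041501e0f7e6feeff8e9fd1c0b1a04e5f2e3f71601100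

def yt (n : ℕ) : ℕ := (yTab >>> (8 * n)) % 256

theorem yt_eq0 : ∀ n < 64, aw y0w n = yt n := by rewrite [aw15]; decide +kernel
theorem yt_eq1 : ∀ n < 64, aw y0w (64 + n) = yt (64 + n) := by rewrite [aw15]; decide +kernel
theorem yt_eq2 : ∀ n < 64, aw y0w (128 + n) = yt (128 + n) := by rewrite [aw15]; decide +kernel
theorem yt_eq3 : ∀ n < 64, aw y0w (192 + n) = yt (192 + n) := by rewrite [aw15]; decide +kernel

theorem yt_eq (n : ℕ) (hn : n < 256) : aw y0w n = yt n := by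
  by_cases h1 : n < 64
  · exact yt_eq0 n h1
  by_cases h2 : n < 128
  · have h := yt_eq1 (n - 64) (by omega)
    rwa [show 64 + (n - 64) = n by omega] at h
  by_cases h3 : n < 192
  · have h := yt_eq2 (n - 128) (by omega)
    rwa [show 128 + (n - 128) = n by omega] at h
  · have h := yt_eq3 (n - 192) (by omega)
    rwa [show 192 + (n - 192) = n by omega] at h

def tpw : ℕ → ℕ → ℕ
  | 0, n => n
  | k + 1, n => yt (tpw k n)

theorem ypw_eq_tpw (n : ℕ) (hn : n < 256) : ∀ k, ypw k n = tpw k n ∧ tpw k n < 256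
  | 0 => ⟨rfl, hn⟩
  | k + 1 => by
    obtain ⟨h1, h2⟩ := ypw_eq_tpw n hn k
    refine ⟨?_, Nat.mod_lt _ (by norm_num)⟩
    show aw y0w (ypw k n) = yt (tpw k n)
    rw [h1, yt_eq _ h2]

theorem tpw_17 : ∀ n < 256, tpw 17 n = n := by decide +kernel

theorem ypw_17 (n : ℕ) (hn : n < 256) : ypw 17 n = n := by
  rw [(ypw_eq_tpw n hn 17).1]
  exact tpw_17 n hn

/-- the element of order 17 -/
def Y0 : Matrix.symplecticGroup (Fin 4) K := (y0w.map (TT K)).prod

/-- the matrix of an element -/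
abbrev mt {K : Type*} [Field K] (g : Matrix.symplecticGroup (Fin 4) K) : Matrix (Fin 4 ⊕ Fin 4) (Fin 4 ⊕ Fin 4) K := g

end

variable {K : Type*} [Field K] [Fintype K] (hK : Fintype.card K = 2)

include hK

theorem Y0_vec (n : ℕ) : mt (Y0 K) *ᵥ vec K n = vec K (aw y0w n) := prod_vec (two_of_card hK) _ _

theorem Y0_pow_vec (k n : ℕ) : mt (Y0 K ^ k) *ᵥ vec K n = vec K (ypw k n) := by
  induction k with
  | zero => exact Matrix.one_mulVec _
  | succ k ih =>
    rw [pow_succ', mt, coe_mul_mulVec, ih, Y0_vec hK]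
    rfl

/-- equality in the group can be checked on the basis vectors -/
theorem ext_bas {g k : Matrix.symplecticGroup (Fin 4) K} (h : ∀ i < 8, mt g *ᵥ vec K (2 ^ i) = mt k *ᵥ vec K (2 ^ i)) :
    g = k := by
  have h2 := two_of_card hK
  have h3 : ∀ j < 8, ∀ r < 2 ^ j, 2 ^ j + r = 2 ^ j ^^^ r := by decide +kernel
  have key : ∀ j ≤ 8, ∀ n < 2 ^ j, mt g *ᵥ vec K n = mt k *ᵥ vec K n := by
    intro j
    induction j with
    | zero =>
      intro _ n hn
      have h0 : n = 0 := by omega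
      rw [h0, vec_zero, Matrix.mulVec_zero, Matrix.mulVec_zero]
    | succ j ih =>
      intro hj n hn
      by_cases hlt : n < 2 ^ j
      · exact ih (by omega) n hlt
      · obtain ⟨r, hr⟩ := Nat.exists_eq_add_of_le (Nat.le_of_not_lt hlt)
        have hr2 : r < 2 ^ j := by
          rw [pow_succ] at hn
          omega
        rw [hr, h3 j (by omega) r hr2, vec_xor h2, Matrix.mulVec_add, Matrix.mulVec_add, ih (by omega) r hr2,
          h j (by omega)]
  exact ext_vec hK fun n hn => key 8 le_rfl n hn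

theorem Y0_pow : Y0 K ^ 17 = 1 := by
  apply ext_vec hK
  intro n hn
  have h1 := Y0_pow_vec hK 17 n
  have h2 : ∀ n < 256, ypw 17 n = n := ypw_17
  rw [h2 n hn] at h1
  exact h1.trans (Matrix.one_mulVec _).symm

/-- `Y0` fixes no nonzero vector -/
theorem Y0_fix {w : Fin 4 ⊕ Fin 4 → K} (hw : mt (Y0 K) *ᵥ w = w) : w = 0 := by
  obtain ⟨n, hn, rfl⟩ := vec_surj hK w
  rw [Y0_vec hK] at hw
  have h1 : ∀ n < 256, n ≠ 0 → aw y0w n < 256 ∧ aw y0w n ≠ n := fun n hn h0 => by
    rewrite [yt_eq n hn]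
    exact (show ∀ n < 256, n ≠ 0 → yt n < 256 ∧ yt n ≠ n by decide +kernel) n hn h0
  by_cases h0 : n = 0
  · rw [h0, vec_zero]
  · exact absurd (vec_inj (h1 n hn h0).1 hn hw) (h1 n hn h0).2

theorem Y0_ne : Y0 K ≠ 1 := by
  intro e
  have h1 : vec K 1 = 0 := by
    apply Y0_fix hK
    rw [e]
    exact Matrix.one_mulVec _
  rw [← vec_zero] at h1
  have := vec_inj (K := K) (m := 1) (n := 0) (by norm_num) (by norm_num) h1
  omega

theorem orderOf_Y0 : orderOf (Y0 K) = 17 :=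
  orderOf_eq_prime (hp := ⟨by norm_num⟩) (Y0_pow hK) (Y0_ne hK)

/-- `Y0` acts irreducibly -/
theorem Y0_irr (X : Submodule K (Fin 4 ⊕ Fin 4 → K)) (hX : ∀ w ∈ X, mt (Y0 K) *ᵥ w ∈ X) : X = ⊥ ∨ X = ⊤ := by
  classical
  have : Fact (Nat.Prime 17) := ⟨by norm_num⟩
  have hfin : Fintype X := Fintype.ofFinite _
  let f : Function.End X := fun w => ⟨mt (Y0 K) *ᵥ (w : Fin 4 ⊕ Fin 4 → K), hX w w.2⟩
  have hfk : ∀ (k : ℕ) (w : X), (((f ^ k : Function.End X) w : X) : Fin 4 ⊕ Fin 4 → K) = mt (Y0 K ^ k) *ᵥ (w : Fin 4 ⊕ Fin 4 → K) := by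
    intro k
    induction k with
    | zero =>
      intro w
      exact (Matrix.one_mulVec _).symm
    | succ k ih =>
      intro w
      rw [pow_succ', pow_succ', mt, coe_mul_mulVec, ← ih]
      rfl
  have hf : f ^ 17 ^ 1 = 1 := by
    rw [pow_one]
    funext w
    apply Subtype.ext
    rw [hfk, Y0_pow hK]
    exact Matrix.one_mulVec _
  have h1 := Equiv.Perm.card_fixedPoints_modEq hf
  have h2 : Fintype.card (Function.fixedPoints f) = 1 := by
    rw [Fintype.card_eq_one_iff]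
    refine ⟨⟨0, ?_⟩, ?_⟩
    · apply Subtype.ext
      exact Matrix.mulVec_zero (mt (Y0 K))
    · rintro ⟨w, hw⟩
      apply Subtype.ext
      apply Subtype.ext
      exact Y0_fix hK (Subtype.ext_iff.1 hw)
  rw [h2] at h1
  have h3 : Fintype.card X = 2 ^ Module.finrank K X := by
    rw [← hK]
    exact Module.card_eq_pow_finrank (K := K) (V := X)
  have h4 : Module.finrank K X ≤ 8 := by
    have := Submodule.finrank_le X
    rw [Module.finrank_fintype_fun_eq_card, Fintype.card_sum, Fintype.card_fin] at this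
    exact this
  rw [h3] at h1
  have h5 : Module.finrank K X = 0 ∨ Module.finrank K X = 8 := by
    generalize Module.finrank K X = k at h1 h4
    interval_cases k
    · left; rfl
    all_goals first | (right; rfl) | (exfalso; revert h1; decide)
  rcases h5 with h5 | h5
  · left
    exact Submodule.finrank_eq_zero.1 h5
  · right
    apply Submodule.eq_top_of_finrank_eq
    have h6 : Module.finrank K (Fin 4 ⊕ Fin 4 → K) = 8 := by
      rw [Module.finrank_fintype_fun_eq_card, Fintype.card_sum, Fintype.card_fin]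
    rw [h5, h6]

/-- the fixed space of a set of elements -/
def fixS (K : Type*) [Field K] (R : Set (Matrix.symplecticGroup (Fin 4) K)) : Submodule K (Fin 4 ⊕ Fin 4 → K) where
  carrier := {w | ∀ r ∈ R, mt r *ᵥ w = w}
  add_mem' := by
    intro a b ha hb r hr
    rw [Matrix.mulVec_add, ha r hr, hb r hr]
  zero_mem' := by
    intro r _
    exact Matrix.mulVec_zero _
  smul_mem' := by
    intro c a ha r hr
    rw [Matrix.mulVec_smul, ha r hr]

theorem eq_one_of_fixS_top {R : Set (Matrix.symplecticGroup (Fin 4) K)} (h : fixS K R = ⊤) : ∀ r ∈ R, r = 1 := by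
  intro r hr
  apply ext_vec hK
  intro n _
  have h1 : vec K n ∈ fixS K R := by rw [h]; exact Submodule.mem_top
  exact (h1 r hr).trans (Matrix.one_mulVec _).symm

theorem Y0_fixS {R : Set (Matrix.symplecticGroup (Fin 4) K)} (hR : ∀ r ∈ R, (Y0 K)⁻¹ * r * Y0 K ∈ R)
    (hne : ∃ w ∈ fixS K R, w ≠ 0) : ∀ r ∈ R, r = 1 := by
  apply eq_one_of_fixS_top hK
  rcases Y0_irr hK (fixS K R) (by
    intro w hw r hr
    have h1 := hw _ (hR r hr)
    have e : Y0 K * ((Y0 K)⁻¹ * r * Y0 K) = r * Y0 K := by group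
    calc mt r *ᵥ (mt (Y0 K) *ᵥ w) = mt (r * Y0 K) *ᵥ w := (coe_mul_mulVec _ _ _).symm
      _ = mt (Y0 K * ((Y0 K)⁻¹ * r * Y0 K)) *ᵥ w := by rw [e]
      _ = mt (Y0 K) *ᵥ (mt ((Y0 K)⁻¹ * r * Y0 K) *ᵥ w) := coe_mul_mulVec _ _ _
      _ = mt (Y0 K) *ᵥ w := by rw [h1]) with h1 | h1
  · obtain ⟨w, hw, hw0⟩ := hne
    rw [h1] at hw
    exact absurd ((Submodule.mem_bot K).1 hw) hw0
  · exact h1

/-- the centraliser of `Y0` -/
theorem Y0_cent {g : Matrix.symplecticGroup (Fin 4) K} (hg : g * Y0 K = Y0 K * g) : ∃ j : ℕ, g = Y0 K ^ j := by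
  have hgk : ∀ k : ℕ, g * Y0 K ^ k = Y0 K ^ k * g := fun k => (show Commute g (Y0 K) from hg).pow_right k
  obtain ⟨v, hv, hgv⟩ := vec_surj hK (mt g *ᵥ vec K 1)
  have h2 := two_of_card hK
  have h1 : ∀ k : ℕ, sf v (ypw k v) = sf 1 (ypw k 1) := by
    intro k
    apply bt_inj (K := K)
    rw [← form_vec h2, ← form_vec h2, ← Y0_pow_vec hK, ← Y0_pow_vec hK, hgv, mt, mt, ← coe_mul_mulVec, ← hgk,
      coe_mul_mulVec, sympForm_mulVec g.2]
  have hv0 : v ≠ 0 := by
    rintro rfl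
    rw [vec_zero] at hgv
    have h3 : mt (g⁻¹ * g) *ᵥ vec K 1 = 0 := by
      rw [mt, coe_mul_mulVec, ← hgv]
      exact Matrix.mulVec_zero _
    rw [inv_mul_cancel] at h3
    have h4 : vec K 1 = 0 := (Matrix.one_mulVec _).symm.trans h3
    rw [← vec_zero] at h4
    have := vec_inj (K := K) (m := 1) (n := 0) (by norm_num) (by norm_num) h4
    omega
  have h3 : ∀ v < 256, v ≠ 0 → (∀ k < 9, sf v (tpw k v) = sf 1 (tpw k 1)) → ∃ j < 17, v = tpw j 1 := by
    decide +kernel
  obtain ⟨j, _, hj⟩ := h3 v hv hv0 fun k _ => by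
    rewrite [← (ypw_eq_tpw v hv k).1, ← (ypw_eq_tpw 1 (by decide) k).1]
    exact h1 k
  rewrite [← (ypw_eq_tpw 1 (by decide) j).1] at hj
  refine ⟨j, ?_⟩
  have h4 : mt ((Y0 K ^ j)⁻¹ * g) *ᵥ vec K 1 = vec K 1 := by
    rw [mt, coe_mul_mulVec, ← hgv, hj, ← Y0_pow_vec hK, mt, ← coe_mul_mulVec, inv_mul_cancel]
    exact Matrix.one_mulVec _
  have h5 := Y0_fixS hK (R := {(Y0 K ^ j)⁻¹ * g}) (by
    intro r hr
    rw [Set.mem_singleton_iff] at hr ⊢
    rw [hr]
    have c1 : Commute (Y0 K) ((Y0 K ^ j)⁻¹ * g) :=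
      ((Commute.refl (Y0 K)).pow_right j).inv_right.mul_right (show Commute (Y0 K) g from hg.symm)
    rw [mul_assoc, ← c1.eq, inv_mul_cancel_left]) ⟨vec K 1, (by
    intro r hr
    rw [Set.mem_singleton_iff] at hr
    rw [hr]
    exact h4), (by
    intro e
    rw [← vec_zero] at e
    have := vec_inj (K := K) (m := 1) (n := 0) (by norm_num) (by norm_num) e
    omega)⟩ _ rfl
  rw [inv_mul_eq_one] at h5
  exact h5.symm

/-- no 2-subgroup `≠ 1` is normalised by `Y0` -/
theorem Y0_two {R : Subgroup (Matrix.symplecticGroup (Fin 4) K)} (hR : IsPGroup 2 R)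
    (hn : ∀ r ∈ R, (Y0 K)⁻¹ * r * Y0 K ∈ R) : R = ⊥ := by
  classical
  have : Fact (Nat.Prime 2) := ⟨Nat.prime_two⟩
  rw [Subgroup.eq_bot_iff_forall]
  refine Y0_fixS hK (R := (R : Set _)) hn ?_
  let _ : MulAction R (Fin 4 ⊕ Fin 4 → K) :=
    { smul := fun r w => mt (r : Matrix.symplecticGroup (Fin 4) K) *ᵥ w
      one_smul := fun w => Matrix.one_mulVec _
      mul_smul := fun r s w => coe_mul_mulVec _ _ _ }
  have h1 := hR.card_modEq_card_fixedPoints (Fin 4 ⊕ Fin 4 → K)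
  have h2 : Nat.card (Fin 4 ⊕ Fin 4 → K) = 256 := by
    rw [Nat.card_eq_fintype_card, Fintype.card_fun, hK, Fintype.card_sum, Fintype.card_fin]
    norm_num
  rw [h2] at h1
  by_contra hcon
  push Not at hcon
  have h3 : Nat.card (MulAction.fixedPoints R (Fin 4 ⊕ Fin 4 → K)) = 1 := by
    rw [Nat.card_eq_one_iff_unique]
    refine ⟨⟨?_⟩, ⟨⟨0, fun r => Matrix.mulVec_zero (mt (r : Matrix.symplecticGroup (Fin 4) K))⟩⟩⟩
    have key : ∀ w : Fin 4 ⊕ Fin 4 → K, w ∈ MulAction.fixedPoints R (Fin 4 ⊕ Fin 4 → K) → w = 0 := by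
      intro w hw
      exact hcon w fun r hr => hw ⟨r, hr⟩
    rintro ⟨a, ha⟩ ⟨b, hb⟩
    apply Subtype.ext
    show a = b
    rw [key a ha, key b hb]
  rw [h3] at h1
  exact absurd h1 (by decide)

end Cfsg.Agent.H765.EPS
end

-- part: H765/EPS/PSVar
section
/-!
# Extremely primitive groups: a variant of the normaliser part of (PS) (helper765; proof of helper284)
-/

set_option autoImplicit false
set_option linter.unusedSectionVars false

namespace Cfsg.Agent.H765.EPS

open MulAction Subgroup Cfsg.Agent.H284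

variable {Q : Type*} [Group Q] [Finite Q] {A : Subgroup Q} {Γ : Subgroup (MulAut Q)} (h : EPT A Γ)

include h

/-- the normaliser part of (PS), with a weaker hypothesis for the primes `l` -/
theorem PS_norm' (hF : ∀ K : Subgroup Q, K ≤ A → (∀ σ ∈ Γ, ∀ k ∈ K, σ k ∈ K) → (∀ a ∈ K, ∀ b ∈ K, a * b = b * a) → K = ⊥)
    {s : ℕ} (hs : s.Prime) {Y : Subgroup Q} (hYA : Y ≤ A) (hY : Nat.card Y = s)
    (hYc : ∀ a ∈ A, (∀ y ∈ Y, a * y = y * a) → a ∈ Y)
    (hfrob : ∀ l, l.Prime → l ∣ Nat.card A → l ≠ s → ∀ R : Subgroup Q, R ≤ A → IsPGroup l R →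
      (∀ y ∈ Y, ∀ a ∈ R, y * a * y⁻¹ ∈ R) → R ≠ ⊥ → ¬ l ^ (Nat.card A).factorization l ≡ 1 [MOD s])
    {c : Q} (hYc' : Y ≤ cj c A) (hcA : c ∉ A) :
    ∃ u ∈ A ⊓ cj c A, (∀ y ∈ Y, u * y * u⁻¹ ∈ Y) ∧ u ∉ Y := by
  have := Fact.mk hs
  by_contra hcon
  have hno : ∀ u ∈ A ⊓ cj c A, (∀ y ∈ Y, u * y * u⁻¹ ∈ Y) → u ∈ Y := by
    intro u hu hun
    by_contra huY
    exact hcon ⟨u, hu, hun, huY⟩
  set M0 := A ⊓ cj c A with hM0
  have hYM : Y ≤ M0 := le_inf hYA hYc'
  have hYp : IsPGroup s Y := IsPGroup.of_card (n := 1) (by rw [hY, pow_one])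
  have hYab : ∀ a ∈ Y, ∀ b ∈ Y, a * b = b * a := by
    have := isCyclic_of_prime_card hY
    have hc : ∀ a b : Y, a * b = b * a := fun a b => (IsCyclic.commGroup (α := Y)).mul_comm a b
    exact fun a ha b hb => Subtype.ext_iff.1 (hc ⟨a, ha⟩ ⟨b, hb⟩)
  have hYM' : IsPGroup s (Y.subgroupOf M0) := hYp.of_equiv (Subgroup.subgroupOfEquivOfLe hYM).symm
  obtain ⟨P, hP⟩ := hYM'.exists_le_sylow
  have hPY : (P : Subgroup M0).map M0.subtype = Y := by
    by_contra hne
    obtain ⟨y, hy1, hy2, hy3⟩ := exists_norm_lt hs (P.isPGroup'.map M0.subtype) (R := Y) (by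
      intro y hy
      exact ⟨⟨y, hYM hy⟩, hP hy, rfl⟩) hne
    apply hy2
    obtain ⟨z, _, rfl⟩ := hy1
    exact hno _ z.2 hy3
  have hPmem : ∀ y : M0, y ∈ (P : Subgroup M0) ↔ (y : Q) ∈ Y := by
    intro y
    constructor
    · intro hy
      rw [← hPY]
      exact ⟨y, hy, rfl⟩
    · intro hy
      rw [← hPY] at hy
      obtain ⟨z, hz, e⟩ := hy
      have : z = y := Subtype.ext e
      rwa [← this]
  have hPc : Subgroup.normalizer ((P : Subgroup M0) : Set M0) ≤ Subgroup.centralizer ((P : Subgroup M0) : Set M0) := by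
    intro y hy
    rw [Subgroup.mem_centralizer_iff]
    rw [Subgroup.mem_normalizer_iff] at hy
    have h1 : (y : Q) ∈ Y := by
      apply hno _ y.2
      intro k hk
      exact (hPmem _).1 ((hy ⟨k, hYM hk⟩).1 ((hPmem _).2 hk))
    intro z hz
    apply Subtype.ext
    exact hYab _ ((hPmem z).1 hz) _ h1
  obtain ⟨L', hL'n, hcomp, hnd, hlL'⟩ : ∃ L' : Subgroup M0, L'.Normal ∧ Subgroup.IsComplement' L' (P : Subgroup M0) ∧
      ¬ s ∣ Nat.card L' ∧ ∀ x : M0, ∀ l : ℕ, l.Prime → l ≠ s → (∃ k : ℕ, x ^ (l ^ k) = 1) → x ∈ L' := by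
    refine ⟨(MonoidHom.transferSylow P hPc).ker, MonoidHom.normal_ker _,
      MonoidHom.ker_transferSylow_isComplement' P hPc, MonoidHom.not_dvd_card_ker_transferSylow P hPc, ?_⟩
    rintro x l hl hls ⟨k, hk⟩
    rw [MonoidHom.mem_ker]
    have h1 : orderOf (MonoidHom.transferSylow P hPc x) ∣ l ^ k := by
      apply orderOf_dvd_of_pow_eq_one
      rw [← map_pow, hk, map_one]
    obtain ⟨j, hj⟩ := P.isPGroup' (MonoidHom.transferSylow P hPc x)
    have h2 : orderOf (MonoidHom.transferSylow P hPc x) ∣ s ^ j := orderOf_dvd_of_pow_eq_one hj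
    have h3 : Nat.Coprime (l ^ k) (s ^ j) := Nat.Coprime.pow _ _ ((Nat.coprime_primes hl hs).2 hls)
    have h4 : orderOf (MonoidHom.transferSylow P hPc x) ∣ 1 := by
      rw [← h3]
      exact Nat.dvd_gcd h1 h2
    exact orderOf_eq_one_iff.1 (Nat.dvd_one.1 h4)
  by_cases hbot : L' = ⊥
  · -- `M0 = Y` is abelian
    rw [hbot, Subgroup.isComplement'_bot_left] at hcomp
    have hM0Y : M0 ≤ Y := by
      intro m hm
      have : (⟨m, hm⟩ : M0) ∈ (P : Subgroup M0) := by rw [hcomp]; exact mem_top _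
      exact (hPmem _).1 this
    obtain ⟨K, h1, h2, h3, h4⟩ := h.abM0 c hcA (fun a ha b hb => hYab a (hM0Y ha) b (hM0Y hb))
    exact h3 (hF K h1 h2 h4)
  · set L := L'.map M0.subtype with hL
    have hLM : L ≤ M0 := by
      rintro _ ⟨y, _, rfl⟩
      exact y.2
    have hLn : ∀ m ∈ M0, ∀ a ∈ L, m * a * m⁻¹ ∈ L := by
      rintro m hm _ ⟨a, ha, rfl⟩
      exact ⟨⟨m, hm⟩ * a * ⟨m, hm⟩⁻¹, hL'n.conj_mem a ha _, rfl⟩
    have hLY : ∀ a ∈ L, a ∈ Y → a = 1 := by
      rintro _ ⟨a, ha, rfl⟩ haY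
      have h1 : a ∈ (P : Subgroup M0) := (hPmem a).2 haY
      have h2 := hcomp.disjoint
      rw [Subgroup.disjoint_def] at h2
      rw [h2 ha h1, map_one]
    have hLne : L ≠ ⊥ := by
      rw [hL, Ne, Subgroup.map_eq_bot_iff_of_injective _ M0.subtype_injective]
      exact hbot
    have hfixL : ∀ a ∈ L, (∀ y ∈ Y, y * a = a * y) → a = 1 := by
      intro a ha hya
      apply hLY a ha
      apply hYc a (mem_inf.1 (hLM ha)).1
      intro y hy
      exact (hya y hy).symm
    have hnil : Group.IsNilpotent L := (fpf_sub (L := L) hs hY (fun y hy => hLn y (hYM hy)) hfixL).1 hLne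
    have hcardL : Nat.card L ≠ 1 := fun e => hLne (Subgroup.card_eq_one.1 e)
    obtain ⟨l, hl, hld⟩ := Nat.exists_prime_and_dvd hcardL
    have := Fact.mk hl
    have hcLL' : Nat.card L = Nat.card L' := (Nat.card_congr (L'.equivMapOfInjective _ M0.subtype_injective).toEquiv).symm
    have hls : l ≠ s := by
      rintro rfl
      rw [hcLL'] at hld
      exact hnd hld
    -- `l`-elements of `M0` are in `L`
    have hlL : ∀ x ∈ M0, (∃ k : ℕ, x ^ (l ^ k) = 1) → x ∈ L := by
      rintro x hx ⟨k, hk⟩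
      exact ⟨⟨x, hx⟩, hlL' _ l hl hls ⟨k, Subtype.ext hk⟩, rfl⟩
    obtain ⟨R, hR, hRp⟩ := exists_lpart hnil hl
    have hR' : ∀ x, x ∈ R ↔ x ∈ M0 ∧ ∃ k : ℕ, x ^ (l ^ k) = 1 := by
      intro x
      rw [hR]
      exact ⟨fun hx => ⟨hLM hx.1, hx.2⟩, fun hx => ⟨hlL x hx.1 hx.2, hx.2⟩⟩
    have hRne : R ≠ ⊥ := by
      intro e
      obtain ⟨d, hd⟩ := exists_prime_orderOf_dvd_card' l hld
      have h2 : (d : Q) ∈ R := (hR _).2 ⟨d.2, 1, by
        rw [pow_one]
        have := pow_orderOf_eq_one d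
        rw [hd] at this
        exact Subtype.ext_iff.1 this⟩
      rw [e, mem_bot] at h2
      have h3 : d = 1 := Subtype.ext h2
      rw [h3, orderOf_one] at hd
      exact hl.one_lt.ne hd
    have hRA : R ≤ A := fun x hx => (mem_inf.1 ((hR' x).1 hx).1).1
    -- `R` is a Sylow subgroup of `A`
    have hRA' : IsPGroup l (R.subgroupOf A) := hRp.of_equiv (Subgroup.subgroupOfEquivOfLe hRA).symm
    obtain ⟨P', hP'⟩ := hRA'.exists_le_sylow
    have hPR : (P' : Subgroup A).map A.subtype = R := by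
      apply h.sylow hcA hl hR' hRne
      · rintro _ ⟨y, _, rfl⟩
        exact y.2
      · exact P'.isPGroup'.map _
      · intro y hy
        exact ⟨⟨y, hRA hy⟩, hP' hy, rfl⟩
    have hcardR : Nat.card R = l ^ (Nat.card A).factorization l := by
      rw [← hPR, ← P'.card_eq_multiplicity]
      exact (Nat.card_congr ((P' : Subgroup A).equivMapOfInjective _ A.subtype_injective).toEquiv).symm
    have hRn : ∀ y ∈ Y, ∀ a ∈ R, y * a * y⁻¹ ∈ R := by
      intro y hy a ha
      rw [hR'] at ha ⊢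
      obtain ⟨ha1, k, hk⟩ := ha
      refine ⟨M0.mul_mem (M0.mul_mem (hYM hy) ha1) (M0.inv_mem (hYM hy)), k, ?_⟩
      rw [conj_pow, hk, mul_one, mul_inv_cancel]
    have hfix := (fpf_sub hs hY (L := R) hRn (by
      intro a ha hya
      apply hLY a ((hR a).1 ha).1
      apply hYc a (hRA ha)
      intro y hy
      exact (hya y hy).symm)).2
    refine hfrob l hl ?_ hls R hRA hRp hRn hRne ?_
    · exact hld.trans (Subgroup.card_dvd_of_le (hLM.trans inf_le_left))
    · rw [← hcardR]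
      exact hfix

end Cfsg.Agent.H765.EPS
end

-- part: H765/EPS/Abs
section
/-!
# `Sp₈(2)` as a point stabiliser: the group theoretic part (helper765)
-/

set_option autoImplicit false
set_option linter.unusedSectionVars false

namespace Cfsg.Agent.H765.EPS

open Subgroup Cfsg.Agent.H284

theorem card_sp {K : Type*} [Field K] [Fintype K] (hK : Fintype.card K = 2) :
    Nat.card (Matrix.symplecticGroup (Fin 4) K) = 2 ^ 16 * (3 ^ 5 * (5 ^ 2 * (7 * 17))) := by
  rw [Cfsg.Agent.S0245.result hK 4]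
  simp only [Finset.prod_range_succ, _root_.Nat.reducePow, _root_.Finset.range_one, _root_.Finset.prod_singleton, _root_.zero_add, _root_.mul_one, _root_.Nat.add_one_sub_one, _root_.Nat.reduceAdd, _root_.Nat.reduceMul]

theorem fact_aux (l e m : ℕ) (hl : l.Prime) (hm : ¬ l ∣ m) (hm0 : m ≠ 0) : (l ^ e * m).factorization l = e := by
  rw [Nat.factorization_mul (pow_ne_zero _ hl.ne_zero) hm0, Finsupp.add_apply, hl.factorization_pow,
    Finsupp.single_eq_same, Nat.factorization_eq_zero_of_not_dvd hm, add_zero]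

theorem pow_neg_one : ∀ m < 17, m ≠ 0 → m ≠ 1 → ∃ k < 16, m ^ k % 17 = 16 := by decide +kernel

theorem final_abs {K : Type*} [Field K] [Fintype K] (hK : Fintype.card K = 2) {Q : Type*} [Group Q] [Finite Q]
    {A : Subgroup Q} {Γ : Subgroup (MulAut Q)} (h : EPT A Γ)
    (hF : ∀ L : Subgroup Q, L ≤ A → (∀ σ ∈ Γ, ∀ k ∈ L, σ k ∈ L) → (∀ a ∈ L, ∀ b ∈ L, a * b = b * a) → L = ⊥)
    (ψ : Matrix.symplecticGroup (Fin 4) K →* Q) (hψ : Function.Injective ψ) (hr : ψ.range = A)
    {c : Q} (hc17 : c ^ 17 = 1) (hcA : c ∉ A) (hcy : c * ψ (Y0 K) = ψ (Y0 K) * c)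
    (hinv : ∀ g : Matrix.symplecticGroup (Fin 4) K, g * Y0 K * g⁻¹ = Y0 K ^ 16 → ψ g * c * (ψ g)⁻¹ = c⁻¹) : False := by
  have h17 : Nat.Prime 17 := by norm_num
  have hmem : ∀ a, a ∈ A ↔ ∃ g, ψ g = a := by
    intro a
    rw [← hr]
    exact MonoidHom.mem_range
  have hcardA : Nat.card A = 2 ^ 16 * (3 ^ 5 * (5 ^ 2 * (7 * 17))) := by
    rw [← card_sp hK, ← hr]
    exact (Nat.card_congr (MonoidHom.ofInjective hψ).toEquiv).symm
  have hord : orderOf (ψ (Y0 K)) = 17 := by rw [orderOf_injective ψ hψ, orderOf_Y0 hK]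
  have hY : Nat.card (zpowers (ψ (Y0 K))) = 17 := by rw [Nat.card_zpowers, hord]
  have hyA : ψ (Y0 K) ∈ A := (hmem _).2 ⟨_, rfl⟩
  have hYA : zpowers (ψ (Y0 K)) ≤ A := by rwa [zpowers_le]
  have hYc : ∀ a ∈ A, (∀ y ∈ zpowers (ψ (Y0 K)), a * y = y * a) → a ∈ zpowers (ψ (Y0 K)) := by
    intro a ha hay
    obtain ⟨g, rfl⟩ := (hmem a).1 ha
    have h1 := hay _ (mem_zpowers _)
    rw [← map_mul, ← map_mul] at h1
    obtain ⟨j, rfl⟩ := Y0_cent hK (hψ h1)
    rw [map_pow]
    exact pow_mem (mem_zpowers _) j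
  obtain ⟨u, hu, hun, huY⟩ := PS_norm' h hF h17 hYA hY hYc (by
    intro l hl hld hls R hRA hRp hRn hRne hmod
    rw [hcardA] at hld hmod
    have h1 : l = 2 ∨ l = 3 ∨ l = 5 ∨ l = 7 := by
      rcases (Nat.Prime.dvd_mul hl).1 hld with h1 | h1
      · left
        exact (Nat.prime_dvd_prime_iff_eq hl Nat.prime_two).1 (hl.dvd_of_dvd_pow h1)
      · rcases (Nat.Prime.dvd_mul hl).1 h1 with h1 | h1
        · right; left
          exact (Nat.prime_dvd_prime_iff_eq hl Nat.prime_three).1 (hl.dvd_of_dvd_pow h1)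
        · rcases (Nat.Prime.dvd_mul hl).1 h1 with h1 | h1
          · right; right; left
            exact (Nat.prime_dvd_prime_iff_eq hl Nat.prime_five).1 (hl.dvd_of_dvd_pow h1)
          · rcases (Nat.Prime.dvd_mul hl).1 h1 with h1 | h1
            · right; right; right
              exact (Nat.prime_dvd_prime_iff_eq hl (by norm_num)).1 h1
            · exact absurd ((Nat.prime_dvd_prime_iff_eq hl h17).1 h1) hls
    rcases h1 with rfl | rfl | rfl | rfl
    · -- the prime 2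
      apply hRne
      have h2 : R.comap ψ = ⊥ := by
        apply Y0_two hK
        · intro g
          obtain ⟨k, hk⟩ := hRp ⟨ψ g, g.2⟩
          refine ⟨k, Subtype.ext (hψ ?_)⟩
          have h3 : (ψ g) ^ 2 ^ k = 1 := Subtype.ext_iff.1 hk
          show ψ ((g : Matrix.symplecticGroup (Fin 4) K) ^ 2 ^ k) = ψ 1
          rw [map_pow, h3, map_one]
        · intro r hr'
          have h3 := hRn _ (inv_mem (mem_zpowers (ψ (Y0 K)))) _ hr'
          rw [mem_comap, map_mul, map_mul, map_inv]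
          rwa [inv_inv] at h3
      rw [Subgroup.eq_bot_iff_forall]
      intro a ha
      obtain ⟨g, rfl⟩ := (hmem a).1 (hRA ha)
      have h3 : g ∈ R.comap ψ := ha
      rw [h2, mem_bot] at h3
      rw [h3, map_one]
    · have h2 : (2 ^ 16 * (3 ^ 5 * (5 ^ 2 * (7 * 17)))) = 3 ^ 5 * (2 ^ 16 * (5 ^ 2 * (7 * 17))) := by norm_num
      rw [h2, fact_aux 3 5 _ Nat.prime_three (by norm_num) (by norm_num)] at hmod
      revert hmod
      decide
    · have h2 : (2 ^ 16 * (3 ^ 5 * (5 ^ 2 * (7 * 17)))) = 5 ^ 2 * (2 ^ 16 * (3 ^ 5 * (7 * 17))) := by norm_num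
      rw [h2, fact_aux 5 2 _ Nat.prime_five (by norm_num) (by norm_num)] at hmod
      revert hmod
      decide
    · have h2 : (2 ^ 16 * (3 ^ 5 * (5 ^ 2 * (7 * 17)))) = 7 ^ 1 * (2 ^ 16 * (3 ^ 5 * (5 ^ 2 * 17))) := by norm_num
      rw [h2, fact_aux 7 1 _ (by norm_num) (by norm_num) (by norm_num)] at hmod
      revert hmod
      decide) (c := c) (by
    rw [zpowers_le, mem_cj, mul_assoc, ← hcy, inv_mul_cancel_left]
    exact hyA) hcA
  obtain ⟨g, rfl⟩ := (hmem u).1 (mem_inf.1 hu).1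
  -- `g` acts on `⟨Y0⟩`
  obtain ⟨m, hm17, hm⟩ : ∃ m : ℕ, m < 17 ∧ g * Y0 K * g⁻¹ = Y0 K ^ m := by
    have h1 := hun _ (mem_zpowers _)
    obtain ⟨z, hz⟩ := mem_zpowers_iff.1 h1
    have h2 : g * Y0 K * g⁻¹ = Y0 K ^ z := by
      apply hψ
      rw [map_mul, map_mul, map_inv, map_zpow, hz]
    refine ⟨(z % 17).toNat, ?_, ?_⟩
    · have := Int.emod_lt_of_pos z (show (0 : ℤ) < 17 by norm_num)
      omega
    · rw [h2, ← zpow_natCast, Int.toNat_of_nonneg (Int.emod_nonneg z (by norm_num))]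
      have h3 := zpow_mod_orderOf (Y0 K) z
      rw [orderOf_Y0 hK] at h3
      exact h3.symm
  have hm0 : m ≠ 0 := by
    rintro rfl
    rw [pow_zero, mul_inv_eq_one] at hm
    have h1 : Y0 K = 1 := by
      have := mul_eq_left.1 hm
      exact this
    exact Y0_ne hK h1
  have hm1 : m ≠ 1 := by
    rintro rfl
    rw [pow_one, mul_inv_eq_iff_eq_mul] at hm
    obtain ⟨j, rfl⟩ := Y0_cent hK hm
    apply huY
    rw [map_pow]
    exact pow_mem (mem_zpowers _) j
  obtain ⟨k, _, hk⟩ := pow_neg_one m hm17 hm0 hm1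
  have hgk : ∀ k : ℕ, g ^ k * Y0 K * (g ^ k)⁻¹ = Y0 K ^ (m ^ k) := by
    intro k
    induction k with
    | zero => simp
    | succ k ih =>
      have e1 : g ^ (k + 1) * Y0 K * (g ^ (k + 1))⁻¹ = g * (g ^ k * Y0 K * (g ^ k)⁻¹) * g⁻¹ := by
        rw [pow_succ']; group
      rw [e1, ih, ← conj_pow, hm, ← pow_mul, pow_succ']
  have hgk16 : g ^ k * Y0 K * (g ^ k)⁻¹ = Y0 K ^ 16 := by
    rw [hgk, ← hk]
    have h3 := pow_mod_orderOf (Y0 K) (m ^ k)
    rw [orderOf_Y0 hK] at h3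
    exact h3.symm
  have hcu := hinv _ hgk16
  have huk : ψ (g ^ k) ∈ A ⊓ cj c A := by
    rw [map_pow]
    exact pow_mem hu k
  have h1 := mem_cj.1 (mem_inf.1 huk).2
  have h2 : (ψ (g ^ k))⁻¹ * (c⁻¹ * ψ (g ^ k) * c) ∈ A := A.mul_mem (A.inv_mem (mem_inf.1 huk).1) h1
  have h3 : (ψ (g ^ k))⁻¹ * (c⁻¹ * ψ (g ^ k) * c) = c ^ 2 := by
    rw [← hcu]
    have h4 : ψ (g ^ k) * c * (ψ (g ^ k))⁻¹ = c⁻¹ := hcu
    calc (ψ (g ^ k))⁻¹ * (ψ (g ^ k) * c * (ψ (g ^ k))⁻¹ * ψ (g ^ k) * c) = c * c := by group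
      _ = c ^ 2 := (pow_two c).symm
  rw [h3] at h2
  apply hcA
  have h5 : c = (c ^ 2) ^ 9 := by
    rw [← pow_mul]
    calc c = 1 * c := (one_mul c).symm
      _ = c ^ 17 * c := by rw [hc17]
      _ = c ^ (2 * 9) := by rw [← pow_succ]
  rw [h5]
  exact A.pow_mem h2 9

end Cfsg.Agent.H765.EPS
end

-- part: H765/EPS/Dich
section
/-!
# The modules of dimension 16 of `Sp₈(2)`: the weights of `3⁴` (helper765)
-/

set_option autoImplicit false
set_option linter.unusedSectionVars false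

namespace Cfsg.Agent.H765.EPS

variable {F V : Type*} [Field F] [AddCommGroup V] [Module F V]

/-- eigenspaces of `FF a b` -/
def KK (t : ℕ → Module.End F V) (a b : ℕ) : Bool → Submodule F V
  | true => LinearMap.ker (Rep.FF t a b + 1)
  | false => LinearMap.ker (Rep.FF t a b)

def XX (t : ℕ → Module.End F V) (b1 b2 b3 b4 : Bool) : Submodule F V :=
  (((⊤ ⊓ KK t 1 16 b1) ⊓ KK t 2 32 b2) ⊓ KK t 4 64 b3) ⊓ KK t 8 128 b4

/-- the submodule is invariant under `g` -/
def Inv (X : Submodule F V) (g : Module.End F V) : Prop := ∀ v ∈ X, g v ∈ X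

theorem Inv.top (g : Module.End F V) : Inv (⊤ : Submodule F V) g := fun _ _ => Submodule.mem_top

theorem Inv.inf {X Y : Submodule F V} {g : Module.End F V} (h1 : Inv X g) (h2 : Inv Y g) : Inv (X ⊓ Y) g :=
  fun v hv => ⟨h1 v hv.1, h2 v hv.2⟩

theorem Inv.add {X : Submodule F V} {g k : Module.End F V} (h1 : Inv X g) (h2 : Inv X k) : Inv X (g + k) :=
  fun v hv => X.add_mem (h1 v hv) (h2 v hv)

theorem Inv.mul {X : Submodule F V} {g k : Module.End F V} (h1 : Inv X g) (h2 : Inv X k) : Inv X (g * k) :=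
  fun v hv => h1 _ (h2 v hv)

theorem Inv.one {X : Submodule F V} : Inv X (1 : Module.End F V) := fun _ hv => hv

theorem Inv.ker {g k : Module.End F V} (h : g * k = k * g) : Inv (LinearMap.ker k) g := by
  intro v hv
  rw [LinearMap.mem_ker] at hv ⊢
  rw [← Module.End.mul_apply, ← h, Module.End.mul_apply, hv, map_zero]

theorem Inv.KK {t : ℕ → Module.End F V} {g : Module.End F V} {a b : ℕ} (h : g * Rep.FF t a b = Rep.FF t a b * g)
    (c : Bool) : Inv (KK t a b c) g := by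
  cases c
  · exact Inv.ker h
  · exact Inv.ker (by rw [mul_add, add_mul, h, mul_one, one_mul])

theorem Inv.NN {X : Submodule F V} {t : ℕ → Module.End F V} {a : ℕ} (h1 : Inv X (t a)) :
    Inv X (Rep.NN t a) := h1.add Inv.one

namespace Rep

variable {t : ℕ → Module.End F V} (h : Rep t)

include h

/-- `t a` commutes with `FF a b` -/
theorem tF {a b : ℕ} (ha : Ok a) : t a * FF t a b = FF t a b * t a := by
  unfold FF
  have h1 := h.sq a ha
  have e1 : t a * (t a * t b + t b * t a) = (t a * t a) * t b + t a * t b * t a := by noncomm_ring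
  have e2 : (t a * t b + t b * t a) * t a = t a * t b * t a + t b * (t a * t a) := by noncomm_ring
  rw [e1, e2, h1, one_mul, mul_one, add_comm]

omit h in
theorem tF' {a b c : ℕ} (h1 : t a * t b = t b * t a) (h2 : t a * t c = t c * t a) :
    t a * FF t b c = FF t b c * t a := by
  have c1 : Commute (t a) (t b) := h1
  have c2 : Commute (t a) (t c) := h2
  exact (c1.mul_right c2).add_right (c2.mul_right c1)

theorem KK_true {a b : ℕ} {v : V} (hv : v ∈ KK t a b true) : FF t a b v = v := by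
  have h1 : (FF t a b + 1) v = 0 := hv
  rw [LinearMap.add_apply, Module.End.one_apply] at h1
  have h2 := h.add_selfV v
  calc FF t a b v = FF t a b v + (v + v) := by rw [h2, add_zero]
    _ = (FF t a b v + v) + v := by rw [add_assoc]
    _ = v := by rw [h1, zero_add]

theorem splitF [FiniteDimensional F V] {a b : ℕ} (ha : Ok a) (hb : Ok b) (e : sf a b = true) (e' : sf b a = true)
    {X : Submodule F V} (hX : Inv X (FF t a b)) :
    Module.finrank F X = Module.finrank F (X ⊓ KK t a b true : Submodule F V) +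
      Module.finrank F (X ⊓ KK t a b false : Submodule F V) :=
  split h.add_selfV (h.FF_idem ha hb e e') hX

theorem stepF [FiniteDimensional F V] {a b : ℕ} (ha : Ok a) (hb : Ok b)
    {X : Submodule F V} (hXa : Inv X (t a)) (hXb : Inv X (t b)) (h1 : ∀ v ∈ X, FF t a b v = v) :
    Module.finrank F X = 2 * Module.finrank F (X ⊓ LinearMap.ker (NN t a) : Submodule F V) := by
  refine step (a := NN t a) (c := NN t b) (h.NN_sq ha) (h.NN_sq hb) hXa.NN hXb.NN ?_
  intro v hv
  have h2 := h.NN_anti a b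
  rw [← Module.End.mul_apply, ← Module.End.mul_apply, ← LinearMap.add_apply, h2]
  exact h1 v hv

/-- the transvections `1, 2, 4, 8, 16, 32, 64, 128` -/
theorem cc {a b : ℕ} (ha : Ok a := by decide) (hb : Ok b := by decide) (e : act a b = b := by decide) :
    t a * t b = t b * t a := h.comm_of ha hb e

theorem inv_XX {a : ℕ} (e1 : t a * FF t 1 16 = FF t 1 16 * t a) (e2 : t a * FF t 2 32 = FF t 2 32 * t a)
    (e3 : t a * FF t 4 64 = FF t 4 64 * t a) (e4 : t a * FF t 8 128 = FF t 8 128 * t a) (b1 b2 b3 b4 : Bool) :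
    Inv (XX t b1 b2 b3 b4) (t a) :=
  ((((Inv.top _).inf (Inv.KK e1 b1)).inf (Inv.KK e2 b2)).inf (Inv.KK e3 b3)).inf (Inv.KK e4 b4)

theorem inv_all {a : ℕ} (ha : a ∈ [1, 16, 2, 32, 4, 64, 8, 128]) (b1 b2 b3 b4 : Bool) : Inv (XX t b1 b2 b3 b4) (t a) := by
  have hok : Ok a := by
    have : ∀ a ∈ [1, 16, 2, 32, 4, 64, 8, 128], Ok a := by decide
    exact this a ha
  simp only [List.mem_cons, List.not_mem_nil, or_false] at ha
  rcases ha with rfl | rfl | rfl | rfl | rfl | rfl | rfl | rfl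
  · exact h.inv_XX (h.tF hok) (tF' h.cc h.cc) (tF' h.cc h.cc) (tF' h.cc h.cc) _ _ _ _
  · exact h.inv_XX (by rw [FF_symm]; exact h.tF hok) (tF' h.cc h.cc) (tF' h.cc h.cc) (tF' h.cc h.cc) _ _ _ _
  · exact h.inv_XX (tF' h.cc h.cc) (h.tF hok) (tF' h.cc h.cc) (tF' h.cc h.cc) _ _ _ _
  · exact h.inv_XX (tF' h.cc h.cc) (by rw [FF_symm]; exact h.tF hok) (tF' h.cc h.cc) (tF' h.cc h.cc) _ _ _ _
  · exact h.inv_XX (tF' h.cc h.cc) (tF' h.cc h.cc) (h.tF hok) (tF' h.cc h.cc) _ _ _ _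
  · exact h.inv_XX (tF' h.cc h.cc) (tF' h.cc h.cc) (by rw [FF_symm]; exact h.tF hok) (tF' h.cc h.cc) _ _ _ _
  · exact h.inv_XX (tF' h.cc h.cc) (tF' h.cc h.cc) (tF' h.cc h.cc) (h.tF hok) _ _ _ _
  · exact h.inv_XX (tF' h.cc h.cc) (tF' h.cc h.cc) (tF' h.cc h.cc) (by rw [FF_symm]; exact h.tF hok) _ _ _ _

/-- invariance of the partial intersections -/
theorem F_comm {a b c d : ℕ} (h1 : t a * t c = t c * t a) (h2 : t a * t d = t d * t a) (h3 : t b * t c = t c * t b)
    (h4 : t b * t d = t d * t b) : FF t a b * FF t c d = FF t c d * FF t a b := h.FF_comm h1 h2 h3 h4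

/-- the dimension of `V` is the sum of the sixteen dimensions -/
theorem sum16 [FiniteDimensional F V] : ∀ n : Bool → Bool → Bool → Bool → ℕ,
    (∀ b1 b2 b3 b4, n b1 b2 b3 b4 = Module.finrank F (XX t b1 b2 b3 b4)) →
    n true true true true + n true true true false + n true true false true + n true true false false +
    n true false true true + n true false true false + n true false false true + n true false false false +
    n false true true true + n false true true false + n false true false true + n false true false false +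
    n false false true true + n false false true false + n false false false true + n false false false false = 16 := by
  intro n hn
  have h0 : Module.finrank F (⊤ : Submodule F V) = 16 := by rw [finrank_top]; exact h.rank
  have s1 := h.splitF (a := 1) (b := 16) (by decide) (by decide) (by decide) (by decide) (Inv.top _)
  have s2 : ∀ b1, Module.finrank F (⊤ ⊓ KK t 1 16 b1 : Submodule F V) = _ := fun b1 =>
    h.splitF (a := 2) (b := 32) (by decide) (by decide) (by decide) (by decide) (X := ⊤ ⊓ KK t 1 16 b1)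
      ((Inv.top _).inf (Inv.KK (h.F_comm h.cc h.cc h.cc h.cc) b1))
  have s3 : ∀ b1 b2, Module.finrank F ((⊤ ⊓ KK t 1 16 b1) ⊓ KK t 2 32 b2 : Submodule F V) = _ := fun b1 b2 =>
    h.splitF (a := 4) (b := 64) (by decide) (by decide) (by decide) (by decide) (X := (⊤ ⊓ KK t 1 16 b1) ⊓ KK t 2 32 b2)
      (((Inv.top _).inf (Inv.KK (h.F_comm h.cc h.cc h.cc h.cc) b1)).inf (Inv.KK (h.F_comm h.cc h.cc h.cc h.cc) b2))
  have s4 : ∀ b1 b2 b3, Module.finrank F (((⊤ ⊓ KK t 1 16 b1) ⊓ KK t 2 32 b2) ⊓ KK t 4 64 b3 : Submodule F V) =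
      n b1 b2 b3 true + n b1 b2 b3 false := fun b1 b2 b3 => by
    rw [hn, hn]
    exact h.splitF (a := 8) (b := 128) (by decide) (by decide) (by decide) (by decide)
      (X := ((⊤ ⊓ KK t 1 16 b1) ⊓ KK t 2 32 b2) ⊓ KK t 4 64 b3)
      ((((Inv.top _).inf (Inv.KK (h.F_comm h.cc h.cc h.cc h.cc) b1)).inf
        (Inv.KK (h.F_comm h.cc h.cc h.cc h.cc) b2)).inf (Inv.KK (h.F_comm h.cc h.cc h.cc h.cc) b3))
  rw [s2, s2, s3, s3, s3, s3, s4, s4, s4, s4, s4, s4, s4, s4, h0] at s1
  omega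

/-- a unit permuting the idempotents -/
theorem perm_le [FiniteDimensional F V] {X Y : Submodule F V} (u : (Module.End F V)ˣ)
    (hXY : ∀ v ∈ X, (u : Module.End F V) v ∈ Y) : Module.finrank F X ≤ Module.finrank F Y := by
  have hinj : Function.Injective (u : Module.End F V) := by
    intro v w e
    have h1 := congrArg (((u⁻¹ : (Module.End F V)ˣ) : Module.End F V)) e
    rw [← Module.End.mul_apply, ← Module.End.mul_apply, Units.inv_mul, Module.End.one_apply, Module.End.one_apply] at h1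
    exact h1
  refine LinearMap.finrank_le_finrank_of_injective (f := (u : Module.End F V).restrict hXY) ?_
  intro v w e
  exact Subtype.ext (hinj (Subtype.ext_iff.1 e))

omit h in
theorem KK_map {u : (Module.End F V)ˣ} {a b c d : ℕ} (e : conjHom u (FF t a b) = FF t c d) {β : Bool} {v : V}
    (hv : v ∈ KK t a b β) : (u : Module.End F V) v ∈ KK t c d β := by
  rw [conjHom_apply, Units.mul_inv_eq_iff_eq_mul] at e
  cases β
  · show FF t c d ((u : Module.End F V) v) = 0
    rw [← Module.End.mul_apply, ← e, Module.End.mul_apply]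
    have h1 : FF t a b v = 0 := hv
    rw [h1, map_zero]
  · show (FF t c d + 1) ((u : Module.End F V) v) = 0
    rw [← Module.End.mul_apply, add_mul, ← e, one_mul]
    have h1 : (FF t a b + 1) v = 0 := hv
    rw [LinearMap.add_apply, Module.End.one_apply] at h1
    rw [LinearMap.add_apply, Module.End.mul_apply, ← map_add, h1, map_zero]

theorem s12_le [FiniteDimensional F V] (b1 b2 b3 b4 : Bool) :
    Module.finrank F (XX t b1 b2 b3 b4) ≤ Module.finrank F (XX t b2 b1 b3 b4) := by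
  refine h.perm_le (wu t [3, 48, 51]) ?_
  rintro v ⟨⟨⟨⟨_, h1⟩, h2⟩, h3⟩, h4⟩
  exact ⟨⟨⟨⟨Submodule.mem_top, KK_map (h.cjF (by decide) (by decide) (by decide) (by decide) (by decide)) h2⟩,
    KK_map (h.cjF (by decide) (by decide) (by decide) (by decide) (by decide)) h1⟩,
    KK_map (h.cjF (by decide) (by decide) (by decide) (by decide) (by decide)) h3⟩,
    KK_map (h.cjF (by decide) (by decide) (by decide) (by decide) (by decide)) h4⟩

theorem s23_le [FiniteDimensional F V] (b1 b2 b3 b4 : Bool) :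
    Module.finrank F (XX t b1 b2 b3 b4) ≤ Module.finrank F (XX t b1 b3 b2 b4) := by
  refine h.perm_le (wu t [6, 96, 102]) ?_
  rintro v ⟨⟨⟨⟨_, h1⟩, h2⟩, h3⟩, h4⟩
  exact ⟨⟨⟨⟨Submodule.mem_top, KK_map (h.cjF (by decide) (by decide) (by decide) (by decide) (by decide)) h1⟩,
    KK_map (h.cjF (by decide) (by decide) (by decide) (by decide) (by decide)) h3⟩,
    KK_map (h.cjF (by decide) (by decide) (by decide) (by decide) (by decide)) h2⟩,
    KK_map (h.cjF (by decide) (by decide) (by decide) (by decide) (by decide)) h4⟩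

theorem s34_le [FiniteDimensional F V] (b1 b2 b3 b4 : Bool) :
    Module.finrank F (XX t b1 b2 b3 b4) ≤ Module.finrank F (XX t b1 b2 b4 b3) := by
  refine h.perm_le (wu t [12, 192, 204]) ?_
  rintro v ⟨⟨⟨⟨_, h1⟩, h2⟩, h3⟩, h4⟩
  exact ⟨⟨⟨⟨Submodule.mem_top, KK_map (h.cjF (by decide) (by decide) (by decide) (by decide) (by decide)) h1⟩,
    KK_map (h.cjF (by decide) (by decide) (by decide) (by decide) (by decide)) h2⟩,
    KK_map (h.cjF (by decide) (by decide) (by decide) (by decide) (by decide)) h4⟩,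
    KK_map (h.cjF (by decide) (by decide) (by decide) (by decide) (by decide)) h3⟩

/-- dimension of `XX true true b3 b4` -/
theorem four_dvd [FiniteDimensional F V] (b3 b4 : Bool) :
    Module.finrank F (XX t true true b3 b4) =
      4 * Module.finrank F ((XX t true true b3 b4 ⊓ LinearMap.ker (NN t 1)) ⊓ LinearMap.ker (NN t 2) : Submodule F V) := by
  have hi := fun a ha => h.inv_all (a := a) ha true true b3 b4
  have hN : ∀ a b, t a * t b = t b * t a → t a * NN t b = NN t b * t a := by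
    intro a b e
    unfold NN
    rw [mul_add, add_mul, e, mul_one, one_mul]
  rw [h.stepF (a := 1) (b := 16) (by decide) (by decide) (hi 1 (by decide)) (hi 16 (by decide))
    (fun v hv => h.KK_true hv.1.1.1.2)]
  rw [h.stepF (a := 2) (b := 32) (by decide) (by decide) (X := XX t true true b3 b4 ⊓ LinearMap.ker (NN t 1))
    ((hi 2 (by decide)).inf (Inv.ker (hN _ _ h.cc))) ((hi 32 (by decide)).inf (Inv.ker (hN _ _ h.cc)))
    (fun v hv => h.KK_true hv.1.1.1.2)]
  ring

/-- dimension of `XX true true true b4` -/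
theorem eight_dvd [FiniteDimensional F V] (b4 : Bool) :
    Module.finrank F (XX t true true true b4) =
      8 * Module.finrank F (((XX t true true true b4 ⊓ LinearMap.ker (NN t 1)) ⊓ LinearMap.ker (NN t 2)) ⊓
        LinearMap.ker (NN t 4) : Submodule F V) := by
  have hi := fun a ha => h.inv_all (a := a) ha true true true b4
  have hN : ∀ a b, t a * t b = t b * t a → t a * NN t b = NN t b * t a := by
    intro a b e
    unfold NN
    rw [mul_add, add_mul, e, mul_one, one_mul]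
  rw [h.four_dvd, h.stepF (a := 4) (b := 64) (by decide) (by decide)
    (X := (XX t true true true b4 ⊓ LinearMap.ker (NN t 1)) ⊓ LinearMap.ker (NN t 2))
    (((hi 4 (by decide)).inf (Inv.ker (hN _ _ h.cc))).inf (Inv.ker (hN _ _ h.cc)))
    (((hi 64 (by decide)).inf (Inv.ker (hN _ _ h.cc))).inf (Inv.ker (hN _ _ h.cc)))
    (fun v hv => h.KK_true hv.1.1.1.2)]
  ring

/-- dimension of `XX true true true true` -/
theorem sixteen_dvd [FiniteDimensional F V] :
    Module.finrank F (XX t true true true true) =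
      16 * Module.finrank F ((((XX t true true true true ⊓ LinearMap.ker (NN t 1)) ⊓ LinearMap.ker (NN t 2)) ⊓
        LinearMap.ker (NN t 4)) ⊓ LinearMap.ker (NN t 8) : Submodule F V) := by
  have hi := fun a ha => h.inv_all (a := a) ha true true true true
  have hN : ∀ a b, t a * t b = t b * t a → t a * NN t b = NN t b * t a := by
    intro a b e
    unfold NN
    rw [mul_add, add_mul, e, mul_one, one_mul]
  rw [h.eight_dvd, h.stepF (a := 8) (b := 128) (by decide) (by decide)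
    (X := ((XX t true true true true ⊓ LinearMap.ker (NN t 1)) ⊓ LinearMap.ker (NN t 2)) ⊓ LinearMap.ker (NN t 4))
    ((((hi 8 (by decide)).inf (Inv.ker (hN _ _ h.cc))).inf (Inv.ker (hN _ _ h.cc))).inf (Inv.ker (hN _ _ h.cc)))
    ((((hi 128 (by decide)).inf (Inv.ker (hN _ _ h.cc))).inf (Inv.ker (hN _ _ h.cc))).inf (Inv.ker (hN _ _ h.cc)))
    (fun v hv => h.KK_true hv.1.1.1.2)]
  ring

/-- **The dichotomy.** -/
theorem dich [FiniteDimensional F V] : FF t 1 16 * FF t 2 32 = 0 ∨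
    (FF t 1 16 = 1 ∧ ∃ v : V, v ≠ 0 ∧ NN t 1 v = 0 ∧ NN t 2 v = 0 ∧ NN t 4 v = 0 ∧ NN t 8 v = 0) := by
  obtain ⟨n, hn⟩ : ∃ n : Bool → Bool → Bool → Bool → ℕ, ∀ b1 b2 b3 b4, n b1 b2 b3 b4 =
    Module.finrank F (XX t b1 b2 b3 b4) := ⟨_, fun _ _ _ _ => rfl⟩
  have hs := h.sum16 n hn
  have p12 : ∀ b1 b2 b3 b4, n b1 b2 b3 b4 ≤ n b2 b1 b3 b4 := fun b1 b2 b3 b4 => by rw [hn, hn]; exact h.s12_le _ _ _ _
  have p23 : ∀ b1 b2 b3 b4, n b1 b2 b3 b4 ≤ n b1 b3 b2 b4 := fun b1 b2 b3 b4 => by rw [hn, hn]; exact h.s23_le _ _ _ _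
  have p34 : ∀ b1 b2 b3 b4, n b1 b2 b3 b4 ≤ n b1 b2 b4 b3 := fun b1 b2 b3 b4 => by rw [hn, hn]; exact h.s34_le _ _ _ _
  obtain ⟨m2, h2⟩ : ∃ m, n true true false false = 4 * m := ⟨_, by rw [hn]; exact h.four_dvd _ _⟩
  obtain ⟨m3, h3⟩ : ∃ m, n true true true false = 8 * m := ⟨_, by rw [hn]; exact h.eight_dvd _⟩
  have h4 := h.sixteen_dvd
  rw [← hn] at h4
  have q1 := p23 true true false false
  have q2 := p34 true false true false
  have q3 := p12 true false true false
  have q4 := p12 true false false true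
  have q5 := p34 false true true false
  have q6 := p23 false true false true
  have r1 := p34 true true true false
  have r2 := p23 true true false true
  have r3 := p12 true false true true
  have r4 := p34 true true false true
  by_cases h5 : n true true true true = 0
  · left
    have h6 : n true true false false = 0 ∧ n true true true false = 0 ∧ n true true false true = 0 := by (clear * - hs h2 h3 q1 q2 q4 q6 r1 r2 r4; omega)
    have hX : ∀ b3 b4, XX t true true b3 b4 = ⊥ := by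
      intro b3 b4
      rw [← Submodule.finrank_eq_zero (R := F), ← hn]
      cases b3 <;> cases b4
      · exact h6.1
      · exact h6.2.2
      · exact h6.2.1
      · exact h5
    have hY : ((⊤ ⊓ KK t 1 16 true) ⊓ KK t 2 32 true : Submodule F V) = ⊥ := by
      rw [← Submodule.finrank_eq_zero (R := F)]
      have s3 := h.splitF (a := 4) (b := 64) (by decide) (by decide) (by decide) (by decide)
        (X := (⊤ ⊓ KK t 1 16 true) ⊓ KK t 2 32 true)
        (((Inv.top _).inf (Inv.KK (h.F_comm h.cc h.cc h.cc h.cc) _)).inf (Inv.KK (h.F_comm h.cc h.cc h.cc h.cc) _))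
      have s4 : ∀ b3, Module.finrank F (((⊤ ⊓ KK t 1 16 true) ⊓ KK t 2 32 true) ⊓ KK t 4 64 b3 : Submodule F V) = 0 :=
        fun b3 => by
        rw [h.splitF (a := 8) (b := 128) (by decide) (by decide) (by decide) (by decide)
          (X := ((⊤ ⊓ KK t 1 16 true) ⊓ KK t 2 32 true) ⊓ KK t 4 64 b3)
          ((((Inv.top _).inf (Inv.KK (h.F_comm h.cc h.cc h.cc h.cc) _)).inf
            (Inv.KK (h.F_comm h.cc h.cc h.cc h.cc) _)).inf (Inv.KK (h.F_comm h.cc h.cc h.cc h.cc) _))]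
        have e1 := hX b3 true
        have e2 := hX b3 false
        unfold XX at e1 e2
        rw [e1, e2, finrank_bot]
      rw [s3, s4, s4]
    have i1 := h.FF_idem (a := 1) (b := 16) (by decide) (by decide) (by decide) (by decide)
    have i2 := h.FF_idem (a := 2) (b := 32) (by decide) (by decide) (by decide) (by decide)
    have i3 : FF t 1 16 * FF t 2 32 = FF t 2 32 * FF t 1 16 := h.F_comm h.cc h.cc h.cc h.cc
    apply LinearMap.ext
    intro v
    rw [LinearMap.zero_apply, ← Submodule.mem_bot F, ← hY]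
    refine ⟨⟨Submodule.mem_top, ?_⟩, ?_⟩
    · show (FF t 1 16 + 1) ((FF t 1 16 * FF t 2 32) v) = 0
      rw [← Module.End.mul_apply, add_mul, ← mul_assoc, i1, one_mul, h.add_self, LinearMap.zero_apply]
    · show (FF t 2 32 + 1) ((FF t 1 16 * FF t 2 32) v) = 0
      rw [← Module.End.mul_apply, i3, add_mul, ← mul_assoc, i2, one_mul, h.add_self, LinearMap.zero_apply]
  · right
    have h6 : n true true true true = 16 := by (clear * - hs h4 h5; omega)
    have h7 : XX t true true true true = ⊤ := by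
      apply Submodule.eq_top_of_finrank_eq
      rw [← hn, h6, h.rank]
    constructor
    · apply LinearMap.ext
      intro v
      have hv : v ∈ XX t true true true true := by rw [h7]; exact Submodule.mem_top
      exact h.KK_true hv.1.1.1.2
    · have h8 : ((((XX t true true true true ⊓ LinearMap.ker (NN t 1)) ⊓ LinearMap.ker (NN t 2)) ⊓
        LinearMap.ker (NN t 4)) ⊓ LinearMap.ker (NN t 8) : Submodule F V) ≠ ⊥ := by
        intro e
        rw [e, finrank_bot] at h4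
        omega
      obtain ⟨v, hv, hv0⟩ := Submodule.exists_mem_ne_zero_of_ne_bot h8
      exact ⟨v, hv0, hv.1.1.1.2, hv.1.1.2, hv.1.2, hv.2⟩

end Rep

end Cfsg.Agent.H765.EPS
end

-- part: H765/EPS/CaseB
section
/-!
# The modules of dimension 16 of `Sp₈(2)`: the case of small weights (helper765)
-/

set_option autoImplicit false
set_option linter.unusedSectionVars false

namespace Cfsg.Agent.H765.EPS

variable {F V : Type*} [Field F] [AddCommGroup V] [Module F V]

/-- the nine generators -/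
def nine : List ℕ := [1, 16, 3, 32, 6, 64, 12, 128, 2]

/-- words moving `(2, 1)` -/
def wds : List (List ℕ) := [[], [17], [18, 16], [33, 32], [33, 32, 18, 16], [33, 32, 22, 16], [34], [34, 17], [34,
  18, 16], [34, 22, 16], [35, 18, 16], [35, 34, 17], [36, 32], [36, 32, 17], [39, 22, 16], [48, 32, 17], [49, 18, 16],
  [51, 33, 17], [51, 33, 18], [51, 33, 19], [51, 33, 21], [51, 48], [51, 48, 18], [51, 48, 18, 16], [51, 48, 20, 16],
  [52, 48, 18, 16], [85, 20], [85, 34, 20], [85, 54, 33, 20], [85, 61, 32, 20], [87, 80], [87, 80, 41, 32], [93, 80],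
  [93, 80, 34], [95, 61, 32, 20], [97, 96, 28, 16], [99, 52, 48], [99, 55, 48], [102, 36], [102, 36, 17], [110, 96],
  [110, 96, 17], [115, 82, 47], [115, 97, 31], [115, 112, 30, 16], [115, 112, 36, 32], [115, 112, 45, 32], [116, 37,
  36, 16], [116, 82, 37, 16], [117, 55, 22], [118, 52, 18, 16], [118, 55, 37], [125, 112, 36, 32], [126, 112, 18, 16],
  [153, 24], [153, 34, 24], [153, 36, 32, 24], [153, 58, 33, 24], [157, 62, 33, 24], [170, 40], [170, 40, 17], [170,
  85, 40, 20], [184, 41, 40, 16], [184, 146, 41, 16], [185, 59, 26], [186, 56, 18, 16], [186, 59, 41], [215, 110, 96,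
  20], [215, 121, 96, 20], [215, 188, 41, 20]]

/-- certificates for the generation -/
def certs : List (List ℕ) := [[1], [2], [3], [64, 6, 32, 2, 3, 32, 6, 16, 3, 32, 2, 64, 6, 32, 3, 16, 1], [16, 3,
  32, 2, 6, 32, 3, 16, 1], [6], [32, 2, 6, 32, 3], [128, 12, 64, 6, 32, 2, 3, 32, 6, 16, 3, 32, 2, 64, 12, 6, 64, 32,
  6, 3, 32, 2, 128, 12, 64, 6, 32, 3, 16], [16, 3, 32, 2, 6, 64, 32, 6, 3, 32, 2, 12, 64, 6, 32, 3, 16], [32, 6, 64,
  3, 32, 6, 16, 3, 32, 2, 12, 64, 6, 32, 3, 16, 1], [32, 2, 6, 64, 32, 6, 16, 3, 32, 2, 12, 64, 6, 32, 3, 16, 1],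
  [12], [64, 6, 32, 2, 12, 64, 6, 32, 3], [32, 2, 64, 3, 32, 6, 16, 3, 32, 2, 12, 64, 6, 32, 3, 16, 1], [64, 6, 16, 3,
  32, 2, 12, 64, 6, 32, 3, 16, 1], [16], [16, 1], [3, 16, 1], [3, 16], [3, 32, 2, 6, 32, 3, 16], [3, 32, 2, 6, 32, 3,
  16, 1], [32, 2, 6, 32, 3, 16, 1], [32, 2, 6, 32, 3, 16], [3, 32, 2, 6, 64, 32, 6, 3, 32, 2, 12, 64, 6, 32, 3, 16,
  1], [3, 32, 2, 6, 64, 32, 6, 3, 32, 2, 12, 64, 6, 32, 3, 16], [32, 2, 6, 64, 32, 6, 3, 32, 2, 12, 64, 6, 32, 3, 16],
  [32, 2, 6, 64, 32, 6, 3, 32, 2, 12, 64, 6, 32, 3, 16, 1], [64, 6, 32, 2, 12, 64, 6, 32, 3, 16, 1], [64, 6, 32, 2,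
  12, 64, 6, 32, 3, 16], [64, 6, 3, 32, 2, 12, 64, 6, 32, 3, 16], [64, 6, 3, 32, 2, 12, 64, 6, 32, 3, 16, 1], [32],
  [2, 32, 3], [2, 32], [32, 3], [2, 6, 32], [6, 32, 3], [6, 32], [2, 6, 32, 3], [2, 6, 64, 3, 32, 6, 16, 3, 32, 2, 12,
  64, 6, 32, 3, 16, 1], [6, 64, 32, 6, 16, 3, 32, 2, 12, 64, 6, 32, 3, 16, 1], [6, 64, 3, 32, 6, 16, 3, 32, 2, 12, 64,
  6, 32, 3, 16, 1], [2, 6, 64, 32, 6, 16, 3, 32, 2, 12, 64, 6, 32, 3, 16, 1], [64, 3, 32, 6, 16, 3, 32, 2, 12, 64, 6,
  32, 3, 16, 1], [2, 64, 32, 6, 16, 3, 32, 2, 12, 64, 6, 32, 3, 16, 1], [2, 64, 3, 32, 6, 16, 3, 32, 2, 12, 64, 6, 32,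
  3, 16, 1], [64, 32, 6, 16, 3, 32, 2, 12, 64, 6, 32, 3, 16, 1], [2, 32, 3, 16, 1], [2, 32, 3, 16], [32, 3, 16, 1],
  [32, 3, 16], [6, 32, 3, 16, 1], [6, 32, 3, 16], [2, 6, 32, 3, 16, 1], [2, 6, 32, 3, 16], [6, 64, 32, 6, 3, 32, 2,
  12, 64, 6, 32, 3, 16], [6, 64, 32, 6, 3, 32, 2, 12, 64, 6, 32, 3, 16, 1], [2, 6, 64, 32, 6, 3, 32, 2, 12, 64, 6, 32,
  3, 16], [2, 6, 64, 32, 6, 3, 32, 2, 12, 64, 6, 32, 3, 16, 1], [2, 64, 32, 6, 3, 32, 2, 12, 64, 6, 32, 3, 16], [2,
  64, 32, 6, 3, 32, 2, 12, 64, 6, 32, 3, 16, 1], [64, 32, 6, 3, 32, 2, 12, 64, 6, 32, 3, 16], [64, 32, 6, 3, 32, 2,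
  12, 64, 6, 32, 3, 16, 1], [64], [6, 32, 2, 64, 6, 32, 3], [32, 2, 3, 32, 6, 16, 3, 32, 2, 64, 6, 32, 3, 16, 1], [6,
  16, 3, 32, 2, 64, 6, 32, 3, 16, 1], [6, 32, 2, 3, 32, 6, 16, 3, 32, 2, 64, 6, 32, 3, 16, 1], [16, 3, 32, 2, 64, 6,
  32, 3, 16, 1], [64, 6], [32, 2, 64, 6, 32, 3], [6, 32, 2, 3, 32, 6, 16, 3, 32, 2, 12, 64, 6, 32, 3, 16, 1], [16, 3,
  32, 2, 12, 64, 6, 32, 3, 16, 1], [12, 64, 6], [32, 2, 12, 64, 6, 32, 3], [12, 64], [6, 32, 2, 12, 64, 6, 32, 3],
  [32, 2, 3, 32, 6, 16, 3, 32, 2, 12, 64, 6, 32, 3, 16, 1], [6, 16, 3, 32, 2, 12, 64, 6, 32, 3, 16, 1], [6, 32, 2, 64,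
  6, 32, 3, 16, 1], [6, 32, 2, 64, 6, 32, 3, 16], [6, 3, 32, 2, 64, 6, 32, 3, 16], [6, 3, 32, 2, 64, 6, 32, 3, 16, 1],
  [3, 32, 2, 64, 6, 32, 3, 16], [3, 32, 2, 64, 6, 32, 3, 16, 1], [32, 2, 64, 6, 32, 3, 16, 1], [32, 2, 64, 6, 32, 3,
  16], [3, 32, 2, 12, 64, 6, 32, 3, 16], [3, 32, 2, 12, 64, 6, 32, 3, 16, 1], [32, 2, 12, 64, 6, 32, 3, 16, 1], [32,
  2, 12, 64, 6, 32, 3, 16], [6, 32, 2, 12, 64, 6, 32, 3, 16, 1], [6, 32, 2, 12, 64, 6, 32, 3, 16], [6, 3, 32, 2, 12,
  64, 6, 32, 3, 16], [6, 3, 32, 2, 12, 64, 6, 32, 3, 16, 1], [3, 32, 6, 16, 3, 32, 2, 64, 6, 32, 3, 16, 1], [2, 32, 6,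
  16, 3, 32, 2, 64, 6, 32, 3, 16, 1], [2, 3, 32, 6, 16, 3, 32, 2, 64, 6, 32, 3, 16, 1], [32, 6, 16, 3, 32, 2, 64, 6,
  32, 3, 16, 1], [2, 64, 6, 32], [64, 6, 32, 3], [64, 6, 32], [2, 64, 6, 32, 3], [2, 12, 64, 6, 32], [12, 64, 6, 32,
  3], [12, 64, 6, 32], [2, 12, 64, 6, 32, 3], [3, 32, 6, 16, 3, 32, 2, 12, 64, 6, 32, 3, 16, 1], [2, 32, 6, 16, 3, 32,
  2, 12, 64, 6, 32, 3, 16, 1], [2, 3, 32, 6, 16, 3, 32, 2, 12, 64, 6, 32, 3, 16, 1], [32, 6, 16, 3, 32, 2, 12, 64, 6,
  32, 3, 16, 1], [2, 32, 6, 3, 32, 2, 64, 6, 32, 3, 16], [2, 32, 6, 3, 32, 2, 64, 6, 32, 3, 16, 1], [32, 6, 3, 32, 2,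
  64, 6, 32, 3, 16], [32, 6, 3, 32, 2, 64, 6, 32, 3, 16, 1], [64, 6, 32, 3, 16, 1], [64, 6, 32, 3, 16], [2, 64, 6, 32,
  3, 16, 1], [2, 64, 6, 32, 3, 16], [12, 64, 6, 32, 3, 16, 1], [12, 64, 6, 32, 3, 16], [2, 12, 64, 6, 32, 3, 16, 1],
  [2, 12, 64, 6, 32, 3, 16], [2, 32, 6, 3, 32, 2, 12, 64, 6, 32, 3, 16], [2, 32, 6, 3, 32, 2, 12, 64, 6, 32, 3, 16,
  1], [32, 6, 3, 32, 2, 12, 64, 6, 32, 3, 16], [32, 6, 3, 32, 2, 12, 64, 6, 32, 3, 16, 1], [128], [12, 64, 6, 32, 2,
  128, 12, 64, 6, 32, 3], [32, 2, 12, 64, 3, 32, 6, 16, 3, 32, 2, 128, 12, 64, 6, 32, 3, 16, 1], [12, 64, 6, 16, 3,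
  32, 2, 128, 12, 64, 6, 32, 3, 16, 1], [64, 6, 32, 2, 3, 32, 6, 16, 3, 32, 2, 64, 12, 6, 64, 32, 6, 3, 32, 2, 128,
  12, 64, 6, 32, 3, 16], [16, 3, 32, 2, 12, 6, 64, 32, 6, 3, 32, 2, 128, 12, 64, 6, 32, 3, 16], [12, 32, 6, 64, 3, 32,
  6, 16, 3, 32, 2, 128, 12, 64, 6, 32, 3, 16, 1], [32, 2, 12, 6, 64, 32, 6, 16, 3, 32, 2, 128, 12, 64, 6, 32, 3, 16,
  1], [12, 64, 6, 32, 2, 3, 32, 6, 16, 3, 32, 2, 64, 12, 6, 64, 32, 6, 3, 32, 2, 128, 12, 64, 6, 32, 3, 16], [16, 3,
  32, 2, 6, 64, 32, 6, 3, 32, 2, 128, 12, 64, 6, 32, 3, 16], [32, 6, 64, 3, 32, 6, 16, 3, 32, 2, 128, 12, 64, 6, 32,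
  3, 16, 1], [32, 2, 6, 64, 32, 6, 16, 3, 32, 2, 128, 12, 64, 6, 32, 3, 16, 1], [128, 12], [64, 6, 32, 2, 128, 12, 64,
  6, 32, 3], [32, 2, 64, 3, 32, 6, 16, 3, 32, 2, 128, 12, 64, 6, 32, 3, 16, 1], [64, 6, 16, 3, 32, 2, 128, 12, 64, 6,
  32, 3, 16, 1], [12, 64, 6, 32, 2, 128, 12, 64, 6, 32, 3, 16, 1], [12, 64, 6, 32, 2, 128, 12, 64, 6, 32, 3, 16], [12,
  64, 6, 3, 32, 2, 128, 12, 64, 6, 32, 3, 16], [12, 64, 6, 3, 32, 2, 128, 12, 64, 6, 32, 3, 16, 1], [3, 32, 2, 12, 6,
  64, 32, 6, 3, 32, 2, 128, 12, 64, 6, 32, 3, 16, 1], [3, 32, 2, 12, 6, 64, 32, 6, 3, 32, 2, 128, 12, 64, 6, 32, 3,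
  16], [32, 2, 12, 6, 64, 32, 6, 3, 32, 2, 128, 12, 64, 6, 32, 3, 16], [32, 2, 12, 6, 64, 32, 6, 3, 32, 2, 128, 12,
  64, 6, 32, 3, 16, 1], [3, 32, 2, 6, 64, 32, 6, 3, 32, 2, 128, 12, 64, 6, 32, 3, 16, 1], [3, 32, 2, 6, 64, 32, 6, 3,
  32, 2, 128, 12, 64, 6, 32, 3, 16], [32, 2, 6, 64, 32, 6, 3, 32, 2, 128, 12, 64, 6, 32, 3, 16], [32, 2, 6, 64, 32, 6,
  3, 32, 2, 128, 12, 64, 6, 32, 3, 16, 1], [64, 6, 32, 2, 128, 12, 64, 6, 32, 3, 16, 1], [64, 6, 32, 2, 128, 12, 64,
  6, 32, 3, 16], [64, 6, 3, 32, 2, 128, 12, 64, 6, 32, 3, 16], [64, 6, 3, 32, 2, 128, 12, 64, 6, 32, 3, 16, 1], [12,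
  64, 3, 32, 6, 16, 3, 32, 2, 128, 12, 64, 6, 32, 3, 16, 1], [2, 12, 64, 32, 6, 16, 3, 32, 2, 128, 12, 64, 6, 32, 3,
  16, 1], [2, 12, 64, 3, 32, 6, 16, 3, 32, 2, 128, 12, 64, 6, 32, 3, 16, 1], [12, 64, 32, 6, 16, 3, 32, 2, 128, 12,
  64, 6, 32, 3, 16, 1], [2, 12, 6, 64, 3, 32, 6, 16, 3, 32, 2, 128, 12, 64, 6, 32, 3, 16, 1], [12, 6, 64, 32, 6, 16,
  3, 32, 2, 128, 12, 64, 6, 32, 3, 16, 1], [12, 6, 64, 3, 32, 6, 16, 3, 32, 2, 128, 12, 64, 6, 32, 3, 16, 1], [2, 12,
  6, 64, 32, 6, 16, 3, 32, 2, 128, 12, 64, 6, 32, 3, 16, 1], [2, 6, 64, 3, 32, 6, 16, 3, 32, 2, 128, 12, 64, 6, 32, 3,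
  16, 1], [6, 64, 32, 6, 16, 3, 32, 2, 128, 12, 64, 6, 32, 3, 16, 1], [6, 64, 3, 32, 6, 16, 3, 32, 2, 128, 12, 64, 6,
  32, 3, 16, 1], [2, 6, 64, 32, 6, 16, 3, 32, 2, 128, 12, 64, 6, 32, 3, 16, 1], [64, 3, 32, 6, 16, 3, 32, 2, 128, 12,
  64, 6, 32, 3, 16, 1], [2, 64, 32, 6, 16, 3, 32, 2, 128, 12, 64, 6, 32, 3, 16, 1], [2, 64, 3, 32, 6, 16, 3, 32, 2,
  128, 12, 64, 6, 32, 3, 16, 1], [64, 32, 6, 16, 3, 32, 2, 128, 12, 64, 6, 32, 3, 16, 1], [2, 12, 64, 32, 6, 3, 32, 2,
  128, 12, 64, 6, 32, 3, 16], [2, 12, 64, 32, 6, 3, 32, 2, 128, 12, 64, 6, 32, 3, 16, 1], [12, 64, 32, 6, 3, 32, 2,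
  128, 12, 64, 6, 32, 3, 16], [12, 64, 32, 6, 3, 32, 2, 128, 12, 64, 6, 32, 3, 16, 1], [12, 6, 64, 32, 6, 3, 32, 2,
  128, 12, 64, 6, 32, 3, 16], [12, 6, 64, 32, 6, 3, 32, 2, 128, 12, 64, 6, 32, 3, 16, 1], [2, 12, 6, 64, 32, 6, 3, 32,
  2, 128, 12, 64, 6, 32, 3, 16], [2, 12, 6, 64, 32, 6, 3, 32, 2, 128, 12, 64, 6, 32, 3, 16, 1], [6, 64, 32, 6, 3, 32,
  2, 128, 12, 64, 6, 32, 3, 16], [6, 64, 32, 6, 3, 32, 2, 128, 12, 64, 6, 32, 3, 16, 1], [2, 6, 64, 32, 6, 3, 32, 2,
  128, 12, 64, 6, 32, 3, 16], [2, 6, 64, 32, 6, 3, 32, 2, 128, 12, 64, 6, 32, 3, 16, 1], [2, 64, 32, 6, 3, 32, 2, 128,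
  12, 64, 6, 32, 3, 16], [2, 64, 32, 6, 3, 32, 2, 128, 12, 64, 6, 32, 3, 16, 1], [64, 32, 6, 3, 32, 2, 128, 12, 64, 6,
  32, 3, 16], [64, 32, 6, 3, 32, 2, 128, 12, 64, 6, 32, 3, 16, 1], [6, 64, 12, 32, 6, 64, 3, 32, 6, 16, 3, 32, 2, 128,
  12, 64, 6, 32, 3, 16, 1], [6, 32, 2, 64, 12, 6, 64, 32, 6, 16, 3, 32, 2, 128, 12, 64, 6, 32, 3, 16, 1], [32, 2, 3,
  32, 6, 16, 3, 32, 2, 64, 12, 6, 64, 32, 6, 3, 32, 2, 128, 12, 64, 6, 32, 3, 16], [6, 16, 3, 32, 2, 64, 12, 6, 64,
  32, 6, 3, 32, 2, 128, 12, 64, 6, 32, 3, 16], [6, 32, 2, 3, 32, 6, 16, 3, 32, 2, 64, 12, 6, 64, 32, 6, 3, 32, 2, 128,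
  12, 64, 6, 32, 3, 16], [16, 3, 32, 2, 64, 12, 6, 64, 32, 6, 3, 32, 2, 128, 12, 64, 6, 32, 3, 16], [64, 12, 32, 6,
  64, 3, 32, 6, 16, 3, 32, 2, 128, 12, 64, 6, 32, 3, 16, 1], [32, 2, 64, 12, 6, 64, 32, 6, 16, 3, 32, 2, 128, 12, 64,
  6, 32, 3, 16, 1], [6, 32, 2, 3, 32, 6, 16, 3, 32, 2, 128, 12, 64, 6, 32, 3, 16, 1], [16, 3, 32, 2, 128, 12, 64, 6,
  32, 3, 16, 1], [128, 12, 64, 6], [32, 2, 128, 12, 64, 6, 32, 3], [128, 12, 64], [6, 32, 2, 128, 12, 64, 6, 32, 3],
  [32, 2, 3, 32, 6, 16, 3, 32, 2, 128, 12, 64, 6, 32, 3, 16, 1], [6, 16, 3, 32, 2, 128, 12, 64, 6, 32, 3, 16, 1], [6,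
  32, 2, 64, 12, 6, 64, 32, 6, 3, 32, 2, 128, 12, 64, 6, 32, 3, 16], [6, 32, 2, 64, 12, 6, 64, 32, 6, 3, 32, 2, 128,
  12, 64, 6, 32, 3, 16, 1], [6, 3, 32, 2, 64, 12, 6, 64, 32, 6, 3, 32, 2, 128, 12, 64, 6, 32, 3, 16, 1], [6, 3, 32, 2,
  64, 12, 6, 64, 32, 6, 3, 32, 2, 128, 12, 64, 6, 32, 3, 16], [3, 32, 2, 64, 12, 6, 64, 32, 6, 3, 32, 2, 128, 12, 64,
  6, 32, 3, 16, 1], [3, 32, 2, 64, 12, 6, 64, 32, 6, 3, 32, 2, 128, 12, 64, 6, 32, 3, 16], [32, 2, 64, 12, 6, 64, 32,
  6, 3, 32, 2, 128, 12, 64, 6, 32, 3, 16], [32, 2, 64, 12, 6, 64, 32, 6, 3, 32, 2, 128, 12, 64, 6, 32, 3, 16, 1], [3,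
  32, 2, 128, 12, 64, 6, 32, 3, 16], [3, 32, 2, 128, 12, 64, 6, 32, 3, 16, 1], [32, 2, 128, 12, 64, 6, 32, 3, 16, 1],
  [32, 2, 128, 12, 64, 6, 32, 3, 16], [6, 32, 2, 128, 12, 64, 6, 32, 3, 16, 1], [6, 32, 2, 128, 12, 64, 6, 32, 3, 16],
  [6, 3, 32, 2, 128, 12, 64, 6, 32, 3, 16], [6, 3, 32, 2, 128, 12, 64, 6, 32, 3, 16, 1], [3, 32, 6, 16, 3, 32, 2, 64,
  12, 6, 64, 32, 6, 3, 32, 2, 128, 12, 64, 6, 32, 3, 16], [2, 32, 6, 16, 3, 32, 2, 64, 12, 6, 64, 32, 6, 3, 32, 2,
  128, 12, 64, 6, 32, 3, 16], [2, 3, 32, 6, 16, 3, 32, 2, 64, 12, 6, 64, 32, 6, 3, 32, 2, 128, 12, 64, 6, 32, 3, 16],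
  [32, 6, 16, 3, 32, 2, 64, 12, 6, 64, 32, 6, 3, 32, 2, 128, 12, 64, 6, 32, 3, 16], [2, 64, 12, 6, 64, 3, 32, 6, 16,
  3, 32, 2, 128, 12, 64, 6, 32, 3, 16, 1], [64, 12, 6, 64, 32, 6, 16, 3, 32, 2, 128, 12, 64, 6, 32, 3, 16, 1], [64,
  12, 6, 64, 3, 32, 6, 16, 3, 32, 2, 128, 12, 64, 6, 32, 3, 16, 1], [2, 64, 12, 6, 64, 32, 6, 16, 3, 32, 2, 128, 12,
  64, 6, 32, 3, 16, 1], [2, 128, 12, 64, 6, 32], [128, 12, 64, 6, 32, 3], [128, 12, 64, 6, 32], [2, 128, 12, 64, 6,
  32, 3], [3, 32, 6, 16, 3, 32, 2, 128, 12, 64, 6, 32, 3, 16, 1], [2, 32, 6, 16, 3, 32, 2, 128, 12, 64, 6, 32, 3, 16,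
  1], [2, 3, 32, 6, 16, 3, 32, 2, 128, 12, 64, 6, 32, 3, 16, 1], [32, 6, 16, 3, 32, 2, 128, 12, 64, 6, 32, 3, 16, 1],
  [2, 32, 6, 3, 32, 2, 64, 12, 6, 64, 32, 6, 3, 32, 2, 128, 12, 64, 6, 32, 3, 16, 1], [2, 32, 6, 3, 32, 2, 64, 12, 6,
  64, 32, 6, 3, 32, 2, 128, 12, 64, 6, 32, 3, 16], [32, 6, 3, 32, 2, 64, 12, 6, 64, 32, 6, 3, 32, 2, 128, 12, 64, 6,
  32, 3, 16, 1], [32, 6, 3, 32, 2, 64, 12, 6, 64, 32, 6, 3, 32, 2, 128, 12, 64, 6, 32, 3, 16], [64, 12, 6, 64, 32, 6,
  3, 32, 2, 128, 12, 64, 6, 32, 3, 16], [64, 12, 6, 64, 32, 6, 3, 32, 2, 128, 12, 64, 6, 32, 3, 16, 1], [2, 64, 12, 6,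
  64, 32, 6, 3, 32, 2, 128, 12, 64, 6, 32, 3, 16], [2, 64, 12, 6, 64, 32, 6, 3, 32, 2, 128, 12, 64, 6, 32, 3, 16, 1],
  [128, 12, 64, 6, 32, 3, 16, 1], [128, 12, 64, 6, 32, 3, 16], [2, 128, 12, 64, 6, 32, 3, 16, 1], [2, 128, 12, 64, 6,
  32, 3, 16], [2, 32, 6, 3, 32, 2, 128, 12, 64, 6, 32, 3, 16], [2, 32, 6, 3, 32, 2, 128, 12, 64, 6, 32, 3, 16, 1],
  [32, 6, 3, 32, 2, 128, 12, 64, 6, 32, 3, 16], [32, 6, 3, 32, 2, 128, 12, 64, 6, 32, 3, 16, 1]]

/-- evaluation of a certificate -/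
def ev : List ℕ → ℕ
  | [] => 0
  | [x] => x
  | x :: l => act x (ev l)

theorem certs_ev : certs.map ev = (List.range 255).map (fun k => k + 1) := by decide +kernel

theorem certs_ok : ∀ l ∈ certs, l ≠ [] ∧ ∀ x ∈ l, x ∈ nine := by decide +kernel

theorem exists_cert {x : ℕ} (hx : Ok x) : ∃ l : List ℕ, (l ≠ [] ∧ ∀ y ∈ l, y ∈ nine) ∧ ev l = x := by
  have h1 : x ∈ (List.range 255).map (fun k => k + 1) := by
    rw [List.mem_map]
    refine ⟨x - 1, ?_, ?_⟩
    · rw [List.mem_range]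
      have := hx.2
      omega
    · have := hx.1
      omega
  rw [← certs_ev, List.mem_map] at h1
  obtain ⟨l, hl, e⟩ := h1
  exact ⟨l, certs_ok l hl, e⟩

theorem nine_ok : ∀ x ∈ nine, Ok x := by decide

theorem ev_ok : ∀ l : List ℕ, l ≠ [] → (∀ y ∈ l, y ∈ nine) → Ok (ev l)
  | [], h, _ => absurd rfl h
  | [x], _, h => nine_ok x (h x (by simp))
  | x :: y :: l, _, h => (nine_ok x (h x (by simp))).act
      (ev_ok (y :: l) (by simp) fun z hz => h z (List.mem_cons_of_mem _ hz))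

theorem star_cert : ∀ a ∈ nine, ∀ b ∈ nine, a ≠ b → sf a b = false →
    ∃ w ∈ wds, OkL w ∧ aw w 2 = a ∧ aw w 1 = b := by rewrite [aw15]; decide +kernel

namespace Rep

variable {t : ℕ → Module.End F V} (h : Rep t)

include h

/-- invariance under the nine generators suffices -/
theorem inv_of_nine {U : Submodule F V} (hU : ∀ x ∈ nine, Inv U (t x)) {x : ℕ} (hx : Ok x) : Inv U (t x) := by
  obtain ⟨l, ⟨h1, h2⟩, rfl⟩ := exists_cert hx
  clear hx
  induction l with
  | nil => exact absurd rfl h1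
  | cons a l ih =>
    cases l with
    | nil => exact hU a (h2 a (by simp))
    | cons b l =>
      have ha := h2 a (by simp)
      have h3 : ∀ y ∈ b :: l, y ∈ nine := fun z hz => h2 z (List.mem_cons_of_mem _ hz)
      have h4 := ih (by simp) h3
      show Inv U (t (act a (ev (b :: l))))
      rw [← h.cj _ _ (nine_ok a ha) (ev_ok _ (by simp) h3)]
      exact ((hU a ha).mul h4).mul (hU a ha)

theorem eq_of_FF {c d : ℕ} (hc : Ok c) (hd : Ok d) (e : sf c d = true) (e' : sf d c = true) {X : Module.End F V}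
    (hX : FF t c d * X = 0) : t c * X = t d * X := by
  have h1 : t c * t d * (1 + FF t c d) = 1 + FF t c d := by
    unfold FF
    have h2 := h.sq c hc
    have h3 := h.sq d hd
    have h4 := h.braid hc hd e e'
    have e1 : t c * t d * (1 + (t c * t d + t d * t c)) =
        t c * t d + (t c * t d * t c) * t d + t c * (t d * t d) * t c := by noncomm_ring
    have e2 : t d * t c * t d * t d = t d * t c := by rw [mul_assoc, h3, mul_one]
    rw [e1, h4, h3, mul_one, h2, e2]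
    abel
  have h2 : (1 + FF t c d) * X = X := by rw [add_mul, hX, one_mul, add_zero]
  have h3 : t c * (t d * X) = X := by
    conv_lhs => rw [← h2]
    rw [← mul_assoc, ← mul_assoc, h1, h2]
  calc t c * X = t c * (t c * (t d * X)) := by rw [h3]
    _ = t d * X := by rw [← mul_assoc, h.sq c hc, one_mul]

/-- the seven transvections of a totally isotropic 3-space -/
theorem seven_kill {X : Module.End F V} (h1 : FF t 1 208 * X = 0) (h2 : FF t 4 208 * X = 0) (h3 : FF t 8 208 * X = 0)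
    (h4 : FF t 13 208 * X = 0) (h5 : FF t 1 16 * X = 0) (h6 : FF t 5 16 * X = 0) (h7 : FF t 9 16 * X = 0)
    (h8 : FF t 12 64 * X = 0) (h9 : FF t 4 64 * X = 0) : t 1 * X = X := by
  have k1 := h.eq_of_FF (by decide) (by decide) (by decide) (by decide) h1
  have k2 := h.eq_of_FF (by decide) (by decide) (by decide) (by decide) h2
  have k3 := h.eq_of_FF (by decide) (by decide) (by decide) (by decide) h3
  have k4 := h.eq_of_FF (by decide) (by decide) (by decide) (by decide) h4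
  have k5 := h.eq_of_FF (by decide) (by decide) (by decide) (by decide) h5
  have k6 := h.eq_of_FF (by decide) (by decide) (by decide) (by decide) h6
  have k7 := h.eq_of_FF (by decide) (by decide) (by decide) (by decide) h7
  have k8 := h.eq_of_FF (by decide) (by decide) (by decide) (by decide) h8
  have k9 := h.eq_of_FF (by decide) (by decide) (by decide) (by decide) h9
  -- all seven are equal to `t 1 * X`
  have q4 : t 4 * X = t 1 * X := k2.trans k1.symm
  have q8 : t 8 * X = t 1 * X := k3.trans k1.symm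
  have q13 : t 13 * X = t 1 * X := k4.trans k1.symm
  have q5 : t 5 * X = t 1 * X := k6.trans k5.symm
  have q9 : t 9 * X = t 1 * X := k7.trans k5.symm
  have q12 : t 12 * X = t 1 * X := (k8.trans k9.symm).trans q4
  have hs : t 1 * (t 4 * (t 8 * (t 5 * (t 9 * (t 12 * (t 13 * X)))))) = X := by
    have := h.seven
    calc t 1 * (t 4 * (t 8 * (t 5 * (t 9 * (t 12 * (t 13 * X)))))) =
        (t 1 * t 4 * t 8 * t 5 * t 9 * t 12 * t 13) * X := by simp only [mul_assoc]
      _ = X := by rw [this, one_mul]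
  have p : ∀ a : ℕ, Ok a → t a * X = t 1 * X → t a * (t 1 * X) = X := by
    intro a ha e
    rw [← e, ← mul_assoc, h.sq a ha, one_mul]
  rw [q13, p 12 (by decide) q12, q9, p 5 (by decide) q5, q8, p 4 (by decide) q4] at hs
  exact hs

theorem seven' : t 2 * t 4 * t 8 * t 6 * t 10 * t 12 * t 14 = 1 := by
  have h1 := congrArg (conjHom (wu t [3, 48, 51])) h.seven
  simp only [map_mul, map_one] at h1
  rw [h.cjt (l := [3, 48, 51]) (y := 1) (z := 2) (by decide) (by decide) (by decide),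
    h.cjt (l := [3, 48, 51]) (y := 4) (z := 4) (by decide) (by decide) (by decide),
    h.cjt (l := [3, 48, 51]) (y := 8) (z := 8) (by decide) (by decide) (by decide),
    h.cjt (l := [3, 48, 51]) (y := 5) (z := 6) (by decide) (by decide) (by decide),
    h.cjt (l := [3, 48, 51]) (y := 9) (z := 10) (by decide) (by decide) (by decide),
    h.cjt (l := [3, 48, 51]) (y := 12) (z := 12) (by decide) (by decide) (by decide),
    h.cjt (l := [3, 48, 51]) (y := 13) (z := 14) (by decide) (by decide) (by decide)] at h1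
  exact h1

theorem seven_kill' {X : Module.End F V} (h1 : FF t 2 224 * X = 0) (h2 : FF t 4 224 * X = 0) (h3 : FF t 8 224 * X = 0)
    (h4 : FF t 14 224 * X = 0) (h5 : FF t 2 32 * X = 0) (h6 : FF t 6 32 * X = 0) (h7 : FF t 10 32 * X = 0)
    (h8 : FF t 12 64 * X = 0) (h9 : FF t 4 64 * X = 0) : t 2 * X = X := by
  have k1 := h.eq_of_FF (by decide) (by decide) (by decide) (by decide) h1
  have k2 := h.eq_of_FF (by decide) (by decide) (by decide) (by decide) h2
  have k3 := h.eq_of_FF (by decide) (by decide) (by decide) (by decide) h3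
  have k4 := h.eq_of_FF (by decide) (by decide) (by decide) (by decide) h4
  have k5 := h.eq_of_FF (by decide) (by decide) (by decide) (by decide) h5
  have k6 := h.eq_of_FF (by decide) (by decide) (by decide) (by decide) h6
  have k7 := h.eq_of_FF (by decide) (by decide) (by decide) (by decide) h7
  have k8 := h.eq_of_FF (by decide) (by decide) (by decide) (by decide) h8
  have k9 := h.eq_of_FF (by decide) (by decide) (by decide) (by decide) h9
  have q4 : t 4 * X = t 2 * X := k2.trans k1.symm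
  have q8 : t 8 * X = t 2 * X := k3.trans k1.symm
  have q13 : t 14 * X = t 2 * X := k4.trans k1.symm
  have q5 : t 6 * X = t 2 * X := k6.trans k5.symm
  have q9 : t 10 * X = t 2 * X := k7.trans k5.symm
  have q12 : t 12 * X = t 2 * X := (k8.trans k9.symm).trans q4
  have hs : t 2 * (t 4 * (t 8 * (t 6 * (t 10 * (t 12 * (t 14 * X)))))) = X := by
    have := h.seven'
    calc t 2 * (t 4 * (t 8 * (t 6 * (t 10 * (t 12 * (t 14 * X)))))) =
        (t 2 * t 4 * t 8 * t 6 * t 10 * t 12 * t 14) * X := by simp only [mul_assoc]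
      _ = X := by rw [this, one_mul]
  have p : ∀ a : ℕ, Ok a → t a * X = t 2 * X → t a * (t 2 * X) = X := by
    intro a ha e
    rw [← e, ← mul_assoc, h.sq a ha, one_mul]
  rw [q13, p 12 (by decide) q12, q9, p 6 (by decide) q5, q8, p 4 (by decide) q4] at hs
  exact hs

/-- `F₁ ≠ 0` -/
theorem FF_ne : FF t 1 16 ≠ 0 := by
  intro h0
  have key : ∀ (l : List ℕ) (c d : ℕ), OkL l → aw l 1 = c → aw l 16 = d → FF t c d * 1 = 0 := by
    intro l c d hl e1 e2
    rw [mul_one, ← h.cjF hl (by decide) (by decide) e1 e2, h0, map_zero]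
  have h1 := h.seven_kill (X := 1) (key [193, 1] _ _ (by decide) (by decide) (by decide))
    (key [209, 197, 17] _ _ (by decide) (by decide) (by decide))
    (key [209, 201, 17] _ _ (by decide) (by decide) (by decide))
    (key [205, 28, 16, 1] _ _ (by decide) (by decide) (by decide))
    (key [] _ _ (by decide) (by decide) (by decide)) (key [20, 16] _ _ (by decide) (by decide) (by decide))
    (key [24, 16] _ _ (by decide) (by decide) (by decide)) (key [88, 85, 5] _ _ (by decide) (by decide) (by decide))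
    (key [85, 80, 5] _ _ (by decide) (by decide) (by decide))
  rw [mul_one] at h1
  exact h.nt h1

/-- `N_a N_b N_a N_b = N_a N_b` -/
theorem NN_idem {a b : ℕ} (ha : Ok a) (hb : Ok b) (e : sf a b = true) (e' : sf b a = true) :
    NN t a * NN t b * (NN t a * NN t b) = NN t a * NN t b := by
  have h1 := h.FF_idem ha hb e e'
  have h2 : FF t a b * (1 + FF t a b) = 0 := by rw [mul_add, mul_one, h1, h.add_self]
  have h3 := h.eq_of_FF ha hb e e' h2
  have h4 : NN t a * NN t b * (1 + FF t a b) = 0 := by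
    have : NN t b * (1 + FF t a b) = NN t a * (1 + FF t a b) := by
      unfold NN
      rw [add_mul (t b), add_mul (t a), h3]
    rw [mul_assoc, this, ← mul_assoc, h.NN_sq ha, zero_mul]
  rw [mul_add, mul_one, ← h.NN_anti a b, mul_add] at h4
  have h5 : NN t a * NN t b * (NN t b * NN t a) = 0 := by
    rw [mul_assoc, ← mul_assoc (NN t b), h.NN_sq hb, zero_mul, mul_zero]
  rw [h5, add_zero] at h4
  have h6 := h.add_self (NN t a * NN t b)
  exact add_left_cancel (h4.trans h6.symm)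

section caseB

variable (hB : FF t 1 16 * FF t 2 32 = 0)

include hB

theorem B1 (l : List ℕ) (c d : ℕ) (hl : OkL l) (e1 : aw l 1 = c) (e2 : aw l 16 = d) (e3 : aw l 2 = 2)
    (e4 : aw l 32 = 32) : FF t c d * FF t 2 32 = 0 := by
  have h1 := congrArg (conjHom (wu t l)) hB
  rw [map_mul, map_zero, h.cjF hl (by decide) (by decide) e1 e2, h.cjF hl (by decide) (by decide) e3 e4] at h1
  exact h1

/-- `N₁ F₂ = 0` -/
theorem B3 : NN t 1 * FF t 2 32 = 0 := by
  have h1 := h.seven_kill (X := FF t 2 32)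
    (h.B1 hB [193, 1] _ _ (by decide) (by decide) (by decide) (by decide) (by decide))
    (h.B1 hB [209, 197, 17] _ _ (by decide) (by decide) (by decide) (by decide) (by decide))
    (h.B1 hB [209, 201, 17] _ _ (by decide) (by decide) (by decide) (by decide) (by decide))
    (h.B1 hB [205, 28, 16, 1] _ _ (by decide) (by decide) (by decide) (by decide) (by decide))
    hB (h.B1 hB [20, 16] _ _ (by decide) (by decide) (by decide) (by decide) (by decide))
    (h.B1 hB [24, 16] _ _ (by decide) (by decide) (by decide) (by decide) (by decide))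
    (h.B1 hB [88, 85, 5] _ _ (by decide) (by decide) (by decide) (by decide) (by decide))
    (h.B1 hB [85, 80, 5] _ _ (by decide) (by decide) (by decide) (by decide) (by decide))
  unfold NN
  rw [add_mul, h1, one_mul, h.add_self]

theorem B4 (l : List ℕ) (c d : ℕ) (hl : OkL l) (e1 : aw l 2 = c) (e2 : aw l 32 = d) (e3 : aw l 1 = 1)
    (e4 : t 1 * t c = t c * t 1) (e5 : t 1 * t d = t d * t 1) : FF t c d * NN t 1 = 0 := by
  have h1 := congrArg (conjHom (wu t l)) (h.B3 hB)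
  rw [map_mul, map_zero, h.cjF hl (by decide) (by decide) e1 e2, h.cjN hl (by decide) e3] at h1
  have h2 := tF' e4 e5
  have h3 : NN t 1 * FF t c d = FF t c d * NN t 1 := by
    unfold NN
    rw [add_mul, mul_add, h2, one_mul, mul_one]
  rw [← h3, h1]

/-- `N_a N_b = 0` for one orthogonal pair -/
theorem B6 : NN t 2 * NN t 1 = 0 := by
  have h1 := h.seven_kill' (X := NN t 1)
    (h.B4 hB [194, 2] _ _ (by decide) (by decide) (by decide) (by decide) h.cc h.cc)
    (h.B4 hB [226, 198, 34] _ _ (by decide) (by decide) (by decide) (by decide) h.cc h.cc)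
    (h.B4 hB [226, 202, 34] _ _ (by decide) (by decide) (by decide) (by decide) h.cc h.cc)
    (h.B4 hB [206, 44, 32, 2] _ _ (by decide) (by decide) (by decide) (by decide) h.cc h.cc)
    (h.B4 hB [] _ _ (by decide) (by decide) (by decide) (by decide) h.cc h.cc)
    (h.B4 hB [36, 32] _ _ (by decide) (by decide) (by decide) (by decide) h.cc h.cc)
    (h.B4 hB [40, 32] _ _ (by decide) (by decide) (by decide) (by decide) h.cc h.cc)
    (h.B4 hB [104, 102, 6] _ _ (by decide) (by decide) (by decide) (by decide) h.cc h.cc)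
    (h.B4 hB [102, 96, 6] _ _ (by decide) (by decide) (by decide) (by decide) h.cc h.cc)
  have h2 : NN t 2 * NN t 1 = t 2 * NN t 1 + NN t 1 := by
    conv_lhs => rw [show NN t 2 = t 2 + 1 from rfl, add_mul, one_mul]
  rw [h2, h1, h.add_self]

theorem star (l : List ℕ) {a b : ℕ} (hl : OkL l) (e1 : aw l 2 = a) (e2 : aw l 1 = b) : NN t a * NN t b = 0 := by
  have h1 := congrArg (conjHom (wu t l)) (h.B6 hB)
  rw [map_mul, map_zero, h.cjN hl (by decide) e1, h.cjN hl (by decide) e2] at h1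
  exact h1

theorem star9 {a b : ℕ} (ha : a ∈ nine) (hb : b ∈ nine) (hab : a ≠ b) (hf : sf a b = false) :
    NN t a * NN t b = 0 := by
  obtain ⟨w, _, h1, h2, h3⟩ := star_cert a ha b hb hab hf
  exact h.star hB w h1 h2 h3

/-- the relation between the two neighbours of `j` -/
theorem tri {i j k y : ℕ} (hi : Ok i) (hj : Ok j) (hy : Ok y) (e1 : act j i = i ^^^ j) (e2 : act y (i ^^^ j) = k)
    (hij : Ok (i ^^^ j)) (h1 : NN t y * NN t j = 0) (h2 : NN t j * NN t y = 0) :
    NN t j * NN t k * NN t j = NN t j * NN t i * NN t j := by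
  have c1 : t y * NN t j = NN t j := by
    have : NN t y * NN t j = t y * NN t j + NN t j := by
      conv_lhs => rw [show NN t y = t y + 1 from rfl, add_mul, one_mul]
    rw [this] at h1
    exact add_right_cancel (h1.trans (h.add_self (NN t j)).symm)
  have c2 : NN t j * t y = NN t j := by
    have : NN t j * NN t y = NN t j * t y + NN t j := by
      conv_lhs => rw [show NN t y = t y + 1 from rfl, mul_add, mul_one]
    rw [this] at h2
    exact add_right_cancel (h2.trans (h.add_self (NN t j)).symm)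
  have c3 : NN t j * t j = NN t j := by
    have h3 := h.NN_sq hj
    have : NN t j * NN t j = NN t j * t j + NN t j := by
      conv_lhs => rw [show NN t j * NN t j = NN t j * (t j + 1) from rfl, mul_add, mul_one]
    rw [this] at h3
    exact add_right_cancel (h3.trans (h.add_self (NN t j)).symm)
  have c4 : t j * NN t j = NN t j := by
    have h3 := h.NN_sq hj
    have : NN t j * NN t j = t j * NN t j + NN t j := by
      conv_lhs => rw [show NN t j * NN t j = (t j + 1) * NN t j from rfl, add_mul, one_mul]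
    rw [this] at h3
    exact add_right_cancel (h3.trans (h.add_self (NN t j)).symm)
  have c5 : NN t (i ^^^ j) = t j * NN t i * t j := by
    unfold NN
    rw [mul_add, add_mul, mul_one, h.sq j hj, h.cj j i hj hi, e1]
  have c6 : NN t k = t y * NN t (i ^^^ j) * t y := by
    unfold NN
    rw [mul_add, add_mul, mul_one, h.sq y hy, h.cj y _ hy hij, e2]
  rw [c6, c5]
  calc NN t j * (t y * (t j * NN t i * t j) * t y) * NN t j =
      ((NN t j * t y) * t j) * NN t i * (t j * (t y * NN t j)) := by simp only [mul_assoc]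
    _ = NN t j * NN t i * NN t j := by rw [c1, c2, c3, c4]

end caseB

end Rep

end Cfsg.Agent.H765.EPS
end

-- part: H765/EPS/CaseBEnd
section
/-!
# The modules of dimension 16 of `Sp₈(2)`: end of the case of small weights (helper765)
-/

set_option autoImplicit false
set_option linter.unusedSectionVars false

namespace Cfsg.Agent.H765.EPS

variable {F V : Type*} [Field F] [AddCommGroup V] [Module F V]

/-- the nine generators as a function -/
def xs9 : Fin 9 → ℕ := ![1, 16, 3, 32, 6, 64, 12, 128, 2]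

def edges9 : List (Fin 9 × Fin 9) :=
  [(0, 1), (1, 0), (1, 2), (2, 1), (2, 3), (3, 2), (3, 4), (4, 3), (4, 5), (5, 4), (5, 6), (6, 5), (6, 7), (7, 6), (3, 8), (8, 3)]

theorem xs9_mem : ∀ i, xs9 i ∈ nine := by decide

theorem xs9_inj : ∀ i j, xs9 i = xs9 j → i = j := by decide

theorem xs9_surj : ∀ x ∈ nine, ∃ i, xs9 i = x := by decide

theorem edges9_mem : ∀ i j, sf (xs9 i) (xs9 j) ≠ false → (i, j) ∈ edges9 := by decide +kernel

namespace Rep

variable {t : ℕ → Module.End F V} (h : Rep t)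

include h

theorem caseB_false [FiniteDimensional F V] (hB : FF t 1 16 * FF t 2 32 = 0) : False := by
  -- the first vector
  obtain ⟨v, hv⟩ : ∃ v : V, NN t 1 (NN t 16 v) ≠ 0 := by
    by_contra hcon
    push Not at hcon
    have h1 : NN t 1 * NN t 16 = 0 := LinearMap.ext hcon
    have h2 := h.NN_anti 1 16
    rw [h1, zero_add] at h2
    have h3 := h.FF_idem (a := 1) (b := 16) (by decide) (by decide) (by decide) (by decide)
    rw [← h2, mul_assoc, ← mul_assoc (NN t 1), h1, zero_mul, mul_zero] at h3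
    exact h.FF_ne (h2.symm.trans h3.symm)
  set v1 := NN t 1 (NN t 16 v) with hv1
  have e12 : NN t 1 (NN t 16 v1) = v1 := by
    have h1 := h.NN_idem (a := 1) (b := 16) (by decide) (by decide) (by decide) (by decide)
    have h2 := congrArg (fun f : Module.End F V => f v) h1
    exact h2
  have tr : ∀ i j k y : ℕ, Ok i → Ok j → Ok y → act j i = i ^^^ j → act y (i ^^^ j) = k → Ok (i ^^^ j) →
      NN t y * NN t j = 0 → NN t j * NN t y = 0 → ∀ w : V, NN t j (NN t k (NN t j w)) = NN t j (NN t i (NN t j w)) := by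
    intro i j k y hi hj hy e1 e2 hij h1 h2 w
    have := congrArg (fun f : Module.End F V => f w) (h.tri (k := k) hB hi hj hy e1 e2 hij h1 h2)
    exact this
  have es : ∀ (i j k : ℕ) (w : V), (∀ w : V, NN t j (NN t k (NN t j w)) = NN t j (NN t i (NN t j w))) →
      NN t i (NN t j w) = w → NN t j (NN t k (NN t j w)) = NN t j w := by
    intro i j k w h1 h2
    rw [h1, h2]
  have st : ∀ (l : List ℕ) {a b : ℕ}, OkL l → aw l 2 = a → aw l 1 = b → NN t a * NN t b = 0 :=
    fun l _ _ h1 h2 h3 => h.star hB l h1 h2 h3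
  have t123 := tr 1 16 3 18 (by decide) (by decide) (by decide) (by decide) (by decide) (by decide)
    (st [48, 32, 17] (by decide) (by decide) (by decide)) (st [51, 33, 19] (by decide) (by decide) (by decide))
  have t234 := tr 16 3 32 51 (by decide) (by decide) (by decide) (by decide) (by decide) (by decide)
    (st [49, 18, 16] (by decide) (by decide) (by decide)) (st [35, 34, 17] (by decide) (by decide) (by decide))
  have t345 := tr 3 32 6 37 (by decide) (by decide) (by decide) (by decide) (by decide) (by decide)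
    (st [39, 22, 16] (by decide) (by decide) (by decide)) (st [34, 22, 16] (by decide) (by decide) (by decide))
  have t349 := tr 3 32 2 33 (by decide) (by decide) (by decide) (by decide) (by decide) (by decide)
    (st [35, 18, 16] (by decide) (by decide) (by decide)) (st [34, 18, 16] (by decide) (by decide) (by decide))
  have t456 := tr 32 6 64 102 (by decide) (by decide) (by decide) (by decide) (by decide) (by decide)
    (st [99, 55, 48] (by decide) (by decide) (by decide)) (st [99, 52, 48] (by decide) (by decide) (by decide))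
  have t567 := tr 6 64 12 74 (by decide) (by decide) (by decide) (by decide) (by decide) (by decide)
    (st [85, 61, 32, 20] (by decide) (by decide) (by decide)) (st [95, 61, 32, 20] (by decide) (by decide) (by decide))
  have t678 := tr 64 12 128 204 (by decide) (by decide) (by decide) (by decide) (by decide) (by decide)
    (st [215, 121, 96, 20] (by decide) (by decide) (by decide)) (st [215, 110, 96, 20] (by decide) (by decide) (by decide))
  clear tr st
  obtain ⟨v2, hv2⟩ : ∃ x, x = NN t 16 v1 := ⟨_, rfl⟩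
  obtain ⟨v3, hv3⟩ : ∃ x, x = NN t 3 v2 := ⟨_, rfl⟩
  obtain ⟨v4, hv4⟩ : ∃ x, x = NN t 32 v3 := ⟨_, rfl⟩
  obtain ⟨v5, hv5⟩ : ∃ x, x = NN t 6 v4 := ⟨_, rfl⟩
  obtain ⟨v6, hv6⟩ : ∃ x, x = NN t 64 v5 := ⟨_, rfl⟩
  obtain ⟨v7, hv7⟩ : ∃ x, x = NN t 12 v6 := ⟨_, rfl⟩
  obtain ⟨v8, hv8⟩ : ∃ x, x = NN t 128 v7 := ⟨_, rfl⟩
  obtain ⟨v9, hv9⟩ : ∃ x, x = NN t 2 v4 := ⟨_, rfl⟩
  have e23 : NN t 16 (NN t 3 v2) = v2 := by rw [hv2]; exact es 1 16 3 v1 t123 e12
  have e34 : NN t 3 (NN t 32 v3) = v3 := by rw [hv3]; exact es 16 3 32 v2 t234 e23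
  have e45 : NN t 32 (NN t 6 v4) = v4 := by rw [hv4]; exact es 3 32 6 v3 t345 e34
  have e49 : NN t 32 (NN t 2 v4) = v4 := by rw [hv4]; exact es 3 32 2 v3 t349 e34
  have e56 : NN t 6 (NN t 64 v5) = v5 := by rw [hv5]; exact es 32 6 64 v4 t456 e45
  have e67 : NN t 64 (NN t 12 v6) = v6 := by rw [hv6]; exact es 6 64 12 v5 t567 e56
  have e78 : NN t 12 (NN t 128 v7) = v7 := by rw [hv7]; exact es 64 12 128 v6 t678 e67
  let vs : Fin 9 → V := ![v1, v2, v3, v4, v5, v6, v7, v8, v9]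
  have hr : ∀ j, ∃ w, vs j = NN t (xs9 j) w := by
    intro j
    fin_cases j
    · exact ⟨_, hv1⟩
    · exact ⟨_, hv2⟩
    · exact ⟨_, hv3⟩
    · exact ⟨_, hv4⟩
    · exact ⟨_, hv5⟩
    · exact ⟨_, hv6⟩
    · exact ⟨_, hv7⟩
    · exact ⟨_, hv8⟩
    · exact ⟨_, hv9⟩
  have hP : ∀ i j : Fin 9, NN t (xs9 i) (vs j) = 0 ∨ NN t (xs9 i) (vs j) = vs i := by
    intro i j
    by_cases hij : i = j
    · left
      subst hij
      obtain ⟨w, hw⟩ := hr i
      rw [hw, ← Module.End.mul_apply, h.NN_sq (nine_ok _ (xs9_mem i)), LinearMap.zero_apply]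
    · by_cases hs : sf (xs9 i) (xs9 j) = false
      · left
        obtain ⟨w, hw⟩ := hr j
        rw [hw, ← Module.End.mul_apply, h.star9 hB (xs9_mem i) (xs9_mem j) (fun e => hij (xs9_inj _ _ e)) hs,
          LinearMap.zero_apply]
      · right
        have h1 := edges9_mem i j hs
        unfold edges9 at h1
        simp only [List.mem_cons, Prod.mk.injEq, List.not_mem_nil, or_false] at h1
        rcases h1 with ⟨rfl, rfl⟩ | ⟨rfl, rfl⟩ | ⟨rfl, rfl⟩ | ⟨rfl, rfl⟩ | ⟨rfl, rfl⟩ | ⟨rfl, rfl⟩ | ⟨rfl, rfl⟩ |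
          ⟨rfl, rfl⟩ | ⟨rfl, rfl⟩ | ⟨rfl, rfl⟩ | ⟨rfl, rfl⟩ | ⟨rfl, rfl⟩ | ⟨rfl, rfl⟩ | ⟨rfl, rfl⟩ | ⟨rfl, rfl⟩ |
          ⟨rfl, rfl⟩
        · show NN t 1 v2 = v1
          rw [hv2]; exact e12
        · exact hv2.symm
        · show NN t 16 v3 = v2
          rw [hv3]; exact e23
        · exact hv3.symm
        · show NN t 3 v4 = v3
          rw [hv4]; exact e34
        · exact hv4.symm
        · show NN t 32 v5 = v4
          rw [hv5]; exact e45
        · exact hv5.symm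
        · show NN t 6 v6 = v5
          rw [hv6]; exact e56
        · exact hv6.symm
        · show NN t 64 v7 = v6
          rw [hv7]; exact e67
        · exact hv7.symm
        · show NN t 12 v8 = v7
          rw [hv8]; exact e78
        · exact hv8.symm
        · show NN t 32 v9 = v4
          rw [hv9]; exact e49
        · exact hv9.symm
  let U : Submodule F V := Submodule.span F (Set.range vs)
  have hmem : ∀ j, vs j ∈ U := fun j => Submodule.subset_span ⟨j, rfl⟩
  have hU : ∀ x, Ok x → ∀ u ∈ U, t x u ∈ U := by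
    intro x hx
    refine h.inv_of_nine (U := U) ?_ hx
    intro x hx
    obtain ⟨i, rfl⟩ := xs9_surj x hx
    have h1 : ∀ u ∈ U, NN t (xs9 i) u ∈ U := by
      intro u hu
      have h2 : U.map (NN t (xs9 i)) ≤ U := by
        rw [Submodule.map_span, Submodule.span_le]
        rintro _ ⟨_, ⟨j, rfl⟩, rfl⟩
        rcases hP i j with e | e
        · rw [e]; exact U.zero_mem
        · rw [e]; exact hmem i
      exact h2 ⟨u, hu, rfl⟩
    intro u hu
    have h2 : t (xs9 i) u = NN t (xs9 i) u + u := by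
      show _ = (t (xs9 i) + 1) u + u
      rw [LinearMap.add_apply, Module.End.one_apply, add_assoc, h.add_selfV, add_zero]
    rw [h2]
    exact U.add_mem (h1 u hu) hu
  have hfr : Module.finrank F U ≤ 9 := by
    have h1 := finrank_range_le_card (R := F) vs
    rw [Fintype.card_fin] at h1
    exact h1
  rcases h.irr U hU with h1 | h1
  · have h2 := hmem 0
    rw [h1, Submodule.mem_bot] at h2
    exact hv h2
  · rw [h1, finrank_top, h.rank] at hfr
    omega

/-- **Only the case `F = 1`.** -/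
theorem caseA [FiniteDimensional F V] : FF t 1 16 = 1 ∧
    ∃ v : V, v ≠ 0 ∧ NN t 1 v = 0 ∧ NN t 2 v = 0 ∧ NN t 4 v = 0 ∧ NN t 8 v = 0 := by
  rcases h.dich with h1 | h1
  · exact (h.caseB_false h1).elim
  · exact h1

end Rep

end Cfsg.Agent.H765.EPS
end

-- part: H765/EPS/Fock
section
/-!
# The modules of dimension 16 of `Sp₈(2)`: the Fock space (helper765)
-/

set_option autoImplicit false
set_option linter.unusedSectionVars false
set_option linter.unusedSimpArgs false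

namespace Cfsg.Agent.H765.EPS

variable {F V : Type*} [Field F] [AddCommGroup V] [Module F V]

/-- the vector with the support `m` -/
def phi (C : ℕ → V) (m : ℕ) : V := ∑ S ∈ Finset.range 16, if m.testBit S = true then C S else 0

theorem phi_xor (h2 : ∀ v : V, v + v = 0) (C : ℕ → V) (m n : ℕ) : phi C (m ^^^ n) = phi C m + phi C n := by
  unfold phi
  rw [← Finset.sum_add_distrib]
  refine Finset.sum_congr rfl fun S _ => ?_
  rw [Nat.testBit_xor]
  cases m.testBit S <;> cases n.testBit S <;> simp [h2]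

theorem phi_c0 {C : ℕ → V} {c : Module.End F V}
    (hC : ∀ S < 16, c (C S) = if S.testBit 0 = true then 0 else C (S + 1))
    (m : ℕ) : c (phi C m) = phi C ((m &&& 21845) <<< 1) := by
  unfold phi
  rw [map_sum]
  have h1 : ∀ S ∈ Finset.range 16, c (if m.testBit S = true then C S else 0) =
      if m.testBit S = true then (if S.testBit 0 = true then 0 else C (S + 1)) else 0 := by
    intro S hS
    rw [← hC S (Finset.mem_range.1 hS)]
    split_ifs <;> simp only [_root_.map_zero]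
  rw [Finset.sum_congr rfl h1]
  simp only [Finset.sum_range_succ, Finset.sum_range_zero, Nat.testBit_shiftLeft, Nat.testBit_and]
  simp only [Nat.testBit, _root_.Nat.shiftRight_zero, _root_.Nat.one_and_eq_mod_two, _root_.Nat.mod_two_bne_zero, _root_.beq_iff_eq, _root_.Nat.and_zero, _root_.bne_self_eq_false, _root_.Bool.false_eq_true, ↓ _root_.reduceIte, _root_.zero_add, _root_.Nat.and_self, _root_.Nat.reduceBNe, _root_.ite_self, _root_.add_zero, _root_.Nat.mod_self, _root_.Nat.reduceAdd, _root_.Nat.reduceMod, _root_.ge_iff_le, _root_.nonpos_iff_eq_zero, _root_.one_ne_zero, _root_.decide_false, _root_.zero_tsub, _root_.Bool.and_true, _root_.Bool.false_and, _root_.Std.le_refl, _root_.decide_true, _root_.tsub_self, _root_.Bool.true_and, _root_.Nat.one_le_ofNat, _root_.Nat.add_one_sub_one, _root_.Nat.reduceShiftRight, _root_.Bool.and_false]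

theorem phi_a0 {C : ℕ → V} {c : Module.End F V}
    (hC : ∀ S < 16, c (C S) = if S.testBit 0 = true then C (S - 1) else 0)
    (m : ℕ) : c (phi C m) = phi C ((m >>> 1) &&& 21845) := by
  unfold phi
  rw [map_sum]
  have h1 : ∀ S ∈ Finset.range 16, c (if m.testBit S = true then C S else 0) =
      if m.testBit S = true then (if S.testBit 0 = true then C (S - 1) else 0) else 0 := by
    intro S hS
    rw [← hC S (Finset.mem_range.1 hS)]
    split_ifs <;> simp only [_root_.map_zero]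
  rw [Finset.sum_congr rfl h1]
  simp only [Finset.sum_range_succ, Finset.sum_range_zero, Nat.testBit_shiftRight, Nat.testBit_and]
  simp only [Nat.testBit, _root_.Nat.shiftRight_zero, _root_.Nat.one_and_eq_mod_two, _root_.Nat.mod_two_bne_zero, _root_.beq_iff_eq, _root_.Nat.and_zero, _root_.bne_self_eq_false, _root_.Bool.false_eq_true, ↓ _root_.reduceIte, _root_.ite_self, _root_.add_zero, _root_.Nat.and_self, _root_.Nat.reduceBNe, _root_.tsub_self, _root_.zero_add, _root_.Nat.mod_self, _root_.Nat.reduceMod, _root_.Nat.add_one_sub_one, _root_.Bool.and_true, _root_.Nat.reduceAdd, _root_.Nat.reduceShiftRight, _root_.Bool.and_false]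

theorem phi_c1 {C : ℕ → V} {c : Module.End F V}
    (hC : ∀ S < 16, c (C S) = if S.testBit 1 = true then 0 else C (S + 2))
    (m : ℕ) : c (phi C m) = phi C ((m &&& 13107) <<< 2) := by
  unfold phi
  rw [map_sum]
  have h1 : ∀ S ∈ Finset.range 16, c (if m.testBit S = true then C S else 0) =
      if m.testBit S = true then (if S.testBit 1 = true then 0 else C (S + 2)) else 0 := by
    intro S hS
    rw [← hC S (Finset.mem_range.1 hS)]
    split_ifs <;> simp only [_root_.map_zero]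
  rw [Finset.sum_congr rfl h1]
  simp only [Finset.sum_range_succ, Finset.sum_range_zero, Nat.testBit_shiftLeft, Nat.testBit_and]
  simp only [Nat.testBit, _root_.Nat.shiftRight_zero, _root_.Nat.one_and_eq_mod_two, _root_.Nat.mod_two_bne_zero, _root_.beq_iff_eq, _root_.Nat.zero_shiftRight, _root_.Nat.and_zero, _root_.bne_self_eq_false, _root_.Bool.false_eq_true, ↓ _root_.reduceIte, _root_.zero_add, _root_.Nat.reduceShiftRight, _root_.Nat.reduceAdd, _root_.Nat.and_self, _root_.Nat.reduceBNe, _root_.ite_self, _root_.add_zero, _root_.Nat.mod_self, _root_.Nat.reduceMod, _root_.ge_iff_le, _root_.nonpos_iff_eq_zero, _root_.OfNat.ofNat_ne_zero, _root_.decide_false, _root_.zero_tsub, _root_.Bool.and_true, _root_.Bool.false_and, _root_.Nat.not_ofNat_le_one, _root_.Nat.one_le_ofNat, _root_.Nat.sub_eq_zero_of_le, _root_.Std.le_refl, _root_.decide_true, _root_.tsub_self, _root_.Bool.true_and, _root_.Nat.reduceLeDiff, _root_.Nat.reduceSub, _root_.Bool.and_false]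

theorem phi_a1 {C : ℕ → V} {c : Module.End F V}
    (hC : ∀ S < 16, c (C S) = if S.testBit 1 = true then C (S - 2) else 0)
    (m : ℕ) : c (phi C m) = phi C ((m >>> 2) &&& 13107) := by
  unfold phi
  rw [map_sum]
  have h1 : ∀ S ∈ Finset.range 16, c (if m.testBit S = true then C S else 0) =
      if m.testBit S = true then (if S.testBit 1 = true then C (S - 2) else 0) else 0 := by
    intro S hS
    rw [← hC S (Finset.mem_range.1 hS)]
    split_ifs <;> simp only [_root_.map_zero]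
  rw [Finset.sum_congr rfl h1]
  simp only [Finset.sum_range_succ, Finset.sum_range_zero, Nat.testBit_shiftRight, Nat.testBit_and]
  simp only [Nat.testBit, _root_.Nat.shiftRight_zero, _root_.Nat.one_and_eq_mod_two, _root_.Nat.mod_two_bne_zero, _root_.beq_iff_eq, _root_.Nat.zero_shiftRight, _root_.Nat.and_zero, _root_.bne_self_eq_false, _root_.Bool.false_eq_true, ↓ _root_.reduceIte, _root_.ite_self, _root_.add_zero, _root_.Nat.reduceShiftRight, _root_.Nat.and_self, _root_.Nat.reduceBNe, _root_.tsub_self, _root_.zero_add, _root_.Nat.reduceSub, _root_.Nat.mod_self, _root_.Nat.reduceMod, _root_.Bool.and_true, _root_.Nat.reduceAdd, _root_.Bool.and_false]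

theorem phi_c2 {C : ℕ → V} {c : Module.End F V}
    (hC : ∀ S < 16, c (C S) = if S.testBit 2 = true then 0 else C (S + 4))
    (m : ℕ) : c (phi C m) = phi C ((m &&& 3855) <<< 4) := by
  unfold phi
  rw [map_sum]
  have h1 : ∀ S ∈ Finset.range 16, c (if m.testBit S = true then C S else 0) =
      if m.testBit S = true then (if S.testBit 2 = true then 0 else C (S + 4)) else 0 := by
    intro S hS
    rw [← hC S (Finset.mem_range.1 hS)]
    split_ifs <;> simp only [_root_.map_zero]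
  rw [Finset.sum_congr rfl h1]
  simp only [Finset.sum_range_succ, Finset.sum_range_zero, Nat.testBit_shiftLeft, Nat.testBit_and]
  simp only [Nat.testBit, _root_.Nat.shiftRight_zero, _root_.Nat.one_and_eq_mod_two, _root_.Nat.mod_two_bne_zero, _root_.beq_iff_eq, _root_.Nat.zero_shiftRight, _root_.Nat.and_zero, _root_.bne_self_eq_false, _root_.Bool.false_eq_true, ↓ _root_.reduceIte, _root_.zero_add, _root_.Nat.reduceShiftRight, _root_.Nat.reduceAdd, _root_.Nat.and_self, _root_.Nat.reduceBNe, _root_.ite_self, _root_.add_zero, _root_.Nat.mod_self, _root_.Nat.reduceMod, _root_.ge_iff_le, _root_.nonpos_iff_eq_zero, _root_.OfNat.ofNat_ne_zero, _root_.decide_false, _root_.zero_tsub, _root_.Bool.and_true, _root_.Bool.false_and, _root_.Nat.not_ofNat_le_one, _root_.Nat.one_le_ofNat, _root_.Nat.sub_eq_zero_of_le, _root_.Nat.reduceLeDiff, _root_.Std.le_refl, _root_.decide_true, _root_.tsub_self, _root_.Bool.true_and, _root_.Nat.reduceSub, _root_.Bool.and_false]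

theorem phi_a2 {C : ℕ → V} {c : Module.End F V}
    (hC : ∀ S < 16, c (C S) = if S.testBit 2 = true then C (S - 4) else 0)
    (m : ℕ) : c (phi C m) = phi C ((m >>> 4) &&& 3855) := by
  unfold phi
  rw [map_sum]
  have h1 : ∀ S ∈ Finset.range 16, c (if m.testBit S = true then C S else 0) =
      if m.testBit S = true then (if S.testBit 2 = true then C (S - 4) else 0) else 0 := by
    intro S hS
    rw [← hC S (Finset.mem_range.1 hS)]
    split_ifs <;> simp only [_root_.map_zero]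
  rw [Finset.sum_congr rfl h1]
  simp only [Finset.sum_range_succ, Finset.sum_range_zero, Nat.testBit_shiftRight, Nat.testBit_and]
  simp only [Nat.testBit, _root_.Nat.shiftRight_zero, _root_.Nat.one_and_eq_mod_two, _root_.Nat.mod_two_bne_zero, _root_.beq_iff_eq, _root_.Nat.zero_shiftRight, _root_.Nat.and_zero, _root_.bne_self_eq_false, _root_.Bool.false_eq_true, ↓ _root_.reduceIte, _root_.ite_self, _root_.add_zero, _root_.Nat.reduceShiftRight, _root_.Nat.and_self, _root_.Nat.reduceBNe, _root_.tsub_self, _root_.zero_add, _root_.Nat.reduceSub, _root_.Nat.mod_self, _root_.Nat.reduceMod, _root_.Bool.and_true, _root_.Nat.reduceAdd, _root_.Bool.and_false]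

theorem phi_c3 {C : ℕ → V} {c : Module.End F V}
    (hC : ∀ S < 16, c (C S) = if S.testBit 3 = true then 0 else C (S + 8))
    (m : ℕ) : c (phi C m) = phi C ((m &&& 255) <<< 8) := by
  unfold phi
  rw [map_sum]
  have h1 : ∀ S ∈ Finset.range 16, c (if m.testBit S = true then C S else 0) =
      if m.testBit S = true then (if S.testBit 3 = true then 0 else C (S + 8)) else 0 := by
    intro S hS
    rw [← hC S (Finset.mem_range.1 hS)]
    split_ifs <;> simp only [_root_.map_zero]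
  rw [Finset.sum_congr rfl h1]
  simp only [Finset.sum_range_succ, Finset.sum_range_zero, Nat.testBit_shiftLeft, Nat.testBit_and]
  simp only [Nat.testBit, _root_.Nat.shiftRight_zero, _root_.Nat.one_and_eq_mod_two, _root_.Nat.mod_two_bne_zero, _root_.beq_iff_eq, _root_.Nat.zero_shiftRight, _root_.Nat.and_zero, _root_.bne_self_eq_false, _root_.Bool.false_eq_true, ↓ _root_.reduceIte, _root_.zero_add, _root_.Nat.reduceShiftRight, _root_.Nat.reduceAdd, _root_.Nat.and_self, _root_.Nat.reduceBNe, _root_.ite_self, _root_.add_zero, _root_.ge_iff_le, _root_.nonpos_iff_eq_zero, _root_.OfNat.ofNat_ne_zero, _root_.decide_false, _root_.zero_tsub, _root_.Nat.reduceMod, _root_.Bool.and_true, _root_.Bool.false_and, _root_.Nat.not_ofNat_le_one, _root_.Nat.one_le_ofNat, _root_.Nat.sub_eq_zero_of_le, _root_.Nat.reduceLeDiff, _root_.Std.le_refl, _root_.decide_true, _root_.tsub_self, _root_.Bool.true_and, _root_.Nat.reduceSub]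

theorem phi_a3 {C : ℕ → V} {c : Module.End F V}
    (hC : ∀ S < 16, c (C S) = if S.testBit 3 = true then C (S - 8) else 0)
    (m : ℕ) : c (phi C m) = phi C ((m >>> 8) &&& 255) := by
  unfold phi
  rw [map_sum]
  have h1 : ∀ S ∈ Finset.range 16, c (if m.testBit S = true then C S else 0) =
      if m.testBit S = true then (if S.testBit 3 = true then C (S - 8) else 0) else 0 := by
    intro S hS
    rw [← hC S (Finset.mem_range.1 hS)]
    split_ifs <;> simp only [_root_.map_zero]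
  rw [Finset.sum_congr rfl h1]
  simp only [Finset.sum_range_succ, Finset.sum_range_zero, Nat.testBit_shiftRight, Nat.testBit_and]
  simp only [Nat.testBit, _root_.Nat.shiftRight_zero, _root_.Nat.one_and_eq_mod_two, _root_.Nat.mod_two_bne_zero, _root_.beq_iff_eq, _root_.Nat.zero_shiftRight, _root_.Nat.and_zero, _root_.bne_self_eq_false, _root_.Bool.false_eq_true, ↓ _root_.reduceIte, _root_.ite_self, _root_.add_zero, _root_.Nat.reduceShiftRight, _root_.Nat.and_self, _root_.Nat.reduceBNe, _root_.tsub_self, _root_.zero_add, _root_.Nat.reduceSub, _root_.Nat.reduceMod, _root_.Bool.and_true, _root_.Nat.reduceAdd, _root_.Bool.and_false]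

/-- the basis of the Fock space -/
def CS (c0 c1 c2 c3 : Module.End F V) (v : V) (S : ℕ) : V :=
  (if S.testBit 0 = true then c0 else 1) ((if S.testBit 1 = true then c1 else 1)
    ((if S.testBit 2 = true then c2 else 1) ((if S.testBit 3 = true then c3 else 1) v)))

/-- the relations -/
structure Fock (a0 a1 a2 a3 c0 c1 c2 c3 : Module.End F V) (v : V) : Prop where
  q0 : ∀ x, c0 (c0 x) = 0
  q1 : ∀ x, c1 (c1 x) = 0
  q2 : ∀ x, c2 (c2 x) = 0
  q3 : ∀ x, c3 (c3 x) = 0
  p10 : ∀ x, c1 (c0 x) = c0 (c1 x)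
  p20 : ∀ x, c2 (c0 x) = c0 (c2 x)
  p30 : ∀ x, c3 (c0 x) = c0 (c3 x)
  p21 : ∀ x, c2 (c1 x) = c1 (c2 x)
  p31 : ∀ x, c3 (c1 x) = c1 (c3 x)
  p32 : ∀ x, c3 (c2 x) = c2 (c3 x)
  d00 : ∀ x, a0 (c0 x) = x + c0 (a0 x)
  d01 : ∀ x, a0 (c1 x) = c1 (a0 x)
  d02 : ∀ x, a0 (c2 x) = c2 (a0 x)
  d03 : ∀ x, a0 (c3 x) = c3 (a0 x)
  d10 : ∀ x, a1 (c0 x) = c0 (a1 x)
  d11 : ∀ x, a1 (c1 x) = x + c1 (a1 x)
  d12 : ∀ x, a1 (c2 x) = c2 (a1 x)
  d13 : ∀ x, a1 (c3 x) = c3 (a1 x)
  d20 : ∀ x, a2 (c0 x) = c0 (a2 x)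
  d21 : ∀ x, a2 (c1 x) = c1 (a2 x)
  d22 : ∀ x, a2 (c2 x) = x + c2 (a2 x)
  d23 : ∀ x, a2 (c3 x) = c3 (a2 x)
  d30 : ∀ x, a3 (c0 x) = c0 (a3 x)
  d31 : ∀ x, a3 (c1 x) = c1 (a3 x)
  d32 : ∀ x, a3 (c2 x) = c2 (a3 x)
  d33 : ∀ x, a3 (c3 x) = x + c3 (a3 x)
  v0 : a0 v = 0
  v1 : a1 v = 0
  v2 : a2 v = 0
  v3 : a3 v = 0

namespace Fock

variable {a0 a1 a2 a3 c0 c1 c2 c3 : Module.End F V} {v : V} (k : Fock a0 a1 a2 a3 c0 c1 c2 c3 v)

include k

theorem C0 : ∀ S < 16, c0 (CS c0 c1 c2 c3 v S) =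
    if S.testBit 0 = true then 0 else CS c0 c1 c2 c3 v (S + 1) := by
  intro S hS
  interval_cases S <;>
    simp only [CS, Nat.testBit, k.q0, k.q1, k.q2, k.q3, k.p10, k.p20, k.p30, k.p21, k.p31, k.p32, _root_.Nat.shiftRight_zero, _root_.Nat.and_zero, _root_.bne_self_eq_false, _root_.Bool.false_eq_true, ↓ _root_.reduceIte, _root_.Nat.zero_shiftRight, _root_.Module.End.one_apply, _root_.zero_add, _root_.Nat.and_self, _root_.Nat.reduceBNe, _root_.Nat.reduceShiftRight, _root_.Nat.one_and_eq_mod_two, _root_.Nat.mod_self, _root_.Nat.reduceAdd, _root_.Nat.reduceMod]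

theorem A0 : ∀ S < 16, a0 (CS c0 c1 c2 c3 v S) =
    if S.testBit 0 = true then CS c0 c1 c2 c3 v (S - 1) else 0 := by
  intro S hS
  interval_cases S <;>
    simp only [CS, Nat.testBit, k.d00, k.d01, k.d02, k.d03, k.d10, k.d11, k.d12, k.d13, k.d20, k.d21, k.d22, k.d23,
      k.d30, k.d31, k.d32, k.d33, k.v0, k.v1, k.v2, k.v3, _root_.Nat.shiftRight_zero, _root_.Nat.and_zero, _root_.bne_self_eq_false, _root_.Bool.false_eq_true, ↓ _root_.reduceIte, _root_.Nat.zero_shiftRight, _root_.Module.End.one_apply, _root_.Nat.and_self, _root_.Nat.reduceBNe, _root_.Nat.reduceShiftRight, _root_.map_zero, _root_.add_zero, _root_.tsub_self, _root_.Nat.one_and_eq_mod_two, _root_.Nat.mod_self, _root_.Nat.reduceMod, _root_.Nat.add_one_sub_one]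

theorem C1 : ∀ S < 16, c1 (CS c0 c1 c2 c3 v S) =
    if S.testBit 1 = true then 0 else CS c0 c1 c2 c3 v (S + 2) := by
  intro S hS
  interval_cases S <;>
    simp only [CS, Nat.testBit, k.q0, k.q1, k.q2, k.q3, k.p10, k.p20, k.p30, k.p21, k.p31, k.p32, _root_.Nat.shiftRight_zero, _root_.Nat.and_zero, _root_.bne_self_eq_false, _root_.Bool.false_eq_true, ↓ _root_.reduceIte, _root_.Nat.zero_shiftRight, _root_.Module.End.one_apply, _root_.zero_add, _root_.Nat.one_and_eq_mod_two, _root_.Nat.mod_self, _root_.Nat.reduceShiftRight, _root_.Nat.and_self, _root_.Nat.reduceBNe, _root_.Nat.reduceAdd, _root_.Nat.reduceMod, _root_.map_zero]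

theorem A1 : ∀ S < 16, a1 (CS c0 c1 c2 c3 v S) =
    if S.testBit 1 = true then CS c0 c1 c2 c3 v (S - 2) else 0 := by
  intro S hS
  interval_cases S <;>
    simp only [CS, Nat.testBit, k.d00, k.d01, k.d02, k.d03, k.d10, k.d11, k.d12, k.d13, k.d20, k.d21, k.d22, k.d23,
      k.d30, k.d31, k.d32, k.d33, k.v0, k.v1, k.v2, k.v3, _root_.Nat.shiftRight_zero, _root_.Nat.and_zero, _root_.bne_self_eq_false, _root_.Bool.false_eq_true, ↓ _root_.reduceIte, _root_.Nat.zero_shiftRight, _root_.Module.End.one_apply, _root_.Nat.and_self, _root_.Nat.reduceBNe, _root_.Nat.reduceShiftRight, _root_.map_zero, _root_.Nat.one_and_eq_mod_two, _root_.Nat.mod_self, _root_.add_zero, _root_.tsub_self, _root_.Nat.reduceMod, _root_.Nat.reduceSub]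

theorem C2 : ∀ S < 16, c2 (CS c0 c1 c2 c3 v S) =
    if S.testBit 2 = true then 0 else CS c0 c1 c2 c3 v (S + 4) := by
  intro S hS
  interval_cases S <;>
    simp only [CS, Nat.testBit, k.q0, k.q1, k.q2, k.q3, k.p10, k.p20, k.p30, k.p21, k.p31, k.p32, _root_.Nat.shiftRight_zero, _root_.Nat.and_zero, _root_.bne_self_eq_false, _root_.Bool.false_eq_true, ↓ _root_.reduceIte, _root_.Nat.zero_shiftRight, _root_.Module.End.one_apply, _root_.zero_add, _root_.Nat.one_and_eq_mod_two, _root_.Nat.reduceMod, _root_.Nat.reduceShiftRight, _root_.Nat.mod_self, _root_.Nat.and_self, _root_.Nat.reduceBNe, _root_.Nat.reduceAdd, _root_.map_zero]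

theorem A2 : ∀ S < 16, a2 (CS c0 c1 c2 c3 v S) =
    if S.testBit 2 = true then CS c0 c1 c2 c3 v (S - 4) else 0 := by
  intro S hS
  interval_cases S <;>
    simp only [CS, Nat.testBit, k.d00, k.d01, k.d02, k.d03, k.d10, k.d11, k.d12, k.d13, k.d20, k.d21, k.d22, k.d23,
      k.d30, k.d31, k.d32, k.d33, k.v0, k.v1, k.v2, k.v3, _root_.Nat.shiftRight_zero, _root_.Nat.and_zero, _root_.bne_self_eq_false, _root_.Bool.false_eq_true, ↓ _root_.reduceIte, _root_.Nat.zero_shiftRight, _root_.Module.End.one_apply, _root_.Nat.and_self, _root_.Nat.reduceBNe, _root_.Nat.reduceShiftRight, _root_.map_zero, _root_.Nat.one_and_eq_mod_two, _root_.Nat.mod_self, _root_.Nat.reduceMod, _root_.add_zero, _root_.tsub_self, _root_.Nat.reduceSub]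

theorem C3 : ∀ S < 16, c3 (CS c0 c1 c2 c3 v S) =
    if S.testBit 3 = true then 0 else CS c0 c1 c2 c3 v (S + 8) := by
  intro S hS
  interval_cases S <;>
    simp only [CS, Nat.testBit, k.q0, k.q1, k.q2, k.q3, k.p10, k.p20, k.p30, k.p21, k.p31, k.p32, _root_.Nat.shiftRight_zero, _root_.Nat.and_zero, _root_.bne_self_eq_false, _root_.Bool.false_eq_true, ↓ _root_.reduceIte, _root_.Nat.zero_shiftRight, _root_.Module.End.one_apply, _root_.zero_add, _root_.Nat.one_and_eq_mod_two, _root_.Nat.reduceMod, _root_.Nat.reduceShiftRight, _root_.Nat.mod_self, _root_.Nat.and_self, _root_.Nat.reduceBNe, _root_.Nat.reduceAdd, _root_.map_zero]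

theorem A3 : ∀ S < 16, a3 (CS c0 c1 c2 c3 v S) =
    if S.testBit 3 = true then CS c0 c1 c2 c3 v (S - 8) else 0 := by
  intro S hS
  interval_cases S <;>
    simp only [CS, Nat.testBit, k.d00, k.d01, k.d02, k.d03, k.d10, k.d11, k.d12, k.d13, k.d20, k.d21, k.d22, k.d23,
      k.d30, k.d31, k.d32, k.d33, k.v0, k.v1, k.v2, k.v3, _root_.Nat.shiftRight_zero, _root_.Nat.and_zero, _root_.bne_self_eq_false, _root_.Bool.false_eq_true, ↓ _root_.reduceIte, _root_.Nat.zero_shiftRight, _root_.Module.End.one_apply, _root_.Nat.and_self, _root_.Nat.reduceBNe, _root_.Nat.reduceShiftRight, _root_.map_zero, _root_.Nat.one_and_eq_mod_two, _root_.Nat.mod_self, _root_.Nat.reduceMod, _root_.add_zero, _root_.tsub_self, _root_.Nat.reduceSub]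

end Fock

end Cfsg.Agent.H765.EPS
end

-- part: H765/EPS/CaseA
section
/-!
# The modules of dimension 16 of `Sp₈(2)`: an element of order 17 (helper765)
-/

set_option autoImplicit false
set_option linter.unusedSectionVars false

namespace Cfsg.Agent.H765.EPS

variable {F V : Type*} [Field F] [AddCommGroup V] [Module F V]

/-- the action of `y₀` on the Fock space -/
def opx (m : ℕ) : ℕ → ℕ
  | 4 => m ^^^ ((m >>> 4) &&& 3855)
  | 16 => m ^^^ ((m &&& 21845) <<< 1)
  | 32 => m ^^^ ((m &&& 13107) <<< 2)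
  | 64 => m ^^^ ((m &&& 3855) <<< 4)
  | 128 => m ^^^ ((m &&& 255) <<< 8)
  | 5 => m ^^^ ((m >>> 1) &&& 21845) ^^^ ((m >>> 4) &&& 3855)
  | 40 => m ^^^ ((m >>> 8) &&& 255) ^^^ ((m &&& 13107) <<< 2)
  | 66 => m ^^^ ((m >>> 2) &&& 13107) ^^^ ((m &&& 3855) <<< 4)
  | _ => m

def YM (m : ℕ) : ℕ := opx (opx (opx (opx (opx (opx (opx (opx m 128) 64) 5) 16) 4) 32) 66) 40

def ypow : ℕ → ℕ → ℕ
  | 0, m => m
  | k + 1, m => YM (ypow k m)

namespace Rep

variable {t : ℕ → Module.End F V} (h : Rep t)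

include h

theorem add_of {c d m : ℕ} (hc : Ok c) (hd : Ok d) (e : act c d = m) (h1 : FF t c d = 1) : t m = t c + t d := by
  rw [← e, ← h.cj c d hc hd]
  unfold FF at h1
  have h2 : t c * t d = 1 + t d * t c := by
    have h3 := h.add_self (t d * t c)
    calc t c * t d = t c * t d + (t d * t c + t d * t c) := by rw [h3, add_zero]
      _ = (t c * t d + t d * t c) + t d * t c := by rw [add_assoc]
      _ = 1 + t d * t c := by rw [h1]
  rw [h2, add_mul, one_mul, mul_assoc, h.sq c hc, mul_one]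

/-- `t₁ + t₂ + t₃ = 1` -/
theorem D_one (hA : FF t 1 16 = 1) : t 1 + t 2 + t 3 = 1 := by
  have key : ∀ (l : List ℕ) (c d : ℕ), OkL l → aw l 1 = c → aw l 16 = d → FF t c d = 1 := by
    intro l c d hl e1 e2
    rw [← h.cjF hl (by decide) (by decide) e1 e2, hA, map_one]
  have f1 : t 17 = t 16 + t 1 := h.add_of (by decide) (by decide) (by decide)
    (key [17] _ _ (by decide) (by decide) (by decide))
  have f2 : t 19 = t 16 + t 3 := h.add_of (by decide) (by decide) (by decide)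
    (key [17, 3, 1] _ _ (by decide) (by decide) (by decide))
  have f3 : t 34 = t 32 + t 2 := h.add_of (by decide) (by decide) (by decide)
    (key [51, 33, 18] _ _ (by decide) (by decide) (by decide))
  have f4 : t 35 = t 32 + t 3 := h.add_of (by decide) (by decide) (by decide)
    (key [50, 19] _ _ (by decide) (by decide) (by decide))
  set D := t 1 + t 2 + t 3 with hD
  have c12 : t 1 * t 2 = t 2 * t 1 := h.cc
  have c13 : t 1 * t 3 = t 3 * t 1 := h.cc
  have c23 : t 2 * t 3 = t 3 * t 2 := h.cc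
  have hDD : D * D = 1 := by
    have e1 : D * D = t 1 * t 1 + t 2 * t 2 + t 3 * t 3 + (t 1 * t 2 + t 2 * t 1) + (t 1 * t 3 + t 3 * t 1) +
        (t 2 * t 3 + t 3 * t 2) := by rw [hD]; noncomm_ring
    rw [e1, h.sq 1 (by decide), h.sq 2 (by decide), h.sq 3 (by decide), c12, c13, c23, h.add_self (t 2 * t 1),
      h.add_self (t 3 * t 1), h.add_self (t 3 * t 2), add_zero, add_zero, add_zero, h.add_self 1, zero_add]
  have hcomm : ∀ g ∈ nine, t g * D = D * t g := by
    have k1 : ∀ g : ℕ, Ok g → t g * t 1 = t 1 * t g → t g * t 2 = t 2 * t g → t g * t 3 = t 3 * t g →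
        t g * D = D * t g := by
      intro g _ h1 h2 h3
      rw [hD, mul_add, mul_add, h1, h2, h3, add_mul, add_mul]
    have k2 : ∀ g : ℕ, Ok g → t g * D * t g = D → t g * D = D * t g := by
      intro g hg e
      calc t g * D = t g * D * (t g * t g) := by rw [h.sq g hg, mul_one]
        _ = (t g * D * t g) * t g := by simp only [mul_assoc]
        _ = D * t g := by rw [e]
    have k3 : ∀ g : ℕ, Ok g → t g * D * t g = t (act g 1) + t (act g 2) + t (act g 3) := by
      intro g hg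
      rw [hD, mul_add, mul_add, add_mul, add_mul, h.cj g 1 hg (by decide), h.cj g 2 hg (by decide),
        h.cj g 3 hg (by decide)]
    intro g hg
    unfold nine at hg
    simp only [List.mem_cons, List.not_mem_nil, or_false] at hg
    rcases hg with rfl | rfl | rfl | rfl | rfl | rfl | rfl | rfl | rfl
    · exact k1 1 (by decide) rfl h.cc h.cc
    · refine k2 16 (by decide) ?_
      rw [k3 16 (by decide)]
      show t 17 + t 2 + t 19 = D
      rw [f1, f2, hD]
      calc t 16 + t 1 + t 2 + (t 16 + t 3) = t 1 + t 2 + t 3 + (t 16 + t 16) := by abel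
        _ = t 1 + t 2 + t 3 := by rw [h.add_self, add_zero]
    · exact k1 3 (by decide) h.cc h.cc rfl
    · refine k2 32 (by decide) ?_
      rw [k3 32 (by decide)]
      show t 1 + t 34 + t 35 = D
      rw [f3, f4, hD]
      calc t 1 + (t 32 + t 2) + (t 32 + t 3) = t 1 + t 2 + t 3 + (t 32 + t 32) := by abel
        _ = t 1 + t 2 + t 3 := by rw [h.add_self, add_zero]
    · exact k1 6 (by decide) h.cc h.cc h.cc
    · exact k1 64 (by decide) h.cc h.cc h.cc
    · exact k1 12 (by decide) h.cc h.cc h.cc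
    · exact k1 128 (by decide) h.cc h.cc h.cc
    · exact k1 2 (by decide) h.cc rfl h.cc
  have hU : ∀ x, Ok x → ∀ u ∈ LinearMap.ker (D + 1), t x u ∈ LinearMap.ker (D + 1) := by
    intro x hx
    refine h.inv_of_nine (U := LinearMap.ker (D + 1)) ?_ hx
    intro g hg
    exact Inv.ker (by rw [mul_add, add_mul, hcomm g hg, mul_one, one_mul])
  have hz : (D + 1) * (D + 1) = 0 := by
    have e1 : (D + 1) * (D + 1) = D * D + (D + D) + 1 := by noncomm_ring
    rw [e1, hDD, h.add_self D, add_zero, h.add_self]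
  have h1 : D + 1 = 0 := by
    rcases h.irr _ hU with h1 | h1
    · apply LinearMap.ext
      intro v
      have h2 : (D + 1) v ∈ LinearMap.ker (D + 1) := by
        rw [LinearMap.mem_ker, ← Module.End.mul_apply, hz, LinearMap.zero_apply]
      rw [h1, Submodule.mem_bot] at h2
      exact h2
    · exact LinearMap.ker_eq_top.1 h1
  exact add_right_cancel (h1.trans (h.add_self 1).symm)

/-- the element `y₀` -/
def yy (t : ℕ → Module.End F V) : Module.End F V := t 40 * t 66 * t 32 * t 4 * t 16 * t 5 * t 64 * t 128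

/-- the idempotent `θ(y₀)` -/
def ee (t : ℕ → Module.End F V) : Module.End F V :=
  yy t ^ 1 + yy t ^ 2 + yy t ^ 4 + yy t ^ 8 + yy t ^ 9 + yy t ^ 13 + yy t ^ 15 + yy t ^ 16

/-- **Both types of irreducible modules of `⟨y₀⟩` occur.** -/
theorem main [FiniteDimensional F V] : (yy t + 1) * ee t ≠ 0 ∧ (yy t + 1) * (1 + ee t) ≠ 0 := by
  obtain ⟨hA, v, hv, n1, n2, n3, n4⟩ := h.caseA
  have key : ∀ (l : List ℕ) (c d : ℕ), OkL l → aw l 1 = c → aw l 16 = d → FF t c d = 1 := by
    intro l c d hl e1 e2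
    rw [← h.cjF hl (by decide) (by decide) e1 e2, hA, map_one]
  have g2 : FF t 2 32 = 1 := key [51, 48, 3] _ _ (by decide) (by decide) (by decide)
  have g3 : FF t 4 64 = 1 := key [85, 80, 5] _ _ (by decide) (by decide) (by decide)
  have g4 : FF t 8 128 = 1 := key [153, 144, 9] _ _ (by decide) (by decide) (by decide)
  have hD := h.D_one hA
  have keyD : ∀ (l : List ℕ) (a b c : ℕ), OkL l → aw l 1 = a → aw l 2 = b → aw l 3 = c → t a + t b + t c = 1 := by
    intro l a b c hl e1 e2 e3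
    have h1 := congrArg (conjHom (wu t l)) hD
    rw [map_add, map_add, map_one, h.cjt hl (by decide) e1, h.cjt hl (by decide) e2, h.cjt hl (by decide) e3] at h1
    exact h1
  have d1 : t 1 + t 4 + t 5 = 1 := keyD [102, 96] _ _ _ (by decide) (by decide) (by decide) (by decide)
  have d2 : t 8 + t 32 + t 40 = 1 := keyD [153, 144, 34] _ _ _ (by decide) (by decide) (by decide) (by decide)
  have d3 : t 2 + t 64 + t 66 = 1 := keyD [85, 54, 33, 20] _ _ _ (by decide) (by decide) (by decide) (by decide)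
  -- the Fock relations
  have sq0 : ∀ a, Ok a → ∀ x : V, NN t a (NN t a x) = 0 := fun a ha x => by
    rw [← Module.End.mul_apply, h.NN_sq ha, LinearMap.zero_apply]
  have an : ∀ a b, FF t a b = 1 → ∀ x : V, NN t a (NN t b x) = x + NN t b (NN t a x) := by
    intro a b e x
    have h1 := h.NN_anti a b
    rw [e] at h1
    have h2 := congrArg (fun f : Module.End F V => f x) h1
    have h3 : NN t a (NN t b x) + NN t b (NN t a x) = x := h2
    have h4 := h.add_selfV (NN t b (NN t a x))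
    calc NN t a (NN t b x) = NN t a (NN t b x) + (NN t b (NN t a x) + NN t b (NN t a x)) := by rw [h4, add_zero]
      _ = (NN t a (NN t b x) + NN t b (NN t a x)) + NN t b (NN t a x) := by rw [add_assoc]
      _ = x + NN t b (NN t a x) := by rw [h3]
  have co : ∀ a b, t a * t b = t b * t a → ∀ x : V, NN t a (NN t b x) = NN t b (NN t a x) := by
    intro a b e x
    have h1 : NN t a * NN t b = NN t b * NN t a := by
      have c1 : Commute (t a) (t b) := e
      exact (c1.add_right (Commute.one_right _)).add_left (Commute.one_left _)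
    exact congrArg (fun f : Module.End F V => f x) h1
  have k : Fock (NN t 1) (NN t 2) (NN t 4) (NN t 8) (NN t 16) (NN t 32) (NN t 64) (NN t 128) v :=
    { q0 := sq0 16 (by decide), q1 := sq0 32 (by decide), q2 := sq0 64 (by decide), q3 := sq0 128 (by decide)
      p10 := co _ _ h.cc, p20 := co _ _ h.cc, p30 := co _ _ h.cc, p21 := co _ _ h.cc, p31 := co _ _ h.cc,
      p32 := co _ _ h.cc
      d00 := an _ _ hA, d01 := co _ _ h.cc, d02 := co _ _ h.cc, d03 := co _ _ h.cc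
      d10 := co _ _ h.cc, d11 := an _ _ g2, d12 := co _ _ h.cc, d13 := co _ _ h.cc
      d20 := co _ _ h.cc, d21 := co _ _ h.cc, d22 := an _ _ g3, d23 := co _ _ h.cc
      d30 := co _ _ h.cc, d31 := co _ _ h.cc, d32 := co _ _ h.cc, d33 := an _ _ g4
      v0 := n1, v1 := n2, v2 := n3, v3 := n4 }
  obtain ⟨C, hC⟩ : ∃ C : ℕ → V, C = CS (NN t 16) (NN t 32) (NN t 64) (NN t 128) v := ⟨_, rfl⟩
  have A0 := phi_a0 k.A0
  have A1 := phi_a1 k.A1
  have A2 := phi_a2 k.A2
  have A3 := phi_a3 k.A3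
  have C0 := phi_c0 k.C0
  have C1 := phi_c1 k.C1
  have C2 := phi_c2 k.C2
  have C3 := phi_c3 k.C3
  rw [← hC] at A0 A1 A2 A3 C0 C1 C2 C3
  have hx := phi_xor h.add_selfV C
  have tN : ∀ (a : ℕ) (x : V), t a x = x + NN t a x := by
    intro a x
    show t a x = x + (t a + 1) x
    rw [LinearMap.add_apply, Module.End.one_apply, add_comm (t a x), ← add_assoc, h.add_selfV, zero_add]
  have tD : ∀ (a b c : ℕ), t a + t b + t c = 1 → ∀ x : V, t c x = x + NN t a x + NN t b x := by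
    intro a b c e x
    have h1 : t a x + t b x + t c x = x := congrArg (fun f : Module.End F V => f x) e
    rw [tN a, tN b] at h1
    have h2 := h.add_selfV
    have h3 : t c x = (x + NN t a x + (x + NN t b x) + t c x) + (x + NN t a x + (x + NN t b x)) := by
      rw [add_comm, ← add_assoc, h2, zero_add]
    rw [h1] at h3
    rw [h3]
    calc x + (x + NN t a x + (x + NN t b x)) = (x + x) + (x + NN t a x + NN t b x) := by abel
      _ = x + NN t a x + NN t b x := by rw [h2, zero_add]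
  have o4 : ∀ m, t 4 (phi C m) = phi C (opx m 4) := fun m => by rw [tN, A2, ← hx]; rfl
  have o16 : ∀ m, t 16 (phi C m) = phi C (opx m 16) := fun m => by rw [tN, C0, ← hx]; rfl
  have o32 : ∀ m, t 32 (phi C m) = phi C (opx m 32) := fun m => by rw [tN, C1, ← hx]; rfl
  have o64 : ∀ m, t 64 (phi C m) = phi C (opx m 64) := fun m => by rw [tN, C2, ← hx]; rfl
  have o128 : ∀ m, t 128 (phi C m) = phi C (opx m 128) := fun m => by rw [tN, C3, ← hx]; rfl
  have o5 : ∀ m, t 5 (phi C m) = phi C (opx m 5) := fun m => by rw [tD _ _ _ d1, A0, A2, ← hx, ← hx]; rfl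
  have o40 : ∀ m, t 40 (phi C m) = phi C (opx m 40) := fun m => by rw [tD _ _ _ d2, A3, C1, ← hx, ← hx]; rfl
  have o66 : ∀ m, t 66 (phi C m) = phi C (opx m 66) := fun m => by rw [tD _ _ _ d3, A1, C2, ← hx, ← hx]; rfl
  have hy : ∀ m, yy t (phi C m) = phi C (YM m) := by
    intro m
    show t 40 (t 66 (t 32 (t 4 (t 16 (t 5 (t 64 (t 128 (phi C m)))))))) = _
    rw [o128, o64, o5, o16, o4, o32, o66, o40]
    rfl
  have hyp : ∀ n m, (yy t ^ n) (phi C m) = phi C (ypow n m) := by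
    intro n
    induction n with
    | zero => intro m; rfl
    | succ n ih =>
      intro m
      rw [pow_succ', Module.End.mul_apply, ih, hy]
      rfl
  have hee : ee t (phi C 1) = phi C 1397 := by
    unfold ee
    simp only [LinearMap.add_apply, hyp]
    rw [← hx, ← hx, ← hx, ← hx, ← hx, ← hx, ← hx]
    congr 1
  have hv' : phi C 1 = v := by
    rw [hC]
    unfold phi
    simp only [Finset.sum_range_succ, Nat.testBit, CS, _root_.Nat.one_and_eq_mod_two, _root_.Nat.mod_two_bne_zero, _root_.beq_iff_eq, _root_.Nat.shiftRight_zero, _root_.Finset.range_one, _root_.Finset.sum_singleton, _root_.Nat.mod_succ, ↓ _root_.reduceIte, _root_.Nat.zero_mod, _root_.zero_ne_one, _root_.Nat.zero_shiftRight, _root_.Module.End.one_apply, _root_.Nat.reduceShiftRight, _root_.add_zero]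
  constructor
  · intro e
    have h1 : ((yy t + 1) * ee t) (phi C 1) = 0 := by rw [e, LinearMap.zero_apply]
    rw [Module.End.mul_apply, hee, LinearMap.add_apply, hy, Module.End.one_apply, ← hx] at h1
    have h2 : YM 1397 ^^^ 1397 = 35194 := by decide +kernel
    rw [h2] at h1
    have h3 := congrArg (fun x => NN t 8 (NN t 4 (NN t 2 (NN t 1 x)))) h1
    simp only [A0, A1, A2, A3, map_zero] at h3
    have h4 : (((((((35194 >>> 1 &&& 21845) >>> 2) &&& 13107) >>> 4) &&& 3855) >>> 8) &&& 255) = 1 := by decide +kernel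
    rw [h4, hv'] at h3
    exact hv h3
  · intro e
    have h1 : ((yy t + 1) * (1 + ee t)) (phi C 1) = 0 := by rw [e, LinearMap.zero_apply]
    rw [Module.End.mul_apply, LinearMap.add_apply 1, Module.End.one_apply, hee, ← hx, LinearMap.add_apply, hy,
      Module.End.one_apply, ← hx] at h1
    have h2 : YM (1 ^^^ 1397) ^^^ (1 ^^^ 1397) = 30139 := by decide +kernel
    rw [h2] at h1
    have h3 := congrArg (fun x => NN t 8 (NN t 4 (NN t 2 x))) h1
    simp only [A1, A2, A3, map_zero] at h3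
    have h4 : (((((30139 >>> 2 &&& 13107) >>> 4) &&& 3855) >>> 8) &&& 255) = 1 := by decide +kernel
    rw [h4, hv'] at h3
    exact hv h3

end Rep

end Cfsg.Agent.H765.EPS
end

-- part: H765/EPS/Cyc
section
/-!
# The element `y θ(y) + 1 + θ(y)` (helper765)
-/

set_option autoImplicit false
set_option linter.unusedSectionVars false

namespace Cfsg.Agent.H765.EPS

open scoped Matrix

section Ring

variable {R : Type*} [Ring R]

/-- the sum of the powers with quadratic residues as exponents -/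
def th (y : R) : R := y ^ 1 + y ^ 2 + y ^ 4 + y ^ 8 + y ^ 9 + y ^ 13 + y ^ 15 + y ^ 16

def cc (y : R) : R := y * th y + (1 + th y)

theorem sq_add_comm (h2 : ∀ r : R, r + r = 0) {a b : R} (h : Commute a b) : (a + b) * (a + b) = a * a + b * b := by
  have e : (a + b) * (a + b) = a * a + b * b + (a * b + b * a) := by noncomm_ring
  rw [e, h.eq, h2, add_zero]

theorem th_idem (h2 : ∀ r : R, r + r = 0) {y : R} (hy : y ^ 17 = 1) : th y * th y = th y := by
  have c : ∀ a b : ℕ, Commute (y ^ a) (y ^ b) := fun a b => (Commute.refl y).pow_pow a b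
  have e18 : y ^ 18 = y := by rw [pow_succ, hy, one_mul]
  have e26 : y ^ 26 = y ^ 9 := by rw [show 26 = 17 + 9 from rfl, pow_add, hy, one_mul]
  have e30 : y ^ 30 = y ^ 13 := by rw [show 30 = 17 + 13 from rfl, pow_add, hy, one_mul]
  have e32 : y ^ 32 = y ^ 15 := by rw [show 32 = 17 + 15 from rfl, pow_add, hy, one_mul]
  unfold th
  rw [sq_add_comm h2 (((((((c _ _).add_left (c _ _)).add_left (c _ _)).add_left (c _ _)).add_left (c _ _)).add_left
    (c _ _)).add_left (c _ _)),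
    sq_add_comm h2 ((((((c _ _).add_left (c _ _)).add_left (c _ _)).add_left (c _ _)).add_left (c _ _)).add_left (c _ _)),
    sq_add_comm h2 (((((c _ _).add_left (c _ _)).add_left (c _ _)).add_left (c _ _)).add_left (c _ _)),
    sq_add_comm h2 ((((c _ _).add_left (c _ _)).add_left (c _ _)).add_left (c _ _)),
    sq_add_comm h2 (((c _ _).add_left (c _ _)).add_left (c _ _)),
    sq_add_comm h2 ((c _ _).add_left (c _ _)),
    sq_add_comm h2 (c _ _)]
  simp only [← pow_add]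
  norm_num only
  rw [e18, e26, e30, e32, pow_one]
  abel

theorem comm_th {y g : R} (h : Commute g y) : Commute g (th y) := by
  unfold th
  exact (((((((h.pow_right _).add_right (h.pow_right _)).add_right (h.pow_right _)).add_right (h.pow_right _)).add_right
    (h.pow_right _)).add_right (h.pow_right _)).add_right (h.pow_right _)).add_right (h.pow_right _)

theorem map_th {S : Type*} [Ring S] (f : R →+* S) (y : R) : f (th y) = th (f y) := by
  unfold th
  simp only [map_add, map_pow]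

theorem th_mul_one_add (h2 : ∀ r : R, r + r = 0) {y : R} (hy : y ^ 17 = 1) : th y * (1 + th y) = 0 := by
  rw [mul_add, mul_one, th_idem h2 hy, h2]

theorem one_add_mul_th (h2 : ∀ r : R, r + r = 0) {y : R} (hy : y ^ 17 = 1) : (1 + th y) * th y = 0 := by
  rw [add_mul, one_mul, th_idem h2 hy, h2]

theorem one_add_sq (h2 : ∀ r : R, r + r = 0) {y : R} (hy : y ^ 17 = 1) : (1 + th y) * (1 + th y) = 1 + th y := by
  rw [add_mul, one_mul, th_mul_one_add h2 hy, add_zero]

theorem cc_pow (h2 : ∀ r : R, r + r = 0) {y : R} (hy : y ^ 17 = 1) (n : ℕ) :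
    cc y ^ n = y ^ n * th y + (1 + th y) := by
  induction n with
  | zero =>
    rw [pow_zero, pow_zero, one_mul]
    calc (1 : R) = 1 + (th y + th y) := by rw [h2, add_zero]
      _ = th y + (1 + th y) := by abel
  | succ n ih =>
    rw [pow_succ, ih, cc]
    have c1 : th y * y = y * th y := (comm_th (Commute.refl y)).eq.symm
    have c2 : (1 + th y) * y = y * (1 + th y) := by rw [add_mul, mul_add, one_mul, mul_one, c1]
    calc (y ^ n * th y + (1 + th y)) * (y * th y + (1 + th y)) =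
        y ^ n * (th y * y) * th y + y ^ n * (th y * (1 + th y)) + ((1 + th y) * y) * th y +
          (1 + th y) * (1 + th y) := by noncomm_ring
      _ = y ^ n * (y * th y) * th y + y ^ n * (th y * (1 + th y)) + (y * (1 + th y)) * th y +
          (1 + th y) * (1 + th y) := by rw [c1, c2]
      _ = y ^ n * y * (th y * th y) + y ^ n * (th y * (1 + th y)) + y * ((1 + th y) * th y) +
          (1 + th y) * (1 + th y) := by simp only [mul_assoc]
      _ = y ^ (n + 1) * th y + (1 + th y) := by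
        rw [th_idem h2 hy, th_mul_one_add h2 hy, one_add_mul_th h2 hy, one_add_sq h2 hy, mul_zero, mul_zero, add_zero,
          add_zero, pow_succ]

theorem cc_pow17 (h2 : ∀ r : R, r + r = 0) {y : R} (hy : y ^ 17 = 1) : cc y ^ 17 = 1 := by
  rw [cc_pow h2 hy, hy, one_mul]
  calc th y + (1 + th y) = 1 + (th y + th y) := by abel
    _ = 1 := by rw [h2, add_zero]

/-- an element inverting `y` inverts `cc y` -/
theorem cc_inv (h2 : ∀ r : R, r + r = 0) {y g : R} (hy : y ^ 17 = 1) (hg : g * y = y ^ 16 * g) :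
    g * cc y = cc y ^ 16 * g := by
  have h1 : ∀ n : ℕ, g * y ^ n = y ^ (16 * n) * g := by
    intro n
    induction n with
    | zero => simp
    | succ n ih => rw [pow_succ, ← mul_assoc, ih, mul_assoc, hg, ← mul_assoc, ← pow_add, Nat.mul_succ]
  have hm : ∀ n k r : ℕ, n = 17 * k + r → y ^ n = y ^ r := by
    intro n k r e
    rw [e, pow_add, pow_mul, hy, one_pow, one_mul]
  have h3 : g * th y = th y * g := by
    unfold th
    rw [mul_add, mul_add, mul_add, mul_add, mul_add, mul_add, mul_add, h1, h1, h1, h1, h1, h1, h1, h1,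
      hm (16 * 1) 0 16 rfl, hm (16 * 2) 1 15 rfl, hm (16 * 4) 3 13 rfl, hm (16 * 8) 7 9 rfl, hm (16 * 9) 8 8 rfl,
      hm (16 * 13) 12 4 rfl, hm (16 * 15) 14 2 rfl, hm (16 * 16) 15 1 rfl]
    simp only [add_mul]
    abel
  rw [cc_pow h2 hy, cc, mul_add, mul_add, mul_one, h3, ← mul_assoc, hg, mul_assoc, h3, ← mul_assoc, add_mul (y ^ 16 * th y),
    add_mul 1, one_mul]

/-- `cc y` is not a power of `y` -/
theorem cc_ne (h2 : ∀ r : R, r + r = 0) {y : R} (hy : y ^ 17 = 1) (h3 : (y + 1) * th y ≠ 0)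
    (h4 : (y + 1) * (1 + th y) ≠ 0) (j : ℕ) : cc y ≠ y ^ j := by
  intro e
  have c1 : th y * y = y * th y := (comm_th (Commute.refl y)).eq.symm
  by_cases hj : j % 17 = 0
  · have h5 : y ^ j = 1 := by
      obtain ⟨k, hk⟩ := Nat.dvd_of_mod_eq_zero hj
      rw [hk, pow_mul, hy, one_pow]
    rw [h5] at e
    apply h3
    have h6 : cc y * th y = th y := by rw [e, one_mul]
    rw [cc, add_mul, one_add_mul_th h2 hy, add_zero, mul_assoc, th_idem h2 hy] at h6
    rw [add_mul, one_mul, h6, h2]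
  · obtain ⟨k, hk⟩ : ∃ k : ℕ, j * k % 17 = 1 := by
      have key : ∀ r < 17, r ≠ 0 → ∃ k, k < 17 ∧ r * k % 17 = 1 := by decide +kernel
      obtain ⟨k, _, hk⟩ := key (j % 17) (Nat.mod_lt _ (by norm_num)) hj
      refine ⟨k, ?_⟩
      rw [Nat.mul_mod, Nat.mod_mod] at hk
      rw [Nat.mul_mod]
      exact hk
    have h6 : y ^ j * (1 + th y) = 1 + th y := by
      rw [← e, cc, add_mul, one_add_sq h2 hy, mul_assoc, th_mul_one_add h2 hy, mul_zero, zero_add]
    have h7 : ∀ k : ℕ, y ^ (j * k) * (1 + th y) = 1 + th y := by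
      intro k
      induction k with
      | zero => simp
      | succ k ih => rw [Nat.mul_succ, pow_add, mul_assoc, h6, ih]
    have h8 : y ^ (j * k) = y := by
      have h9 := Nat.div_add_mod (j * k) 17
      rw [hk] at h9
      rw [← h9, pow_add, pow_mul, hy, one_pow, one_mul, pow_one]
    apply h4
    have h9 := h7 k
    rw [h8] at h9
    rw [add_mul, one_mul, h9, h2]

end Ring

section Quad

variable {ι : Type} [Fintype ι] [DecidableEq ι] {F : Type*} [Field F]

theorem quad_fix (h2 : (2 : F) = 0) {Qf : (ι → F) → F} (hb : Cfsg.Geo.IsBilinearForm (QuadraticMap.polar Qf))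
    {y : Matrix ι ι F} (hy : y ^ 17 = 1) (hQ : ∀ v, Qf (y *ᵥ v) = Qf v) (v : ι → F) : Qf (cc y *ᵥ v) = Qf v := by
  have hR : ∀ r : Matrix ι ι F, r + r = 0 := fun r => by rw [← two_smul F r, h2, zero_smul]
  obtain ⟨B, hB⟩ : ∃ B, B = QuadraticMap.polar Qf := ⟨_, rfl⟩
  rw [← hB] at hb
  have hBQ : ∀ v w, Qf (v + w) = Qf v + Qf w + B v w := by
    intro v w
    rw [hB, QuadraticMap.polar]
    ring
  have hBy : ∀ v w, B (y *ᵥ v) (y *ᵥ w) = B v w := by
    intro v w
    rw [hB, QuadraticMap.polar, QuadraticMap.polar, ← Matrix.mulVec_add, hQ, hQ, hQ]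
  have hByk : ∀ (k : ℕ) v w, B (y ^ k *ᵥ v) (y ^ k *ᵥ w) = B v w := by
    intro k
    induction k with
    | zero => intro v w; simp
    | succ k ih =>
      intro v w
      rw [pow_succ, ← Matrix.mulVec_mulVec, ← Matrix.mulVec_mulVec, ih, hBy]
  have hadj : ∀ (r s : ℕ), r + s = 17 → ∀ v w, B (y ^ r *ᵥ v) w = B v (y ^ s *ᵥ w) := by
    intro r s hrs v w
    rw [← hByk s, Matrix.mulVec_mulVec, ← pow_add, add_comm s r, hrs, hy, Matrix.one_mulVec]
  have h0 : ∀ v, B v 0 = 0 := by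
    intro v
    have := hBQ v 0
    have h3 : Qf 0 = 0 := by
      have h4 := hBQ 0 0
      have h5 : B 0 0 = 0 := by
        have := hb.add_left 0 0 0
        rw [add_zero] at this
        exact (left_eq_add.1 this)
      rw [add_zero, h5, add_zero] at h4
      exact (left_eq_add.1 h4)
    rw [add_zero, h3, add_zero] at this
    exact (left_eq_add.1 this)
  have hth : ∀ v w, B (th y *ᵥ v) w = B v (th y *ᵥ w) := by
    intro v w
    unfold th
    simp only [Matrix.add_mulVec, hb.add_left, hb.add_right]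
    rw [hadj 1 16 rfl, hadj 2 15 rfl, hadj 4 13 rfl, hadj 8 9 rfl, hadj 9 8 rfl, hadj 13 4 rfl, hadj 15 2 rfl,
      hadj 16 1 rfl]
    ring
  have hperp : ∀ v w, B (th y *ᵥ v) ((1 + th y) *ᵥ w) = 0 := by
    intro v w
    rw [hth, Matrix.mulVec_mulVec, th_mul_one_add hR hy, Matrix.zero_mulVec, h0]
  have h1 : cc y *ᵥ v = th y *ᵥ (y *ᵥ v) + (1 + th y) *ᵥ v := by
    rw [cc, Matrix.add_mulVec, ← Matrix.mulVec_mulVec, Matrix.mulVec_mulVec, (comm_th (Commute.refl y)).eq,
      ← Matrix.mulVec_mulVec]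
  have h3 : v = th y *ᵥ v + (1 + th y) *ᵥ v := by
    rw [← Matrix.add_mulVec]
    have : th y + (1 + th y) = 1 := by
      calc th y + (1 + th y) = 1 + (th y + th y) := by abel
        _ = 1 := by rw [hR, add_zero]
    rw [this, Matrix.one_mulVec]
  have h4 : th y *ᵥ (y *ᵥ v) = y *ᵥ (th y *ᵥ v) := by
    rw [Matrix.mulVec_mulVec, Matrix.mulVec_mulVec, (comm_th (Commute.refl y)).eq]
  rw [h1, hBQ, hperp, h4, hQ]
  conv_rhs => rw [h3, hBQ, hperp]

end Quad

end Cfsg.Agent.H765.EPS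
end

-- part: H765/EPS/Bridge
section
/-!
# S3499, own characteristic: `Sp₈(2)` in dimension 16 (helper765)
-/

set_option autoImplicit false
set_option linter.unusedSectionVars false

namespace Cfsg.Agent.H765.EPS

open Subgroup Cfsg.Agent.H284 Cfsg.Agent.H419.EP
open scoped MatrixGroups Matrix commutatorElement

variable {K : Type} [Field K] [Fintype K]

/-- an element inverting `Y0` -/
def U0 (K : Type*) [Field K] : Matrix.symplecticGroup (Fin 4) K := (([40, 68, 69, 32] : List ℕ).map (TT K)).prod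

theorem U0_inv (hK : Fintype.card K = 2) : U0 K * Y0 K * (U0 K)⁻¹ = Y0 K ^ 16 := by
  rw [mul_inv_eq_iff_eq_mul]
  apply ext_bas hK
  intro i hi
  have h1 : ∀ n : ℕ, mt (U0 K * Y0 K) *ᵥ vec K n = vec K (aw [40, 68, 69, 32] (aw y0w n)) := by
    intro n
    rw [mt, Cfsg.Agent.ClassicalGeometry.SympBasic.coe_mul_mulVec, Y0_vec hK]
    exact prod_vec (two_of_card hK) _ _
  have h2 : ∀ n : ℕ, mt (Y0 K ^ 16 * U0 K) *ᵥ vec K n = vec K (ypw 16 (aw [40, 68, 69, 32] n)) := by
    intro n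
    rw [mt, Cfsg.Agent.ClassicalGeometry.SympBasic.coe_mul_mulVec, ← Y0_pow_vec hK]
    congr 1
    exact prod_vec (two_of_card hK) _ _
  have h3 : ∀ i < 8, aw [40, 68, 69, 32] (aw y0w (2 ^ i)) = ypw 16 (aw [40, 68, 69, 32] (2 ^ i)) := fun i hi => by
    have h4 := (show ∀ i < 8, aw [40, 68, 69, 32] (2 ^ i) < 256 ∧
      aw [40, 68, 69, 32] (aw y0w (2 ^ i)) = tpw 16 (aw [40, 68, 69, 32] (2 ^ i)) by decide +kernel) i hi
    exact h4.2.trans (ypw_eq_tpw _ h4.1 16).1.symm
  exact (h1 _).trans ((congrArg (vec K) (h3 i hi)).trans (h2 _).symm)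

/-- the centre of `Sp₈(2)` is trivial -/
theorem center_bot (hK : Fintype.card K = 2) : Subgroup.center (Matrix.symplecticGroup (Fin 4) K) = ⊥ := by
  rw [Subgroup.eq_bot_iff_forall]
  intro z hz
  rw [Subgroup.mem_center_iff] at hz
  have h2 := two_of_card hK
  have h1 : mt z *ᵥ vec K 1 = vec K 1 := by
    -- `z` commutes with the transvection `1`
    obtain ⟨v, hv, hzv⟩ := vec_surj hK (mt z *ᵥ vec K 16)
    obtain ⟨w, hw, hzw⟩ := vec_surj hK (mt z *ᵥ vec K 1)
    have e1 : mt (z * TT K 1) *ᵥ vec K 16 = mt (TT K 1 * z) *ᵥ vec K 16 := by rw [hz]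
    rw [mt, mt, Cfsg.Agent.ClassicalGeometry.SympBasic.coe_mul_mulVec,
      Cfsg.Agent.ClassicalGeometry.SympBasic.coe_mul_mulVec, TT_vec h2] at e1
    have e2 : vec K (act 1 16) = vec K 1 + vec K 16 := by
      rw [← vec_xor h2]
      rfl
    rw [e2, Matrix.mulVec_add] at e1
    have e3 : vec K w + vec K v = vec K (act 1 v) := by
      rw [← TT_vec h2, hzw, hzv]
      exact e1
    rw [← vec_xor h2] at e3
    have e4 : w ^^^ v = act 1 v := by
      have h3 : ∀ v < 256, act 1 v < 256 := by decide +kernel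
      exact vec_inj (Nat.xor_lt_two_pow (n := 8) hw hv) (h3 v hv) e3
    have hw0 : w ≠ 0 := by
      rintro rfl
      rw [vec_zero] at hzw
      have h3 : mt (z⁻¹ * z) *ᵥ vec K 1 = 0 := by
        rw [mt, Cfsg.Agent.ClassicalGeometry.SympBasic.coe_mul_mulVec, ← hzw]
        exact Matrix.mulVec_zero _
      rw [inv_mul_cancel] at h3
      have h4 : vec K 1 = 0 := (Matrix.one_mulVec _).symm.trans h3
      rw [← vec_zero] at h4
      have := vec_inj (K := K) (m := 1) (n := 0) (by norm_num) (by norm_num) h4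
      omega
    have e5 : w = 1 := by
      have h5 : (w ^^^ v) ^^^ v = w := by rw [Nat.xor_assoc, Nat.xor_self, Nat.xor_zero]
      rw [← h5, e4]
      unfold act at e4 ⊢
      split_ifs at e4 ⊢ with h6
      · rw [Nat.xor_comm v 1, Nat.xor_assoc, Nat.xor_self, Nat.xor_zero]
      · exfalso
        apply hw0
        rw [← h5, e4, Nat.xor_self]
    rw [← hzw, e5]
  exact Y0_fixS hK (R := {z}) (by
    intro r hr
    rw [Set.mem_singleton_iff] at hr ⊢
    rw [hr, mul_assoc, ← hz (Y0 K), inv_mul_cancel_left]) ⟨vec K 1, (by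
    intro r hr
    rw [Set.mem_singleton_iff] at hr
    rw [hr]
    exact h1), (by
    intro e
    rw [← vec_zero] at e
    have := vec_inj (K := K) (m := 1) (n := 0) (by norm_num) (by norm_num) e
    omega)⟩ z rfl

section Rep

variable {ι : Type} [Fintype ι] [DecidableEq ι] {F : Type} [Field F] [Fintype F]

/-- the representation -/
noncomputable def rho (θ : Matrix.symplecticGroup (Fin 4) K →* GL ι F) :
    Matrix.symplecticGroup (Fin 4) K →* Module.End F (ι → F) :=
  ((Matrix.toLinAlgEquiv' : Matrix ι ι F ≃ₐ[F] _).toAlgHom.toRingHom.toMonoidHom.comp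
    (Units.coeHom (Matrix ι ι F))).comp θ

theorem rho_inj {θ : Matrix.symplecticGroup (Fin 4) K →* GL ι F} (hθ : Function.Injective θ) :
    Function.Injective (rho θ) := by
  intro a b e
  apply hθ
  apply Units.ext
  exact (Matrix.toLinAlgEquiv' : Matrix ι ι F ≃ₐ[F] _).injective e

/-- the relations in the representation -/
theorem rep_of (hK : Fintype.card K = 2) (hF : Fintype.card F = 2) (hn : Fintype.card ι = 16)
    {θ : Matrix.symplecticGroup (Fin 4) K →* GL ι F} (hθ : Function.Injective θ)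
    (hirr : Cfsg.Geo.ActsIrreducibly (Cfsg.Geo.matrixSet θ.range)) : Rep (fun x => rho θ (TT K x)) := by
  have h2 := two_of_card hK
  refine ⟨?_, ?_, ?_, ?_, ?_, ?_, two_of_card hF⟩
  · intro x _
    show rho θ (TT K x) * rho θ (TT K x) = 1
    rw [← map_mul, TT_sq h2, map_one]
  · intro x y _ _
    show rho θ (TT K x) * rho θ (TT K y) * rho θ (TT K x) = rho θ (TT K (act x y))
    rw [← map_mul, ← map_mul, TT_cj h2]
  · have h1 := congrArg (rho θ) (TT_seven hK)
    simp only [map_mul, map_one] at h1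
    exact h1
  · intro U hU
    have key : ∀ g : Matrix.symplecticGroup (Fin 4) K, (∀ v ∈ U, rho θ g v ∈ U) ∧ (∀ v ∈ U, rho θ g⁻¹ v ∈ U) := by
      intro g
      have hg : g ∈ Subgroup.closure {g : Matrix.symplecticGroup (Fin 4) K | ∃ n, Ok n ∧ g = TT K n} := by
        rw [TT_gen hK]
        exact mem_top _
      induction hg using Subgroup.closure_induction with
      | mem x hx =>
        obtain ⟨n, hn, rfl⟩ := hx
        refine ⟨hU n hn, ?_⟩
        rw [TT_inv h2]
        exact hU n hn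
      | one =>
        rw [inv_one, map_one]
        exact ⟨fun v hv => hv, fun v hv => hv⟩
      | mul x y _ _ hx hy =>
        constructor
        · intro v hv
          rw [map_mul]
          exact hx.1 _ (hy.1 v hv)
        · intro v hv
          rw [mul_inv_rev, map_mul]
          exact hy.2 _ (hx.2 v hv)
      | inv x _ hx =>
        refine ⟨hx.2, ?_⟩
        rw [inv_inv]
        exact hx.1
    apply hirr U
    rintro _ ⟨_, ⟨g, rfl⟩, rfl⟩
    rintro _ ⟨v, hv, rfl⟩
    exact (key g).1 v hv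
  · intro e
    have h1 : TT K 1 = 1 := rho_inj hθ (e.trans (map_one _).symm)
    have h3 := TT_vec h2 1 16
    rw [h1] at h3
    have h4 : vec K 16 = vec K (act 1 16) := (Matrix.one_mulVec _).symm.trans h3
    have := vec_inj (K := K) (m := 16) (n := act 1 16) (by norm_num) (by decide) h4
    revert this
    decide
  · rw [Module.finrank_fintype_fun_eq_card, hn]

end Rep

end Cfsg.Agent.H765.EPS
end

private theorem dce_371302f92867 : _root_.True := by
  try have : _root_.True := by simp only [_root_.Cfsg.Agent.H765.EPS.bt.eq_1]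
  try have : _root_.True := by simp only [_root_.Cfsg.Agent.H765.EPS.CS.eq_1]
  try have : _root_.True := by simp only [_root_.Cfsg.Agent.H765.EPS.cc.eq_1]
  try have : _root_.True := by simp only [_root_.Cfsg.Agent.H765.EPS.mt.eq_1]
  exact _root_.True.intro
end

-- part: H128/EP/PslPlug
section
prune_inst 0x200020040840100000000000e0001c4292000000000800000000000004800c0040000020b00021100000000400300000001000800000000000000400000000800080000080080000000000000000000000000000000000000000000000000000000000000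
set_option linter.all false
open scoped Cfsg.Agent.FastGrp

-- part: H793/EP/SLC1
section
/-!
# S3499, linear groups, class C1 (helper793): `m.hat A` is in no stabiliser of a subspace
-/

set_option autoImplicit false

namespace Cfsg.Agent.H793.EP

open Subgroup Cfsg Cfsg.Geo Cfsg.Agent.H284 Cfsg.Agent.H419.EP
open scoped Matrix MatrixGroups

section transvections

variable {ι : Type} [Fintype ι] [DecidableEq ι] {F : Type*} [Field F]

/-- the transvection `v ↦ v + (r ⬝ v) c` -/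
noncomputable def tvn (c r : ι → F) (h : r ⬝ᵥ c = 0) : GL ι F :=
  H908.slMk (1 + Matrix.vecMulVec c r) (by
    rw [Matrix.vecMulVec_eq Unit, Matrix.det_one_add_replicateCol_mul_replicateRow, h, add_zero])

theorem tvn_mem (c r : ι → F) (h : r ⬝ᵥ c = 0) : tvn c r h ∈ specialLinear ι F := H908.slMk_mem _ _

theorem tvn_coe (c r : ι → F) (h : r ⬝ᵥ c = 0) : (tvn c r h : Matrix ι ι F) = 1 + Matrix.vecMulVec c r := rfl

theorem tvn_mulVec (c r : ι → F) (h : r ⬝ᵥ c = 0) (v : ι → F) :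
    (tvn c r h : Matrix ι ι F) *ᵥ v = v + (r ⬝ᵥ v) • c := H918.IsRankOneElt.mulVec (tvn_coe c r h) v

theorem tvn_inv_mulVec (c r : ι → F) (h : r ⬝ᵥ c = 0) (v : ι → F) :
    (((tvn c r h)⁻¹ : GL ι F) : Matrix ι ι F) *ᵥ v = v - (r ⬝ᵥ v) • c := by
  have h1 : (tvn c r h : Matrix ι ι F) *ᵥ (v - (r ⬝ᵥ v) • c) = v := by
    rw [tvn_mulVec, dotProduct_sub, dotProduct_smul, h, smul_zero, sub_zero, sub_add_cancel]
  conv_lhs => rw [← h1]
  rw [Matrix.mulVec_mulVec, ← Units.val_mul, inv_mul_cancel, Units.val_one, Matrix.one_mulVec]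

theorem exists_row (W : Submodule F (ι → F)) {v : ι → F} (hv : v ∉ W) :
    ∃ r : ι → F, (∀ w ∈ W, r ⬝ᵥ w = 0) ∧ r ⬝ᵥ v = 1 := by
  obtain ⟨f, hf, hf'⟩ := Submodule.exists_dual_map_eq_bot_of_notMem hv inferInstance
  have h1 : ∀ u : ι → F, (fun i => (f v)⁻¹ * f (Pi.single i 1)) ⬝ᵥ u = (f v)⁻¹ * f u := by
    intro u
    conv_rhs => rw [LinearMap.pi_apply_eq_sum_univ f u]
    rw [dotProduct, Finset.mul_sum]
    refine Finset.sum_congr rfl fun i _ => ?_
    have h2 : (fun j => if i = j then (1 : F) else 0) = Pi.single i 1 := by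
      funext j
      rw [Pi.single_apply]
      simp only [eq_comm]
    rw [h2, smul_eq_mul]
    ring
  refine ⟨fun i => (f v)⁻¹ * f (Pi.single i 1), ?_, ?_⟩
  · intro w hw
    have h2 : f w ∈ W.map f := ⟨w, hw, rfl⟩
    rw [hf', Submodule.mem_bot] at h2
    rw [h1, h2, mul_zero]
  · rw [h1, inv_mul_cancel₀ hf]

/-- the data for the two transvections -/
theorem exists_data (hn : 3 ≤ Fintype.card ι) {W : Submodule F (ι → F)} (hW : W ≠ ⊥) (hW' : W ≠ ⊤) :
    ∃ c d r s : ι → F, c ∈ W ∧ c ≠ 0 ∧ d ∉ W ∧ (∀ w ∈ W, r ⬝ᵥ w = 0) ∧ (∃ v, r ⬝ᵥ v = 1) ∧ s ⬝ᵥ d = 0 ∧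
      (∃ w ∈ W, s ⬝ᵥ w ≠ 0) ∧ (r ⬝ᵥ d) * (s ⬝ᵥ c) = 0 := by
  classical
  obtain ⟨c, hc, hc0⟩ := Submodule.exists_mem_ne_zero_of_ne_bot hW
  by_cases hall : ∃ d, d ∉ W ∧ W ⊔ Submodule.span F {d} ≠ ⊤
  · obtain ⟨d, hd, hne⟩ := hall
    obtain ⟨v, hv⟩ : ∃ v, v ∉ W ⊔ Submodule.span F {d} := by
      by_contra hcon
      push Not at hcon
      exact hne (Submodule.eq_top_iff'.2 hcon)
    obtain ⟨r, hr, hrv⟩ := exists_row _ hv
    have hcd : c ∉ Submodule.span F {d} := by
      intro h1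
      obtain ⟨a, ha⟩ := Submodule.mem_span_singleton.1 h1
      have ha0 : a ≠ 0 := by
        rintro rfl
        rw [zero_smul] at ha
        exact hc0 ha.symm
      apply hd
      have : d = a⁻¹ • c := by rw [← ha, smul_smul, inv_mul_cancel₀ ha0, one_smul]
      rw [this]
      exact W.smul_mem _ hc
    obtain ⟨s, hs, hsc⟩ := exists_row _ hcd
    have hrd : r ⬝ᵥ d = 0 := hr d (Submodule.mem_sup_right (Submodule.mem_span_singleton_self d))
    refine ⟨c, d, r, s, hc, hc0, hd, fun w hw => hr w (Submodule.mem_sup_left hw), ⟨v, hrv⟩,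
      hs d (Submodule.mem_span_singleton_self d), ⟨c, hc, by rw [hsc]; exact one_ne_zero⟩, by rw [hrd, zero_mul]⟩
  · push Not at hall
    obtain ⟨d, hd⟩ : ∃ d, d ∉ W := by
      by_contra hcon
      push Not at hcon
      exact hW' (Submodule.eq_top_iff'.2 hcon)
    have htop := hall d hd
    obtain ⟨r, hr, hrv⟩ := exists_row _ hd
    obtain ⟨v, hv⟩ : ∃ v, v ∉ Submodule.span F {c, d} := by
      by_contra hcon
      push Not at hcon
      have h1 : Submodule.span F {c, d} = ⊤ := Submodule.eq_top_iff'.2 hcon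
      have h2 : Module.finrank F (Submodule.span F ((({c, d} : Finset (ι → F)) : Set (ι → F)))) ≤ _ :=
        finrank_span_finset_le_card {c, d}
      rw [Finset.coe_insert, Finset.coe_singleton, h1, finrank_top, Module.finrank_fintype_fun_eq_card] at h2
      have h3 := Finset.card_le_two (a := c) (b := d)
      omega
    obtain ⟨s, hs, hsv⟩ := exists_row _ hv
    have hsc : s ⬝ᵥ c = 0 := hs c (Submodule.subset_span (by simp))
    have hsd : s ⬝ᵥ d = 0 := hs d (Submodule.subset_span (by simp))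
    refine ⟨c, d, r, s, hc, hc0, hd, hr, ⟨d, hrv⟩, hsd, ?_, by rw [hsc, mul_zero]⟩
    have h1 : v ∈ W ⊔ Submodule.span F {d} := by rw [htop]; exact Submodule.mem_top
    obtain ⟨w, hw, y, hy, e⟩ := Submodule.mem_sup.1 h1
    obtain ⟨a, rfl⟩ := Submodule.mem_span_singleton.1 hy
    refine ⟨w, hw, ?_⟩
    rw [← e, dotProduct_add, dotProduct_smul, hsd, smul_zero, add_zero] at hsv
    rw [hsv]
    exact one_ne_zero

/-- the elements trivial on `W` and on `V/W` -/
def rad (W : Submodule F (ι → F)) : Subgroup (GL ι F) where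
  carrier := {g | (∀ w ∈ W, (g : Matrix ι ι F) *ᵥ w = w) ∧ ∀ v, (g : Matrix ι ι F) *ᵥ v - v ∈ W}
  one_mem' := by
    constructor
    · intro w _
      rw [Units.val_one, Matrix.one_mulVec]
    · intro v
      rw [Units.val_one, Matrix.one_mulVec, sub_self]
      exact W.zero_mem
  mul_mem' := by
    rintro g k ⟨h1, h2⟩ ⟨h3, h4⟩
    constructor
    · intro w hw
      rw [Units.val_mul, ← Matrix.mulVec_mulVec, h3 w hw, h1 w hw]
    · intro v
      have e : ((g * k : GL ι F) : Matrix ι ι F) *ᵥ v - v =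
          ((k : Matrix ι ι F) *ᵥ v - v) + ((g : Matrix ι ι F) *ᵥ v - v) := by
        have h5 := h1 _ (h4 v)
        rw [Matrix.mulVec_sub] at h5
        rw [Units.val_mul, ← Matrix.mulVec_mulVec, ← h5]
        abel
      rw [e]
      exact W.add_mem (h4 v) (h2 v)
  inv_mem' := by
    rintro g ⟨h1, h2⟩
    have h3 : ∀ w ∈ W, ((g⁻¹ : GL ι F) : Matrix ι ι F) *ᵥ w = w := by
      intro w hw
      conv_lhs => rw [← h1 w hw]
      rw [Matrix.mulVec_mulVec, ← Units.val_mul, inv_mul_cancel, Units.val_one, Matrix.one_mulVec]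
    refine ⟨h3, ?_⟩
    intro v
    have h4 := h3 _ (h2 v)
    rw [Matrix.mulVec_sub, Matrix.mulVec_mulVec, ← Units.val_mul, inv_mul_cancel, Units.val_one,
      Matrix.one_mulVec] at h4
    have e : ((g⁻¹ : GL ι F) : Matrix ι ι F) *ᵥ v - v = - ((g : Matrix ι ι F) *ᵥ v - v) := by
      rw [← h4]
      abel
    rw [e]
    exact W.neg_mem (h2 v)

theorem rad_pow {W : Submodule F (ι → F)} {g : GL ι F} (hg : g ∈ rad W) (k : ℕ) (v : ι → F) :
    ((g ^ k : GL ι F) : Matrix ι ι F) *ᵥ v = v + (k : F) • ((g : Matrix ι ι F) *ᵥ v - v) := by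
  induction k with
  | zero => rw [pow_zero, Units.val_one, Matrix.one_mulVec, Nat.cast_zero, zero_smul, add_zero]
  | succ k ih =>
    rw [pow_succ', Units.val_mul, ← Matrix.mulVec_mulVec, ih, Matrix.mulVec_add, Matrix.mulVec_smul,
      hg.1 _ (hg.2 v), Nat.cast_succ, add_smul, one_smul]
    abel

theorem rad_pow_char {p : ℕ} [CharP F p] {W : Submodule F (ι → F)} {g : GL ι F} (hg : g ∈ rad W) : g ^ p = 1 := by
  apply Units.ext
  apply Matrix.toLin'.injective
  apply LinearMap.ext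
  intro v
  rw [Matrix.toLin'_apply, rad_pow hg, CharP.cast_eq_zero, zero_smul, add_zero, Units.val_one, Matrix.toLin'_one]
  rfl

theorem rad_conj {W : Submodule F (ι → F)} {a g : GL ι F} (ha : a ∈ subspaceStabilizer W) (hg : g ∈ rad W) :
    a * g * a⁻¹ ∈ rad W := by
  have ha' : a⁻¹ ∈ subspaceStabilizer W := inv_mem ha
  have h1 : ∀ v, (a : Matrix ι ι F) *ᵥ (((a⁻¹ : GL ι F) : Matrix ι ι F) *ᵥ v) = v := by
    intro v
    rw [Matrix.mulVec_mulVec, ← Units.val_mul, mul_inv_cancel, Units.val_one, Matrix.one_mulVec]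
  constructor
  · intro w hw
    rw [Units.val_mul, Units.val_mul, ← Matrix.mulVec_mulVec, ← Matrix.mulVec_mulVec,
      hg.1 _ ((H905.mulVec_mem_iff_of_mem_subspaceStabilizer ha' w).1 hw), h1]
  · intro v
    have h2 := (H905.mulVec_mem_iff_of_mem_subspaceStabilizer ha _).1 (hg.2 (((a⁻¹ : GL ι F) : Matrix ι ι F) *ᵥ v))
    rw [Matrix.mulVec_sub, h1] at h2
    rw [Units.val_mul, Units.val_mul, ← Matrix.mulVec_mulVec, ← Matrix.mulVec_mulVec]
    exact h2

theorem rad_le (W : Submodule F (ι → F)) : rad W ≤ subspaceStabilizer W := by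
  have key : ∀ g ∈ rad W, ∀ v ∈ W, (g : Matrix ι ι F) *ᵥ v ∈ W := fun g hg v hv => by
    rw [hg.1 v hv]
    exact hv
  intro g hg v
  refine ⟨key g hg v, fun h1 => ?_⟩
  have h2 := key _ (inv_mem hg) _ h1
  change ((g⁻¹ : GL ι F) : Matrix ι ι F) *ᵥ ((g : Matrix ι ι F) *ᵥ v) ∈ W at h2
  rw [Matrix.mulVec_mulVec, ← Units.val_mul, inv_mul_cancel, Units.val_one, Matrix.one_mulVec] at h2
  exact h2

theorem mem_stab_of_le {W : Submodule F (ι → F)} {g : GL ι F} (h1 : ∀ v ∈ W, (g : Matrix ι ι F) *ᵥ v ∈ W)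
    (h2 : ∀ v ∈ W, ((g⁻¹ : GL ι F) : Matrix ι ι F) *ᵥ v ∈ W) : g ∈ subspaceStabilizer W := by
  intro v
  refine ⟨h1 v, fun h3 => ?_⟩
  have h4 := h2 _ h3
  change ((g⁻¹ : GL ι F) : Matrix ι ι F) *ᵥ ((g : Matrix ι ι F) *ᵥ v) ∈ W at h4
  rw [Matrix.mulVec_mulVec, ← Units.val_mul, inv_mul_cancel, Units.val_one, Matrix.one_mulVec] at h4
  exact h4

end transvections

variable {Q : Type*} [Group Q] [Finite Q] {A : Subgroup Q} {Γ : Subgroup (MulAut Q)}
  {F : Type*} [Field F] [Fintype F] {ι : Type} [Fintype ι] [DecidableEq ι]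

/-- **(SL-C1)** `m.hat A` is in no stabiliser of a subspace -/
theorem sl_c1' (h : EPT A Γ) (m : Model Q (specialLinear ι F)) (hn : 3 ≤ Fintype.card ι)
    {W : Submodule F (ι → F)} (hW : W ≠ ⊥) (hW' : W ≠ ⊤) (hA : m.hat A ≤ subspaceStabilizer W) : False := by
  obtain ⟨p, hp⟩ := CharP.exists F
  have hpp : Fact p.Prime := ⟨CharP.char_is_prime F p⟩
  have hAeq := H918.eq_inf_of_maximal (m.isMaximalIn h.max) hA (H905.not_sl_le_subspaceStabilizer hW hW')
  obtain ⟨c, d, r, s, hc, hc0, hd, hr, ⟨v, hv⟩, hsd, ⟨w, hw, hsw⟩, hrs⟩ := exists_data hn hW hW'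
  have hrc : r ⬝ᵥ c = 0 := hr c hc
  set t : GL ι F := tvn c r hrc with ht
  set x : GL ι F := tvn d s hsd with hx
  have hxS : x ∈ specialLinear ι F := tvn_mem _ _ _
  have htS : t ∈ specialLinear ι F := tvn_mem _ _ _
  -- `t` is in the radical
  have htr : t ∈ rad W := by
    constructor
    · intro y hy
      rw [ht, tvn_mulVec, hr y hy, zero_smul, add_zero]
    · intro y
      rw [ht, tvn_mulVec, add_sub_cancel_left]
      exact W.smul_mem _ hc
  -- `x` does not stabilise `W`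
  have hxA : x ∉ m.hat A := by
    rw [hAeq]
    rintro ⟨h1, -⟩
    have h2 := (H905.mulVec_mem_iff_of_mem_subspaceStabilizer h1 w).1 hw
    rw [hx, tvn_mulVec] at h2
    have h3 : (s ⬝ᵥ w) • d ∈ W := by
      have := W.sub_mem h2 hw
      rwa [add_sub_cancel_left] at this
    apply hd
    have h4 := W.smul_mem (s ⬝ᵥ w)⁻¹ h3
    rwa [smul_smul, inv_mul_cancel₀ hsw, one_smul] at h4
  -- the conjugate of `t` stabilises `W`
  have key : ∀ (b : F) (y : ι → F), y ∈ W → ((x⁻¹ : GL ι F) : Matrix ι ι F) *ᵥ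
      (((x : Matrix ι ι F) *ᵥ y) + (b * (r ⬝ᵥ ((x : Matrix ι ι F) *ᵥ y))) • c) ∈ W := by
    intro b y hy
    rw [hx, tvn_inv_mulVec, tvn_mulVec]
    have e1 : r ⬝ᵥ (y + (s ⬝ᵥ y) • d) = (s ⬝ᵥ y) * (r ⬝ᵥ d) := by
      rw [dotProduct_add, dotProduct_smul, hr y hy, zero_add, smul_eq_mul]
    have e2 : s ⬝ᵥ (y + (s ⬝ᵥ y) • d + (b * ((s ⬝ᵥ y) * (r ⬝ᵥ d))) • c) = s ⬝ᵥ y := by
      rw [dotProduct_add, dotProduct_add, dotProduct_smul, dotProduct_smul, hsd, smul_zero, add_zero, smul_eq_mul]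
      linear_combination b * (s ⬝ᵥ y) * hrs
    rw [e1, e2]
    have e3 : y + (s ⬝ᵥ y) • d + (b * ((s ⬝ᵥ y) * (r ⬝ᵥ d))) • c - (s ⬝ᵥ y) • d =
        y + (b * ((s ⬝ᵥ y) * (r ⬝ᵥ d))) • c := by abel
    rw [e3]
    exact W.add_mem hy (W.smul_mem _ hc)
  have hxt : x⁻¹ * t * x ∈ m.hat A := by
    rw [hAeq]
    refine ⟨mem_stab_of_le ?_ ?_, (specialLinear ι F).mul_mem ((specialLinear ι F).mul_mem
      ((specialLinear ι F).inv_mem hxS) htS) hxS⟩
    · intro y hy
      rw [Units.val_mul, Units.val_mul, ← Matrix.mulVec_mulVec, ← Matrix.mulVec_mulVec, ht, tvn_mulVec c r hrc]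
      have := key 1 y hy
      rwa [one_mul] at this
    · intro y hy
      have e : (x⁻¹ * t * x)⁻¹ = x⁻¹ * t⁻¹ * x := by group
      rw [e, Units.val_mul, Units.val_mul, ← Matrix.mulVec_mulVec, ← Matrix.mulVec_mulVec, ht,
        tvn_inv_mulVec c r hrc, sub_eq_add_neg, ← neg_smul]
      have := key (-1) y hy
      rwa [neg_one_mul] at this
  -- the image of the radical
  set K : Subgroup Q := ((rad W).subgroupOf (specialLinear ι F)).map m.π with hK
  have hKA : K ≤ A := by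
    rintro _ ⟨k, hk, rfl⟩
    rw [← m.mem_hat_iff, hAeq]
    exact ⟨rad_le W hk, k.2⟩
  have hKn : ∀ a ∈ A, ∀ k ∈ K, a * k * a⁻¹ ∈ K := by
    rintro a ha _ ⟨k, hk, rfl⟩
    obtain ⟨b, rfl⟩ := m.surj a
    rw [← m.mem_hat_iff, hAeq] at ha
    refine ⟨b * k * b⁻¹, rad_conj ha.1 hk, ?_⟩
    rw [map_mul, map_mul, map_inv]
  have hKp : IsPGroup p K := by
    rintro ⟨_, k, hk, rfl⟩
    refine ⟨1, Subtype.ext ?_⟩
    rw [pow_one]
    change (m.π k) ^ p = 1
    rw [← map_pow]
    have : k ^ p = 1 := Subtype.ext (rad_pow_char hk)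
    rw [this, map_one]
  have hxA' : m.π ⟨x, hxS⟩ ∉ A := fun h1 => hxA ((m.mem_hat_iff ⟨x, hxS⟩).2 h1)
  have h1 := pgroup_free h hKA hKn hKp hxA' (k := m.π ⟨t, htS⟩) ⟨⟨t, htS⟩, htr, rfl⟩ (by
    rw [mem_cj, ← map_inv, ← map_mul, ← map_mul, ← m.mem_hat_iff]
    exact hxt)
  rw [m.ker] at h1
  obtain ⟨b, hb⟩ := (mem_scalars_iff t).1 h1
  -- a scalar transvection is trivial
  have h2 : (t : Matrix ι ι F) *ᵥ c = c := htr.1 c hc
  rw [hb, Matrix.smul_mulVec, Matrix.one_mulVec] at h2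
  have h3 : (b : F) = 1 := by
    have h4 : ((b : F) - 1) • c = 0 := by rw [sub_smul, one_smul, h2, sub_self]
    rcases smul_eq_zero.1 h4 with h5 | h5
    · exact sub_eq_zero.1 h5
    · exact absurd h5 hc0
  have h4 : (t : Matrix ι ι F) *ᵥ v = v := by rw [hb, h3, one_smul, Matrix.one_mulVec]
  rw [ht, tvn_mulVec, hv, one_smul, add_eq_left] at h4
  exact hc0 h4

/-- **(SL-C1)** -/
theorem sl_c1 (_hs : IsSimpleGroup Q) (h : EPT A Γ) {n : ℕ} (m : Model Q (specialLinear (Fin n) F)) (hn : 3 ≤ n)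
    {W : Submodule F (Fin n → F)} (hW : W ≠ ⊥) (hW' : W ≠ ⊤) (hA : m.hat A ≤ subspaceStabilizer W) : False :=
  sl_c1' h m (by rwa [Fintype.card_fin]) hW hW' hA

end Cfsg.Agent.H793.EP
end

-- part: H622/EP/SubL
section
/-!
# S3499, class C5 of the linear groups (helper622)

`x = P diag(u, u⁻¹, 1, …, 1) P⁻¹`, `M0` is centralised by `x`, a monomial element inverting `x` normalises `M0`.
-/

set_option autoImplicit false
set_option linter.unusedSectionVars false

namespace Cfsg.Agent.H622.EP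

open Subgroup Cfsg Cfsg.Agent.H284 Cfsg.Agent.H419.EP
open scoped MatrixGroups

section general

variable {Q : Type*} [Group Q] [Finite Q] {A : Subgroup Q} {Γ : Subgroup (MulAut Q)}

/-- **Kill**: `w ∈ A` inverts `x`, `x² ∉ A`, `x` centralises `A ∩ A^x`. -/
theorem kill_inv (h : EPT A Γ) {x w : Q} (hw : w ∈ A) (hwx : w * x * w⁻¹ = x⁻¹) (hx2 : x * x ∉ A)
    (hc : ∀ a ∈ A, x⁻¹ * a * x ∈ A → a * x = x * a) : False := by
  have hx : x ∉ A := fun hx => hx2 (A.mul_mem hx hx)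
  have e1 : x⁻¹ * w = w * x := by rw [← hwx]; group
  have e2 : w⁻¹ * x = x⁻¹ * w⁻¹ := by
    have h1 : (x⁻¹ * w)⁻¹ = (w * x)⁻¹ := by rw [e1]
    rw [mul_inv_rev, mul_inv_rev, inv_inv] at h1
    exact h1
  have h1 := h.norm_aut hx (K := A ⊓ cj x A) le_rfl (fun σ hσ k hk => hσ k hk) (h.M0 x hx) hw (by
    intro k hk
    have hkc := hc k (mem_inf.1 hk).1 (mem_cj.1 (mem_inf.1 hk).2)
    have hwk : w * k * w⁻¹ ∈ A := A.mul_mem (A.mul_mem hw (mem_inf.1 hk).1) (A.inv_mem hw)
    refine ⟨hwk, mem_cj.2 ?_⟩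
    have e : x⁻¹ * (w * k * w⁻¹) * x = w * k * w⁻¹ := by
      calc x⁻¹ * (w * k * w⁻¹) * x = (x⁻¹ * w) * k * (w⁻¹ * x) := by group
        _ = w * x * k * (x⁻¹ * w⁻¹) := by rw [e1, e2]
        _ = w * (x * k) * x⁻¹ * w⁻¹ := by group
        _ = w * (k * x) * x⁻¹ * w⁻¹ := by rw [hkc]
        _ = w * k * w⁻¹ := by group
    rw [e]
    exact hwk)
  have h2 := mem_cj.1 h1
  apply hx2
  have e : x⁻¹ * w * x = w * (x * x) := by rw [e1]; group
  rw [e] at h2
  exact (Subgroup.mul_mem_cancel_left A hw).1 h2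

/-- the form for the matrix groups -/
theorem kill_inv_hat (h : EPT A Γ) {ι : Type} [Fintype ι] [DecidableEq ι] {F : Type*} [Field F] {S : Subgroup (GL ι F)}
    (m : Model Q S) {M : Subgroup (GL ι F)} (hM : m.hat A ≤ M) {x w : GL ι F} (hxS : x ∈ S) (hwS : w ∈ S) (hwM : w ∈ M)
    (hwx : w * x * w⁻¹ = x⁻¹) (hx2 : x * x ∉ M) (hc : ∀ a ∈ M, x⁻¹ * a * x ∈ M → a * x = x * a) : False := by
  have hmax := m.isMaximalIn h.max
  have hle : m.hat A ≤ M ⊓ S := le_inf hM (m.hat_le A)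
  have heq : M ⊓ S = m.hat A := by
    rcases hmax.2 _ hle inf_le_right with h1 | h1
    · exact h1
    · exfalso
      apply hx2
      have : x * x ∈ M ⊓ S := by rw [h1]; exact S.mul_mem hxS hxS
      exact (mem_inf.1 this).1
  have hmem : ∀ s : S, m.π s ∈ A ↔ (s : GL ι F) ∈ M := by
    intro s
    rw [← m.mem_hat_iff, ← heq, mem_inf]
    exact ⟨fun h => h.1, fun h => ⟨h, s.2⟩⟩
  refine kill_inv h (x := m.π ⟨x, hxS⟩) (w := m.π ⟨w, hwS⟩) ((hmem _).2 hwM) ?_ ?_ ?_
  · rw [← map_mul, ← map_inv, ← map_mul, ← map_inv]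
    congr 1
    exact Subtype.ext hwx
  · rw [← map_mul, hmem]
    exact hx2
  · intro a ha hax
    obtain ⟨a, rfl⟩ := m.surj a
    rw [← map_inv, ← map_mul, ← map_mul, hmem] at hax
    rw [hmem] at ha
    rw [← map_mul, ← map_mul]
    congr 1
    exact Subtype.ext (hc a ha hax)

end general

section SL

variable {F : Type*} [Field F] {n : ℕ}

/-- rational up to a scalar -/
def Rat (F₀ : Subfield F) (g : Matrix (Fin n) (Fin n) F) : Prop := ∃ μ : F, μ ≠ 0 ∧ ∀ i j, μ * g i j ∈ F₀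

theorem rat_of_mem {F₀ : Subfield F} {P g : GL (Fin n) F} (h : g ∈ Geo.subfieldSubgroup F₀ P) :
    Rat F₀ ((P⁻¹ * g * P : GL (Fin n) F) : Matrix (Fin n) (Fin n) F) := by
  obtain ⟨k, hk, rfl⟩ := h
  have e : P⁻¹ * ((MulAut.conj P).toMonoidHom k) * P = k := by
    show P⁻¹ * (P * k * P⁻¹) * P = k
    group
  rw [e]
  have hcen : ∀ z ∈ Geo.scalars (Fin n) F, ∀ g : GL (Fin n) F, g * z = z * g := by
    intro z hz g
    obtain ⟨c, hc⟩ := (Geo.mem_scalars_iff z).1 hz
    apply Units.ext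
    rw [Units.val_mul, Units.val_mul, hc]
    simp
  have hn : (Geo.scalars (Fin n) F).Normal := by
    refine ⟨fun z hz g => ?_⟩
    rw [hcen z hz g, mul_inv_cancel_right]
    exact hz
  obtain ⟨_, ⟨g0, rfl⟩, z, hz, rfl⟩ := (Subgroup.mem_sup_of_normal_right).1 hk
  obtain ⟨c, hc⟩ := (Geo.mem_scalars_iff z).1 hz
  refine ⟨((c⁻¹ : Fˣ) : F), Units.ne_zero _, fun i j => ?_⟩
  have e2 : ((Matrix.GeneralLinearGroup.map (F₀.subtype : F₀ →+* F) g0 * z : GL (Fin n) F) :
      Matrix (Fin n) (Fin n) F) i j = (g0 i j : F) * c := by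
    rw [Units.val_mul, hc]
    simp [mul_comm]
  rw [e2]
  have e3 : ((c⁻¹ : Fˣ) : F) * ((g0 i j : F) * c) = (g0 i j : F) := by
    rw [mul_comm, mul_assoc, Units.mul_inv, mul_one]
  rw [e3]
  exact (g0 i j).2

/-- the support argument -/
theorem comm_of_rat {F₀ : Subfield F} {d : Fin n → F} (hd : ∀ i, d i ≠ 0) {u : F} (hu : u ≠ 0)
    (hn : 3 ≤ n) (h0 : d ⟨0, by omega⟩ = u) (h1 : d ⟨1, by omega⟩ = u⁻¹) (h2 : ∀ i : Fin n, 2 ≤ (i : ℕ) → d i = 1)
    (hu2 : u ^ 2 ∉ F₀) (hu3 : n = 3 → u ^ 3 ∉ F₀)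
    {g : Matrix (Fin n) (Fin n) F} (hg : g.det ≠ 0) (hr : Rat F₀ g) (hr' : ∃ ν : F, ν ≠ 0 ∧ ∀ i j, ν * ((d i)⁻¹ * g i j * d j) ∈ F₀)
    (i j : Fin n) (hij : g i j ≠ 0) : d i = d j := by
  classical
  obtain ⟨μ, hμ, hμ'⟩ := hr
  obtain ⟨ν, hν, hν'⟩ := hr'
  set c : F := ν / μ with hc
  have hc0 : c ≠ 0 := div_ne_zero hν hμ
  -- `c d_j / d_i ∈ F₀` on the support
  have hs : ∀ i j, g i j ≠ 0 → c * (d j / d i) ∈ F₀ := by
    intro i j hij
    have e : c * (d j / d i) = (ν * ((d i)⁻¹ * g i j * d j)) / (μ * g i j) := by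
      have := hd i
      rw [hc]
      field_simp
    rw [e]
    exact F₀.div_mem (hν' i j) (hμ' i j)
  -- a permutation in the support
  obtain ⟨π, hπ⟩ : ∃ π : Equiv.Perm (Fin n), ∀ i, g (π i) i ≠ 0 := by
    by_contra hcon
    push Not at hcon
    apply hg
    rw [Matrix.det_apply]
    refine Finset.sum_eq_zero fun σ _ => ?_
    obtain ⟨i, hi⟩ := hcon σ
    have h3 : ∏ i, g (σ i) i = 0 := Finset.prod_eq_zero (Finset.mem_univ i) hi
    exact (congrArg (fun t : F => Equiv.Perm.sign σ • t) h3).trans (smul_zero _)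
  have hval : ∀ i : Fin n, d i = u ∨ d i = u⁻¹ ∨ d i = 1 := by
    intro i
    by_cases hi0 : (i : ℕ) = 0
    · left
      rw [← h0]
      congr 1
      exact Fin.ext hi0
    · by_cases hi1 : (i : ℕ) = 1
      · right; left
        rw [← h1]
        congr 1
        exact Fin.ext hi1
      · exact Or.inr (Or.inr (h2 i (by omega)))
  have hp : ∀ i, c * (d i / d (π i)) ∈ F₀ := fun i => hs (π i) i (hπ i)
  have hu2' : ∀ a : F, a ∈ F₀ → a⁻¹ ∈ F₀ := fun a ha => F₀.inv_mem ha
  -- `c u ∈ F₀` and `c u⁻¹ ∈ F₀` are impossible together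
  have hboth : c * u ∈ F₀ → c * u⁻¹ ∈ F₀ → False := by
    intro ha hb
    apply hu2
    have e : u ^ 2 = (c * u) / (c * u⁻¹) := by field_simp
    rw [e]
    exact F₀.div_mem ha hb
  have hu1 : c * (1 / u) = c * u⁻¹ := by rw [one_div]
  have hu1' : c * (1 / u⁻¹) = c * u := by rw [one_div, inv_inv]
  -- the column of an index `i ≥ 2`
  have hcol : ∀ i : Fin n, 2 ≤ (i : ℕ) → c ∈ F₀ ∨ ((π i : ℕ) = 0 ∧ c * u⁻¹ ∈ F₀) ∨ ((π i : ℕ) = 1 ∧ c * u ∈ F₀) := by
    intro i hi
    have h3 := hp i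
    rw [h2 i hi] at h3
    by_cases hi0 : (π i : ℕ) = 0
    · right; left
      have e : π i = ⟨0, by omega⟩ := Fin.ext hi0
      rw [e, h0, hu1] at h3
      exact ⟨hi0, h3⟩
    · by_cases hi1 : (π i : ℕ) = 1
      · right; right
        have e : π i = ⟨1, by omega⟩ := Fin.ext hi1
        rw [e, h1, hu1'] at h3
        exact ⟨hi1, h3⟩
      · left
        rw [h2 (π i) (by omega), div_one, mul_one] at h3
        exact h3
  have hcF : c ∈ F₀ := by
    by_contra hcF
    have hcase := hcol ⟨2, by omega⟩ le_rfl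
    by_cases hn4 : 4 ≤ n
    · have hcase' := hcol ⟨3, by omega⟩ (by norm_num)
      have hne : π ⟨2, by omega⟩ ≠ π ⟨3, by omega⟩ := fun e => by
        have := π.injective e
        rw [Fin.mk.injEq] at this
        omega
      rcases hcase with h | ⟨ha, ha'⟩ | ⟨ha, ha'⟩
      · exact hcF h
      · rcases hcase' with h | ⟨hb, hb'⟩ | ⟨hb, hb'⟩
        · exact hcF h
        · exact hne (Fin.ext (ha.trans hb.symm))
        · exact hboth hb' ha'
      · rcases hcase' with h | ⟨hb, hb'⟩ | ⟨hb, hb'⟩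
        · exact hcF h
        · exact hboth ha' hb'
        · exact hne (Fin.ext (ha.trans hb.symm))
    · have hn3 : n = 3 := by omega
      have hu3' := hu3 hn3
      rcases hcase with h | ⟨ha, ha'⟩ | ⟨ha, ha'⟩
      · exact hcF h
      · -- `π 2 = 0`, `c u⁻¹ ∈ F₀`; the index 0
        have h3 := hp ⟨0, by omega⟩
        rw [h0] at h3
        have hne : (π ⟨0, by omega⟩ : ℕ) ≠ 0 := fun e => by
          have := π.injective (Fin.ext (e.trans ha.symm))
          rw [Fin.mk.injEq] at this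
          omega
        by_cases hi1 : (π ⟨0, by omega⟩ : ℕ) = 1
        · have e : π ⟨0, by omega⟩ = ⟨1, by omega⟩ := Fin.ext hi1
          rw [e, h1] at h3
          apply hu3'
          have e2 : u ^ 3 = (c * (u / u⁻¹)) / (c * u⁻¹) := by field_simp
          rw [e2]
          exact F₀.div_mem h3 ha'
        · rw [h2 (π _) (by omega), div_one] at h3
          exact hboth h3 ha'
      · have h3 := hp ⟨1, by omega⟩
        rw [h1] at h3
        have hne : (π ⟨1, by omega⟩ : ℕ) ≠ 1 := fun e => by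
          have := π.injective (Fin.ext (e.trans ha.symm))
          rw [Fin.mk.injEq] at this
          omega
        by_cases hi1 : (π ⟨1, by omega⟩ : ℕ) = 0
        · have e : π ⟨1, by omega⟩ = ⟨0, by omega⟩ := Fin.ext hi1
          rw [e, h0] at h3
          apply hu3'
          have e2 : u ^ 3 = (c * u) / (c * (u⁻¹ / u)) := by field_simp
          rw [e2]
          exact F₀.div_mem ha' h3
        · rw [h2 (π _) (by omega), div_one] at h3
          exact hboth ha' h3
  have hrat : d j / d i ∈ F₀ := by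
    have h3 := F₀.div_mem (hs i j hij) hcF
    rwa [mul_div_cancel_left₀ _ hc0] at h3
  have k1 : u ∉ F₀ := fun h => hu2 (F₀.pow_mem h 2)
  have k2 : u⁻¹ ∉ F₀ := fun h => k1 (by simpa using F₀.inv_mem h)
  have k3 : u / u⁻¹ ∉ F₀ := fun h => hu2 (by
    have e : u ^ 2 = u / u⁻¹ := by field_simp
    rw [e]; exact h)
  have k4 : u⁻¹ / u ∉ F₀ := fun h => k3 (by
    have e : u / u⁻¹ = (u⁻¹ / u)⁻¹ := by field_simp
    rw [e]; exact F₀.inv_mem h)
  rcases hval i with hi | hi | hi <;> rcases hval j with hj | hj | hj <;> rw [hi, hj] at hrat ⊢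
  · exact absurd hrat k4
  · rw [one_div] at hrat
    exact absurd hrat k2
  · exact absurd hrat k3
  · rw [one_div, inv_inv] at hrat
    exact absurd hrat k1
  · rw [div_one] at hrat
    exact absurd hrat k1
  · rw [div_one] at hrat
    exact absurd hrat k2


/-! ### the elements -/

/-- `diag(u, u⁻¹, 1, …, 1)` -/
def dg (n : ℕ) (u : F) (i : Fin n) : F := if (i : ℕ) = 0 then u else if (i : ℕ) = 1 then u⁻¹ else 1

theorem dg_ne {u : F} (hu : u ≠ 0) (i : Fin n) : dg n u i ≠ 0 := by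
  unfold dg
  split_ifs
  · exact hu
  · exact inv_ne_zero hu
  · exact one_ne_zero

theorem prod_dg (hn : 3 ≤ n) {u : F} (hu : u ≠ 0) : ∏ i, dg n u i = 1 := by
  obtain ⟨k, rfl⟩ : ∃ k, n = k + 2 := ⟨n - 2, by omega⟩
  rw [Fin.prod_univ_succ, Fin.prod_univ_succ, Finset.prod_eq_one]
  · simp [dg, hu]
  · intro i _
    simp [dg]

/-- the diagonal element -/
noncomputable def DG (n : ℕ) {u : F} (hu : u ≠ 0) : GL (Fin n) F :=
  Matrix.GeneralLinearGroup.mkOfDetNeZero (Matrix.diagonal (dg n u)) (by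
    rw [Matrix.det_diagonal]
    exact Finset.prod_ne_zero_iff.2 fun i _ => dg_ne hu i)

theorem DG_val (n : ℕ) {u : F} (hu : u ≠ 0) : ((DG n hu : GL (Fin n) F) : Matrix (Fin n) (Fin n) F) =
    Matrix.diagonal (dg n u) := rfl

/-- the sign vector -/
def ep (n : ℕ) (K : Type*) [Field K] (i : Fin n) : K := if (i : ℕ) = 0 then -1 else 1

/-- the monomial matrix -/
def WM (n : ℕ) (hn : 3 ≤ n) (K : Type*) [Field K] : Matrix (Fin n) (Fin n) K :=
  (Equiv.swap (⟨0, by omega⟩ : Fin n) ⟨1, by omega⟩).permMatrix K * Matrix.diagonal (ep n K)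

theorem det_WM (hn : 3 ≤ n) (K : Type*) [Field K] : (WM n hn K).det = 1 := by
  unfold WM
  rw [Matrix.det_mul, Matrix.det_permutation, Matrix.det_diagonal, Equiv.Perm.sign_swap (by simp)]
  obtain ⟨k, rfl⟩ : ∃ k, n = k + 1 := ⟨n - 1, by omega⟩
  rw [Fin.prod_univ_succ, Finset.prod_eq_one]
  · simp [ep]
  · intro i _
    simp [ep]

noncomputable def WG (n : ℕ) (hn : 3 ≤ n) (K : Type*) [Field K] : GL (Fin n) K :=
  Matrix.GeneralLinearGroup.mkOfDetNeZero (WM n hn K) (by rw [det_WM]; exact one_ne_zero)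

theorem WG_map (hn : 3 ≤ n) (F₀ : Subfield F) :
    Matrix.GeneralLinearGroup.map (F₀.subtype : F₀ →+* F) (WG n hn F₀) = WG n hn F := by
  apply Units.ext
  show (WM n hn F₀).map (F₀.subtype : F₀ →+* F) = WM n hn F
  unfold WM
  rw [Matrix.map_mul, Matrix.diagonal_map (map_zero _)]
  congr 1
  · exact PEquiv.map_toMatrix _ _
  · congr 1
    funext i
    simp only [ep]
    split_ifs <;> simp only [_root_.Subfield.subtype_apply, _root_.NegMemClass.coe_neg, _root_.OneMemClass.coe_one]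

theorem W_mul_D (hn : 3 ≤ n) {u : F} (hu : u ≠ 0) : WG n hn F * DG n hu * (WG n hn F)⁻¹ = (DG n hu)⁻¹ := by
  have key : DG n hu * WG n hn F * DG n hu = WG n hn F := by
    apply Units.ext
    show Matrix.diagonal (dg n u) * WM n hn F * Matrix.diagonal (dg n u) = WM n hn F
    ext i j
    rw [Matrix.mul_diagonal, Matrix.diagonal_mul]
    unfold WM
    rw [Matrix.mul_diagonal]
    by_cases hij : (Equiv.swap (⟨0, by omega⟩ : Fin n) ⟨1, by omega⟩) i = j
    · have h1 : dg n u i * dg n u j = 1 := by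
        rw [← hij]
        by_cases h0 : (i : ℕ) = 0
        · have e : i = ⟨0, by omega⟩ := Fin.ext h0
          rw [e, Equiv.swap_apply_left]
          simp [dg, hu]
        · by_cases h1 : (i : ℕ) = 1
          · have e : i = ⟨1, by omega⟩ := Fin.ext h1
            rw [e, Equiv.swap_apply_right]
            simp [dg, hu]
          · rw [Equiv.swap_apply_of_ne_of_ne (fun e => h0 (congrArg Fin.val e)) (fun e => h1 (congrArg Fin.val e))]
            simp [dg, h0, h1]
      calc dg n u i * (Equiv.Perm.permMatrix F (Equiv.swap (⟨0, by omega⟩ : Fin n) ⟨1, by omega⟩) i j * ep n F j) *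
            dg n u j = (dg n u i * dg n u j) *
            (Equiv.Perm.permMatrix F (Equiv.swap (⟨0, by omega⟩ : Fin n) ⟨1, by omega⟩) i j * ep n F j) := by ring
        _ = _ := by rw [h1, one_mul]
    · have h1 : Equiv.Perm.permMatrix F (Equiv.swap (⟨0, by omega⟩ : Fin n) ⟨1, by omega⟩) i j = 0 := by
        rw [Equiv.Perm.permMatrix, PEquiv.toMatrix_apply, if_neg]
        rw [Equiv.toPEquiv_apply, Option.mem_def, Option.some.injEq]
        exact hij
      rw [h1]
      ring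
  rw [mul_inv_eq_iff_eq_mul, eq_inv_mul_iff_mul_eq, ← mul_assoc]
  exact key

end SL

/-! ### the numbers -/

theorem exists_u {F : Type*} [Field F] [Fintype F] (F₀ : Subfield F) {r : ℕ} (hr : r.Prime)
    (hF : Fintype.card F = Nat.card F₀ ^ r) : ∃ u : F, u ≠ 0 ∧ u ^ 2 ∉ F₀ ∧ (Fintype.card F ≠ 4 → u ^ 3 ∉ F₀) := by
  classical
  obtain ⟨g, hg⟩ := IsCyclic.exists_generator (α := Fˣ)
  have ho : orderOf g = Fintype.card F - 1 := by
    rw [orderOf_eq_card_of_forall_mem_zpowers hg, Nat.card_eq_fintype_card, Fintype.card_units]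
  set q0 := Nat.card F₀ with hq0
  have hq02 : 2 ≤ q0 := by
    rw [hq0, Nat.card_eq_fintype_card]
    exact Fintype.one_lt_card
  have hle : q0 ^ 2 ≤ Fintype.card F := by
    rw [hF]
    exact Nat.pow_le_pow_right (by omega) hr.two_le
  have key : ∀ k, 0 < k → (g : F) ^ k ∈ F₀ → Fintype.card F - 1 ∣ k * (q0 - 1) := by
    intro k _ hk
    rw [← ho]
    apply orderOf_dvd_of_pow_eq_one
    apply Units.ext
    rw [pow_mul]
    push_cast
    have h1 : (⟨(g : F) ^ k, hk⟩ : F₀) ^ (q0 - 1) = 1 := by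
      rw [hq0, Nat.card_eq_fintype_card]
      apply FiniteField.pow_card_sub_one_eq_one
      intro h
      have : (g : F) ^ k = 0 := congrArg Subtype.val h
      exact pow_ne_zero k (Units.ne_zero g) this
    exact congrArg Subtype.val h1
  refine ⟨g, Units.ne_zero g, fun h => ?_, fun h4 h => ?_⟩
  · have h1 := Nat.le_of_dvd (by omega) (key 2 (by norm_num) h)
    obtain ⟨a, ha⟩ : ∃ a, q0 = a + 2 := ⟨q0 - 2, by omega⟩
    rw [ha] at h1 hle
    have e1 : (a + 2) ^ 2 = a * a + 4 * a + 4 := by ring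
    rw [e1] at hle
    have h2 : a + 2 - 1 = a + 1 := by omega
    rw [h2] at h1
    have h3 : a * a ≥ 0 := Nat.zero_le _
    omega
  · have hd := key 3 (by norm_num) h
    have h1 := Nat.le_of_dvd (by omega) hd
    obtain ⟨a, ha⟩ : ∃ a, q0 = a + 2 := ⟨q0 - 2, by omega⟩
    rw [ha] at h1 hle hd
    have e1 : (a + 2) ^ 2 = a * a + 4 * a + 4 := by ring
    rw [e1] at hle
    have h2 : a + 2 - 1 = a + 1 := by omega
    rw [h2] at h1 hd
    have h3 : a = 0 := by
      by_contra hne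
      have : 1 ≤ a := by omega
      have : a ≤ a * a := Nat.le_mul_self a
      omega
    subst h3
    apply h4
    have h5 : Fintype.card F ≤ 4 := by omega
    omega

/-- **S3499-III-SL-C5** -/
theorem sl_C5 {Q : Type*} [Group Q] [Finite Q] {A : Subgroup Q} {Γ : Subgroup (MulAut Q)} (h : EPT A Γ)
    {F : Type*} [Field F] [Fintype F] {n : ℕ} (m : Model Q (Geo.specialLinear (Fin n) F)) (hn : 3 ≤ n)
    (h34 : ¬ (n = 3 ∧ Fintype.card F = 4)) (F₀ : Subfield F) {r : ℕ} (hr : r.Prime)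
    (hF : Fintype.card F = Nat.card F₀ ^ r) (P : GL (Fin n) F)
    (hA : m.hat A ≤ Geo.subfieldSubgroup F₀ P) : False := by
  obtain ⟨u, hu, hu2, hu3⟩ := exists_u F₀ hr hF
  have hdetD : (DG n hu : GL (Fin n) F) ∈ Geo.specialLinear (Fin n) F := by
    show Matrix.GeneralLinearGroup.det _ = 1
    apply Units.ext
    show (Matrix.diagonal (dg n u)).det = 1
    rw [Matrix.det_diagonal, prod_dg hn hu]
  have hdetW : WG n hn F ∈ Geo.specialLinear (Fin n) F := by
    show Matrix.GeneralLinearGroup.det _ = 1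
    apply Units.ext
    show (WM n hn F).det = 1
    exact det_WM hn F
  have hN : (Geo.specialLinear (Fin n) F).Normal := by
    unfold Geo.specialLinear
    infer_instance
  refine kill_inv_hat h m hA (x := P * DG n hu * P⁻¹) (w := P * WG n hn F * P⁻¹) (hN.conj_mem _ hdetD _)
    (hN.conj_mem _ hdetW _) ?_ ?_ ?_ ?_
  · refine ⟨WG n hn F, ?_, rfl⟩
    refine (le_sup_left : _ ≤ _ ⊔ Geo.scalars (Fin n) F) ⟨WG n hn F₀, WG_map hn F₀⟩
  · have := W_mul_D hn hu
    calc P * WG n hn F * P⁻¹ * (P * DG n hu * P⁻¹) * (P * WG n hn F * P⁻¹)⁻¹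
        = P * (WG n hn F * DG n hu * (WG n hn F)⁻¹) * P⁻¹ := by group
      _ = (P * DG n hu * P⁻¹)⁻¹ := by rw [this]; group
  · intro hx
    obtain ⟨μ, hμ, hμ'⟩ := rat_of_mem hx
    have e : P⁻¹ * (P * DG n hu * P⁻¹ * (P * DG n hu * P⁻¹)) * P = DG n hu * DG n hu := by group
    rw [e] at hμ'
    have h1 := hμ' ⟨0, by omega⟩ ⟨0, by omega⟩
    have h2 := hμ' ⟨2, by omega⟩ ⟨2, by omega⟩
    have hv : ((DG n hu * DG n hu : GL (Fin n) F) : Matrix (Fin n) (Fin n) F) =
        Matrix.diagonal fun i => dg n u i * dg n u i := by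
      rw [Units.val_mul, DG_val, Matrix.diagonal_mul_diagonal]
    rw [hv, Matrix.diagonal_apply_eq] at h1 h2
    simp only [dg, if_true] at h1 h2
    norm_num at h2
    apply hu2
    have e3 : u ^ 2 = (μ * (u * u)) / μ := by field_simp
    rw [e3]
    exact F₀.div_mem h1 h2
  · intro a ha hax
    have hr1 := rat_of_mem ha
    obtain ⟨ν, hν, hν'⟩ := rat_of_mem hax
    obtain ⟨b, hb⟩ : ∃ b, b = P⁻¹ * a * P := ⟨_, rfl⟩
    have e1 : P⁻¹ * ((P * DG n hu * P⁻¹)⁻¹ * a * (P * DG n hu * P⁻¹)) * P = (DG n hu)⁻¹ * b * DG n hu := by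
      rw [hb]; group
    rw [e1] at hν'
    rw [← hb] at hr1
    have hDinv : (((DG n hu)⁻¹ : GL (Fin n) F) : Matrix (Fin n) (Fin n) F) = Matrix.diagonal fun i => (dg n u i)⁻¹ := by
      symm
      apply Units.eq_inv_of_mul_eq_one_right
      rw [DG_val, Matrix.diagonal_mul_diagonal]
      rw [← Matrix.diagonal_one]
      congr 1
      funext i
      exact inv_mul_cancel₀ (dg_ne hu i)
    have hent : ∀ i j, (((DG n hu)⁻¹ * b * DG n hu : GL (Fin n) F) : Matrix (Fin n) (Fin n) F) i j =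
        (dg n u i)⁻¹ * b i j * dg n u j := by
      intro i j
      rw [Units.val_mul, Units.val_mul, hDinv, DG_val, Matrix.mul_diagonal, Matrix.diagonal_mul]
    have hcm := comm_of_rat (F₀ := F₀) (d := dg n u) (dg_ne hu) hu hn (by simp [dg]) (by simp [dg])
      (fun i hi => by
        unfold dg
        rw [if_neg (by omega), if_neg (by omega)]) hu2
      (fun h => hu3 fun h' => h34 ⟨h, h'⟩) (g := (b : Matrix (Fin n) (Fin n) F))
      (by
        have : IsUnit (b : Matrix (Fin n) (Fin n) F) := ⟨b, rfl⟩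
        exact ((Matrix.isUnit_iff_isUnit_det _).1 this).ne_zero) hr1 ⟨ν, hν, fun i j => by
          rw [← hent]
          exact hν' i j⟩
    have hbD : b * DG n hu = DG n hu * b := by
      apply Units.ext
      rw [Units.val_mul, Units.val_mul, DG_val]
      ext i j
      rw [Matrix.mul_diagonal, Matrix.diagonal_mul]
      by_cases hz : (b : Matrix (Fin n) (Fin n) F) i j = 0
      · rw [hz, mul_zero, zero_mul]
      · rw [hcm i j hz, mul_comm]
    have ea : a = P * b * P⁻¹ := by rw [hb]; group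
    rw [ea]
    calc P * b * P⁻¹ * (P * DG n hu * P⁻¹) = P * (b * DG n hu) * P⁻¹ := by group
      _ = P * (DG n hu * b) * P⁻¹ := by rw [hbD]
      _ = P * DG n hu * P⁻¹ * (P * b * P⁻¹) := by group

end Cfsg.Agent.H622.EP
end

-- part: H908/SLProper
section
/-!
# `SL_n` lies in no member of the geometric classes (`n ≥ 2, 3` or `4`)
-/

set_option autoImplicit false
set_option linter.style.haveILetI false

namespace Cfsg.Agent.H908

open Cfsg.Geo Matrix

variable {F : Type*} [Field F] {n : ℕ}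

theorem li_pair {v w : Fin n → F} (hv : v ≠ 0) (h : ∀ c : F, c • v ≠ w) :
    LinearIndependent F ![v, w] := by
  rw [LinearIndependent.pair_iff' hv]
  exact h

/-! ### Forms -/

theorem li_triple {u v w : Fin n → F} (h : LinearIndependent F ![u, v])
    (hw : ∀ a b : F, a • u + b • v ≠ w) : LinearIndependent F ![u, v, w] := by
  rw [LinearIndependent.pair_iff] at h
  rw [Fintype.linearIndependent_iff]
  intro g hg
  have hg' : g 0 • u + g 1 • v + g 2 • w = 0 := by
    simpa only [Fin.sum_univ_three, _root_.Fin.isValue, _root_.Nat.succ_eq_add_one, _root_.Nat.reduceAdd, _root_.Matrix.cons_val_zero, _root_.Matrix.cons_val_one, _root_.Matrix.cons_val] using hg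
  have h2 : g 2 = 0 := by
    by_contra hne
    apply hw (- (g 0) / g 2) (- (g 1) / g 2)
    have : g 2 • w = -(g 0 • u + g 1 • v) := by
      rw [eq_neg_iff_add_eq_zero, add_comm]; exact hg'
    have e : w = (g 2)⁻¹ • (g 2 • w) := by rw [smul_smul, inv_mul_cancel₀ hne, one_smul]
    rw [e, this, smul_neg, smul_add, smul_smul, smul_smul, neg_add]
    rw [← neg_smul, ← neg_smul]
    congr 2 <;> ring
  rw [h2, zero_smul, add_zero] at hg'
  obtain ⟨h0, h1⟩ := h _ _ hg'
  intro i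
  fin_cases i
  · exact h0
  · exact h1
  · exact h2

theorem exists_not_mem_span_pair (hn : 3 ≤ n) (u v : Fin n → F) :
    ∃ w : Fin n → F, ∀ a b : F, a • u + b • v ≠ w := by
  by_contra hc
  push Not at hc
  let φ : (Fin 2 → F) →ₗ[F] (Fin n → F) :=
    { toFun := fun a => a 0 • u + a 1 • v
      map_add' := fun a b => by simp only [Pi.add_apply, add_smul]; abel
      map_smul' := fun c a => by
        simp only [Pi.smul_apply, smul_eq_mul, RingHom.id_apply, smul_add, smul_smul] }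
  have hs : Function.Surjective φ := by
    intro w
    obtain ⟨a, b, h⟩ := hc w
    exact ⟨![a, b], by simpa only [φ, _root_.Fin.isValue, _root_.LinearMap.coe_mk, _root_.AddHom.coe_mk, _root_.Matrix.cons_val_zero, _root_.Matrix.cons_val_one, _root_.Matrix.cons_val_fin_one] using h⟩
  have h1 := LinearMap.finrank_le_finrank_of_surjective (f := φ) hs
  rw [Module.finrank_fin_fun, Module.finrank_fin_fun] at h1
  omega

/-- `SL_n`, `n ≥ 4`, is in no similarity group of a two-argument form that is additive in the second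
variable, semilinear in the weak sense `f u (c v) = τ c * f u v`, and not identically zero on pairs
`u ≠ 0`. -/
theorem not_sl_le_similarity (hn : 4 ≤ n) (f : (Fin n → F) → (Fin n → F) → F) (τ : F → F)
    (hadd : ∀ u v w, f u (v + w) = f u v + f u w) (hsmul : ∀ (c : F) u v, f u (c • v) = τ c * f u v)
    (hnd : IsNondegenerateForm f) : ¬ specialLinear (Fin n) F ≤ similarityGroup f := by
  intro h
  have hiso : ∀ u, f u u = 0 := by
    intro u
    by_contra hne
    have h00 : ∀ v, f v 0 = 0 := by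
      intro v
      have := hadd v 0 0
      rw [add_zero] at this
      exact left_eq_add.1 this
    have hu0 : u ≠ 0 := fun h0 => hne (by rw [h0, h00])
    obtain ⟨v, hv⟩ := exists_not_mem_span_pair (F := F) (by omega : 3 ≤ n) u 0
    have hv' : ∀ c : F, c • u ≠ v := fun c hc => hv c 0 (by rw [smul_zero, add_zero, hc])
    have l1 := li_pair hu0 hv'
    have l2 : LinearIndependent F ![u, v + u] := by
      apply li_pair hu0
      intro c hc
      apply hv' (c - 1)
      rw [sub_smul, one_smul, hc, add_sub_cancel_right]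
    obtain ⟨g, hg, e0, e1⟩ := exists_sl_map2 (by omega) l1 l2
    obtain ⟨c, hc⟩ := h hg
    have c1 := hc u u
    rw [e0] at c1
    have hc1 : (c : F) = 1 := by
      have : (1 : F) * f u u = c * f u u := by rw [one_mul]; exact c1
      exact (mul_right_cancel₀ hne this).symm
    have c2 := hc u v
    rw [e0, e1, hc1, one_mul, hadd] at c2
    exact hne (left_eq_add.1 c2.symm)
  have : ∃ u : Fin n → F, u ≠ 0 := by
    refine ⟨Pi.single ⟨0, by omega⟩ 1, ?_⟩
    intro h0
    have := congrFun h0 ⟨0, by omega⟩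
    simp at this
  obtain ⟨u, hu⟩ := this
  obtain ⟨-, v, hv⟩ := hnd u hu
  have hv' : ∀ c : F, c • u ≠ v := by
    intro c hc
    apply hv
    rw [← hc, hsmul, hiso, mul_zero]
  have l1 := li_pair hu hv'
  obtain ⟨w, hw⟩ := exists_not_mem_span_pair (F := F) (by omega : 3 ≤ n) u v
  have l2 := li_triple l1 hw
  have l3 : LinearIndependent F ![u, v, w + v] := by
    apply li_triple l1
    intro a b hab
    apply hw a (b - 1)
    rw [sub_smul, one_smul, ← add_sub_assoc, hab, add_sub_cancel_right]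
  obtain ⟨g, hg, e0, e1, e2⟩ := exists_sl_map3 hn l2 l3
  obtain ⟨c, hc⟩ := h hg
  have c1 := hc u v
  rw [e0, e1] at c1
  have hc1 : (c : F) = 1 := by
    have : (1 : F) * f u v = c * f u v := by rw [one_mul]; exact c1
    exact (mul_right_cancel₀ hv this).symm
  have c2 := hc u w
  rw [e0, e2, hc1, one_mul, hadd] at c2
  exact hv (left_eq_add.1 c2.symm)

theorem not_sl_le_symplectic (hn : 4 ≤ n) {f : (Fin n → F) → (Fin n → F) → F}
    (hf : IsSymplecticForm f) : ¬ specialLinear (Fin n) F ≤ similarityGroup f :=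
  not_sl_le_similarity hn f id (fun u v w => hf.bilinear.add_right u v w)
    (fun c u v => hf.bilinear.smul_right c u v) hf.nondegenerate

end Cfsg.Agent.H908
end

-- part: H458/EP/C8Sp
section
/-!
# S3499-III-SL-C8Sp: the similarity groups of symplectic forms in `SL_n(q)` (helper458)
-/

set_option autoImplicit false

namespace Cfsg.Agent.H458.EP

open Subgroup Cfsg.Agent.H284 Cfsg.Agent.H419.EP Cfsg.Geo Matrix Cfsg.Agent.H953
open scoped MatrixGroups

section mats

variable {F : Type*} [Field F] {m : ℕ}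

/-- the matrix `[0, 1; -1, 1]` on the coordinates `a`, `b` -/
def cm (F : Type*) [Field F] {m : ℕ} (a b : Fin m) : Matrix (Fin m) (Fin m) F := transvection a b 1 * transvection b a (-1)

/-- the transposition matrix -/
def pm (F : Type*) [Field F] {m : ℕ} (a b : Fin m) : Matrix (Fin m) (Fin m) F := (1 : Matrix (Fin m) (Fin m) F).submatrix (Equiv.swap a b) id

theorem pm_mul (a b : Fin m) (M : Matrix (Fin m) (Fin m) F) : pm F a b * M = M.submatrix (Equiv.swap a b) id := by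
  ext i j
  rw [pm, Matrix.mul_apply, Matrix.submatrix_apply]
  simp only [Matrix.submatrix_apply, Matrix.one_apply, _root_.id_eq, _root_.ite_mul, _root_.one_mul, _root_.MulZeroClass.zero_mul, _root_.Finset.sum_ite_eq, _root_.Finset.mem_univ, ↓ _root_.reduceIte]

theorem mul_pm (a b : Fin m) (M : Matrix (Fin m) (Fin m) F) : M * pm F a b = M.submatrix id (Equiv.swap a b) := by
  ext i j
  rw [pm, Matrix.mul_apply, Matrix.submatrix_apply]
  rw [Finset.sum_eq_single (Equiv.swap a b j)]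
  · simp [Matrix.submatrix_apply, Matrix.one_apply]
  · intro k _ hk
    have : Equiv.swap a b k ≠ j := by
      intro h
      apply hk
      rw [← h, Equiv.swap_apply_self]
    simp [Matrix.submatrix_apply, Matrix.one_apply, this]
  · intro h
    exact absurd (Finset.mem_univ _) h

theorem pm_pm (a b : Fin m) : pm F a b * pm F a b = 1 := by
  rw [pm_mul]
  ext i j
  rw [pm, Matrix.submatrix_apply, Matrix.submatrix_apply, Equiv.swap_apply_self]
  rfl

theorem pm_T (a b : Fin m) (c : F) : pm F a b * transvection a b c = transvection b a c * pm F a b := by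
  rw [pm_mul, mul_pm]
  ext i j
  rw [Matrix.submatrix_apply, Matrix.submatrix_apply]
  simp only [transvection, Matrix.add_apply, id]
  have h1 : (1 : Matrix (Fin m) (Fin m) F) (Equiv.swap a b i) j = (1 : Matrix (Fin m) (Fin m) F) i (Equiv.swap a b j) := by
    rw [Matrix.one_apply, Matrix.one_apply]
    congr 1
    rw [eq_iff_iff]
    constructor
    · intro h
      rw [← h, Equiv.swap_apply_self]
    · intro h
      rw [h, Equiv.swap_apply_self]
  rw [h1]
  congr 1
  rw [Matrix.single_apply, Matrix.single_apply]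
  congr 1
  rw [eq_iff_iff]
  constructor
  · rintro ⟨h1, h2⟩
    constructor
    · have h3 := congrArg (Equiv.swap a b) h1
      rwa [Equiv.swap_apply_left, Equiv.swap_apply_self] at h3
    · rw [← h2, Equiv.swap_apply_right]
  · rintro ⟨h1, h2⟩
    constructor
    · rw [← h1, Equiv.swap_apply_right]
    · have h3 := congrArg (Equiv.swap a b) h2
      rwa [Equiv.swap_apply_left, Equiv.swap_apply_self] at h3

theorem pm_comm (a b : Fin m) : pm F a b = pm F b a := by
  rw [pm, pm, Equiv.swap_comm]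

theorem cm_pm_cm {a b : Fin m} (hab : a ≠ b) : cm F a b * pm F a b * cm F a b = pm F a b := by
  have h1 := pm_T (F := F) a b 1
  have h2 := pm_T (F := F) b a (-1)
  rw [← pm_comm a b] at h2
  have h3 : transvection b a (-1 : F) * transvection b a 1 = 1 := by
    rw [transvection_mul_transvection_same _ _ (Ne.symm hab), neg_add_cancel, transvection_zero]
  have h4 : transvection a b (1 : F) * transvection a b (-1) = 1 := by
    rw [transvection_mul_transvection_same _ _ hab, add_neg_cancel, transvection_zero]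
  calc cm F a b * pm F a b * cm F a b
      = transvection a b 1 * transvection b a (-1) * (pm F a b * transvection a b 1) * transvection b a (-1) := by
        simp only [cm, Matrix.mul_assoc]
    _ = transvection a b 1 * (transvection b a (-1) * transvection b a 1) * (pm F a b * transvection b a (-1)) := by
        rw [h1]
        simp only [Matrix.mul_assoc]
    _ = transvection a b 1 * transvection a b (-1) * pm F a b := by
        rw [h3, h2, Matrix.mul_one, Matrix.mul_assoc]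
    _ = pm F a b := by rw [h4, Matrix.one_mul]

theorem cm_det {a b : Fin m} (hab : a ≠ b) : (cm F a b).det = 1 := by
  rw [cm, Matrix.det_mul, det_transvection_of_ne _ _ hab, det_transvection_of_ne _ _ (Ne.symm hab), one_mul]

theorem pm_transpose (a b : Fin m) : (pm F a b)ᵀ = pm F a b := by
  ext i j
  rw [Matrix.transpose_apply, pm, Matrix.submatrix_apply, Matrix.submatrix_apply, Matrix.one_apply, Matrix.one_apply]
  congr 1
  rw [eq_iff_iff]
  constructor
  · intro h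
    have h' : Equiv.swap a b j = i := h
    show Equiv.swap a b i = j
    rw [← h', Equiv.swap_apply_self]
  · intro h
    have h' : Equiv.swap a b i = j := h
    show Equiv.swap a b j = i
    rw [← h', Equiv.swap_apply_self]

theorem T_mulVec (i j : Fin m) (c : F) (v : Fin m → F) : transvection i j c *ᵥ v = v + Pi.single i (c * v j) := by
  rw [transvection, Matrix.add_mulVec, Matrix.one_mulVec]
  congr 1
  ext k
  rw [Matrix.mulVec, dotProduct]
  by_cases hk : k = i
  · subst hk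
    rw [Pi.single_eq_same, Finset.sum_eq_single j]
    · simp
    · intro l _ hl
      simp [Matrix.single_apply, Ne.symm hl]
    · intro h
      exact absurd (Finset.mem_univ _) h
  · rw [Pi.single_eq_of_ne hk]
    exact Finset.sum_eq_zero fun l _ => by simp [Matrix.single_apply, Ne.symm hk]

theorem cm_sq {a b : Fin m} (hab : a ≠ b) (l : F) : cm F a b * cm F a b ≠ l • (1 : Matrix (Fin m) (Fin m) F) := by
  intro h
  have h1 := congrFun (congrArg (fun M : Matrix (Fin m) (Fin m) F => M *ᵥ (Pi.single a 1 : Fin m → F)) h) b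
  simp only [cm, ← Matrix.mulVec_mulVec, T_mulVec, Matrix.smul_mulVec, Matrix.one_mulVec] at h1
  simp [hab, Ne.symm hab] at h1

end mats

section blocks

variable {F : Type*} [Field F] {m : ℕ}

theorem std_x (C : Matrix (Fin m) (Fin m) F) (u v : Fin m ⊕ Fin m → F) :
    stdForm m F (fromBlocks C 0 0 1 *ᵥ u) (fromBlocks C 0 0 1 *ᵥ v) = stdForm m F (fromBlocks C 0 0 Cᵀ *ᵥ u) v := by
  have key : ∀ a b : Fin m → F, ∑ i, a i * (C *ᵥ b) i = ∑ i, (Cᵀ *ᵥ a) i * b i := by
    intro a b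
    have h1 : a ⬝ᵥ (C *ᵥ b) = (Cᵀ *ᵥ a) ⬝ᵥ b := by
      rw [Matrix.dotProduct_mulVec, Matrix.mulVec_transpose]
    exact h1
  unfold stdForm
  rw [Finset.sum_sub_distrib, Finset.sum_sub_distrib]
  simp only [Matrix.fromBlocks_mulVec, Sum.elim_inl, Sum.elim_inr, Matrix.zero_mulVec, Matrix.one_mulVec, add_zero,
    zero_add, Function.comp_apply]
  rw [key]
  rfl

theorem std_g (a b : Fin m) (u v : Fin m ⊕ Fin m → F) :
    stdForm m F (fromBlocks (pm F a b) 0 0 (pm F a b) *ᵥ u) (fromBlocks (pm F a b) 0 0 (pm F a b) *ᵥ v) = stdForm m F u v := by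
  have key : ∀ w : Fin m → F, ∀ i, (pm F a b *ᵥ w) i = w (Equiv.swap a b i) := by
    intro w i
    rw [pm, Matrix.mulVec, dotProduct]
    simp only [Matrix.submatrix_apply, Matrix.one_apply, _root_.id_eq, _root_.ite_mul, _root_.one_mul, _root_.MulZeroClass.zero_mul, _root_.Finset.sum_ite_eq, _root_.Finset.mem_univ, ↓ _root_.reduceIte]
  unfold stdForm
  simp only [Matrix.fromBlocks_mulVec, Sum.elim_inl, Sum.elim_inr, Matrix.zero_mulVec, add_zero, zero_add, key,
    Function.comp_apply]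
  exact Equiv.sum_comp (Equiv.swap a b) (fun i => u (Sum.inl i) * v (Sum.inr i) - u (Sum.inr i) * v (Sum.inl i))

end blocks

section row

variable {F : Type*} [Field F] {n k : ℕ}

/-- an invertible matrix in symplectic coordinates -/
noncomputable def gm (e : Fin k ⊕ Fin k ≃ Fin n) (S₀ : GL (Fin n) F) (X : Matrix (Fin k ⊕ Fin k) (Fin k ⊕ Fin k) F)
    (hX : X.det = 1) : GL (Fin n) F :=
  S₀ * GeneralLinearGroup.mkOfDetNeZero (Matrix.reindexAlgEquiv F F e X) (by
    rw [Matrix.det_reindexAlgEquiv, hX]; exact one_ne_zero) * S₀⁻¹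

theorem coe_gm (e : Fin k ⊕ Fin k ≃ Fin n) (S₀ : GL (Fin n) F) (X : Matrix (Fin k ⊕ Fin k) (Fin k ⊕ Fin k) F)
    (hX : X.det = 1) : (gm e S₀ X hX : Matrix (Fin n) (Fin n) F) =
    (S₀ : Matrix (Fin n) (Fin n) F) * Matrix.reindexAlgEquiv F F e X * ((S₀⁻¹ : GL (Fin n) F) : Matrix (Fin n) (Fin n) F) := rfl

theorem gm_mulVec (e : Fin k ⊕ Fin k ≃ Fin n) (S₀ : GL (Fin n) F) (X : Matrix (Fin k ⊕ Fin k) (Fin k ⊕ Fin k) F)
    (hX : X.det = 1) (u : Fin n → F) : (gm e S₀ X hX : Matrix (Fin n) (Fin n) F) *ᵥ u =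
    (S₀ : Matrix (Fin n) (Fin n) F) *ᵥ (Matrix.reindexAlgEquiv F F e X *ᵥ (((S₀⁻¹ : GL (Fin n) F) : Matrix (Fin n) (Fin n) F) *ᵥ u)) := by
  rw [coe_gm, Matrix.mulVec_mulVec, Matrix.mulVec_mulVec, Matrix.mul_assoc]

theorem gm_mem (e : Fin k ⊕ Fin k ≃ Fin n) (S₀ : GL (Fin n) F) (X : Matrix (Fin k ⊕ Fin k) (Fin k ⊕ Fin k) F)
    (hX : X.det = 1) : gm e S₀ X hX ∈ specialLinear (Fin n) F := by
  have h1 : (gm e S₀ X hX : Matrix (Fin n) (Fin n) F).det = 1 := by
    have h2 : (S₀ : Matrix (Fin n) (Fin n) F).det * ((S₀⁻¹ : GL (Fin n) F) : Matrix (Fin n) (Fin n) F).det = 1 := by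
      rw [← Matrix.det_mul, ← Units.val_mul, mul_inv_cancel, Units.val_one, Matrix.det_one]
    rw [coe_gm, Matrix.det_mul, Matrix.det_mul, Matrix.det_reindexAlgEquiv, hX, mul_one, h2]
  exact Units.ext h1

theorem gm_mul (e : Fin k ⊕ Fin k ≃ Fin n) (S₀ : GL (Fin n) F) (X Y : Matrix (Fin k ⊕ Fin k) (Fin k ⊕ Fin k) F)
    (hX : X.det = 1) (hY : Y.det = 1) : (gm e S₀ X hX : Matrix (Fin n) (Fin n) F) * (gm e S₀ Y hY : Matrix (Fin n) (Fin n) F) =
    (S₀ : Matrix (Fin n) (Fin n) F) * Matrix.reindexAlgEquiv F F e (X * Y) * ((S₀⁻¹ : GL (Fin n) F) : Matrix (Fin n) (Fin n) F) := by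
  have h2 : ((S₀⁻¹ : GL (Fin n) F) : Matrix (Fin n) (Fin n) F) * (S₀ : Matrix (Fin n) (Fin n) F) = 1 := by
    rw [← Units.val_mul, inv_mul_cancel, Units.val_one]
  rw [coe_gm, coe_gm, map_mul]
  generalize Matrix.reindexAlgEquiv F F e X = X'
  generalize Matrix.reindexAlgEquiv F F e Y = Y'
  calc _ = (S₀ : Matrix (Fin n) (Fin n) F) * X' * (((S₀⁻¹ : GL (Fin n) F) : Matrix (Fin n) (Fin n) F) * (S₀ : Matrix (Fin n) (Fin n) F)) *
        Y' * ((S₀⁻¹ : GL (Fin n) F) : Matrix (Fin n) (Fin n) F) := by simp only [Matrix.mul_assoc]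
    _ = _ := by rw [h2, Matrix.mul_one]; simp only [Matrix.mul_assoc]

/-- **S3499-III-SL-C8Sp.** -/
theorem sl_c8sp {Q : Type*} [Group Q] [Finite Q] {A : Subgroup Q} {Γ : Subgroup (MulAut Q)} (h : EPT A Γ)
    (m : Model Q (specialLinear (Fin n) F)) (hn : 4 ≤ n) {f : (Fin n → F) → (Fin n → F) → F} (hf : IsSymplecticForm f)
    (hA : m.hat A ≤ similarityGroup f) : False := by
  have hAe := hat_eq m h.max hA (Cfsg.Agent.H908.not_sl_le_symplectic hn hf)
  obtain ⟨k, e, S₀, hS⟩ := exists_std hf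
  have hk : 2 ≤ k := by
    have h1 := Fintype.card_congr e
    rw [Fintype.card_sum, Fintype.card_fin, Fintype.card_fin] at h1
    omega
  let a : Fin k := ⟨0, by omega⟩
  let b : Fin k := ⟨1, by omega⟩
  have hab : a ≠ b := by
    intro h1
    have := congrArg Fin.val h1
    simp [a, b] at this
  have hform : ∀ (X Y : Matrix (Fin k ⊕ Fin k) (Fin k ⊕ Fin k) F) (hX : X.det = 1) (hY : Y.det = 1) (u v : Fin n → F),
      f ((gm e S₀ X hX : Matrix (Fin n) (Fin n) F) *ᵥ u) ((gm e S₀ Y hY : Matrix (Fin n) (Fin n) F) *ᵥ v) =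
      stdForm k F (X *ᵥ ((((S₀⁻¹ : GL (Fin n) F) : Matrix (Fin n) (Fin n) F) *ᵥ u) ∘ e))
        (Y *ᵥ ((((S₀⁻¹ : GL (Fin n) F) : Matrix (Fin n) (Fin n) F) *ᵥ v) ∘ e)) := by
    intro X Y hX hY u v
    rw [gm_mulVec, gm_mulVec, hS, reindex_mulVec_comp, reindex_mulVec_comp]
  have hSS : ∀ v : Fin n → F, (S₀ : Matrix (Fin n) (Fin n) F) *ᵥ (((S₀⁻¹ : GL (Fin n) F) : Matrix (Fin n) (Fin n) F) *ᵥ v) = v := by
    intro v
    rw [Matrix.mulVec_mulVec, ← Units.val_mul, mul_inv_cancel, Units.val_one, Matrix.one_mulVec]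
  have hSS' : (S₀ : Matrix (Fin n) (Fin n) F) * ((S₀⁻¹ : GL (Fin n) F) : Matrix (Fin n) (Fin n) F) = 1 := by
    rw [← Units.val_mul, mul_inv_cancel, Units.val_one]
  have hSS'' : ((S₀⁻¹ : GL (Fin n) F) : Matrix (Fin n) (Fin n) F) * (S₀ : Matrix (Fin n) (Fin n) F) = 1 := by
    rw [← Units.val_mul, inv_mul_cancel, Units.val_one]
  have dC : (cm F a b).det = 1 := cm_det hab
  have dX : (fromBlocks (cm F a b) 0 0 (1 : Matrix (Fin k) (Fin k) F)).det = 1 := by
    rw [Matrix.det_fromBlocks_zero₂₁, dC, Matrix.det_one, one_mul]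
  have dY : (fromBlocks (cm F a b) 0 0 (cm F a b)ᵀ).det = 1 := by
    rw [Matrix.det_fromBlocks_zero₂₁, Matrix.det_transpose, dC, one_mul]
  have dG : (fromBlocks (pm F a b) 0 0 (pm F a b)).det = 1 := by
    rw [Matrix.det_fromBlocks_zero₂₁, ← Matrix.det_mul, pm_pm, Matrix.det_one]
  have hYGY : fromBlocks (cm F a b) 0 0 (cm F a b)ᵀ * fromBlocks (pm F a b) 0 0 (pm F a b) *
      fromBlocks (cm F a b) 0 0 (cm F a b)ᵀ = fromBlocks (pm F a b) 0 0 (pm F a b) := by
    have h2 : (cm F a b)ᵀ * pm F a b * (cm F a b)ᵀ = pm F a b := by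
      have h3 := congrArg Matrix.transpose (cm_pm_cm (F := F) hab)
      rw [Matrix.transpose_mul, Matrix.transpose_mul, pm_transpose, ← Matrix.mul_assoc] at h3
      exact h3
    simp only [Matrix.fromBlocks_multiply, Matrix.mul_zero, Matrix.zero_mul, add_zero, zero_add, cm_pm_cm hab, h2]
  refine sim_row h m hf.bilinear.add_left hf.bilinear.smul_left hf.nondegenerate hAe
    (x := gm e S₀ _ dX) (c := gm e S₀ _ dY) (g := gm e S₀ _ dG) (gm_mem e S₀ _ dX) ?_ ?_ (gm_mem e S₀ _ dG)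
    (l0 := 1) one_ne_zero ?_ ?_
  · intro u v
    rw [hform, std_x]
    have h1 := hS (Matrix.reindexAlgEquiv F F e (fromBlocks (cm F a b) 0 0 (cm F a b)ᵀ) *ᵥ
      (((S₀⁻¹ : GL (Fin n) F) : Matrix (Fin n) (Fin n) F) *ᵥ u)) (((S₀⁻¹ : GL (Fin n) F) : Matrix (Fin n) (Fin n) F) *ᵥ v)
    rw [hSS, reindex_mulVec_comp] at h1
    rw [← h1, gm_mulVec]
  · refine ⟨1, fun u v => ?_⟩
    rw [hform, std_g, ← hS, hSS, hSS, Units.val_one, one_mul]
  · rw [gm_mul, one_smul]
    have h2 := congrArg (fun M => (S₀ : Matrix (Fin n) (Fin n) F) * Matrix.reindexAlgEquiv F F e M *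
      ((S₀⁻¹ : GL (Fin n) F) : Matrix (Fin n) (Fin n) F)) hYGY
    simp only [map_mul] at h2 ⊢
    rw [coe_gm, coe_gm, ← h2]
    generalize Matrix.reindexAlgEquiv F F e (fromBlocks (cm F a b) 0 0 (cm F a b)ᵀ) = X'
    generalize Matrix.reindexAlgEquiv F F e (fromBlocks (pm F a b) 0 0 (pm F a b)) = G'
    calc _ = (S₀ : Matrix (Fin n) (Fin n) F) * (X' * G') * (((S₀⁻¹ : GL (Fin n) F) : Matrix (Fin n) (Fin n) F) *
          (S₀ : Matrix (Fin n) (Fin n) F)) * X' * ((S₀⁻¹ : GL (Fin n) F) : Matrix (Fin n) (Fin n) F) := by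
            simp only [Matrix.mul_assoc]
      _ = _ := by rw [hSS'', Matrix.mul_one]; simp only [Matrix.mul_assoc]
  · intro l hl
    rw [gm_mul] at hl
    have h3 : Matrix.reindexAlgEquiv F F e (fromBlocks (cm F a b) 0 0 (cm F a b)ᵀ * fromBlocks (cm F a b) 0 0 (cm F a b)ᵀ) =
        l • (1 : Matrix (Fin n) (Fin n) F) := by
      generalize Matrix.reindexAlgEquiv F F e _ = X' at hl
      calc X' = (((S₀⁻¹ : GL (Fin n) F) : Matrix (Fin n) (Fin n) F) * (S₀ : Matrix (Fin n) (Fin n) F)) * X' *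
            (((S₀⁻¹ : GL (Fin n) F) : Matrix (Fin n) (Fin n) F) * (S₀ : Matrix (Fin n) (Fin n) F)) := by
              rw [hSS'', Matrix.one_mul, Matrix.mul_one]
        _ = ((S₀⁻¹ : GL (Fin n) F) : Matrix (Fin n) (Fin n) F) * ((S₀ : Matrix (Fin n) (Fin n) F) * X' *
            ((S₀⁻¹ : GL (Fin n) F) : Matrix (Fin n) (Fin n) F)) * (S₀ : Matrix (Fin n) (Fin n) F) := by
              simp only [Matrix.mul_assoc]
        _ = l • (1 : Matrix (Fin n) (Fin n) F) := by
              rw [hl, Matrix.mul_smul, Matrix.smul_mul, Matrix.mul_one, hSS'']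
    have h4 : fromBlocks (cm F a b) 0 0 (cm F a b)ᵀ * fromBlocks (cm F a b) 0 0 (cm F a b)ᵀ =
        l • (1 : Matrix (Fin k ⊕ Fin k) (Fin k ⊕ Fin k) F) := by
      apply (Matrix.reindexAlgEquiv F F e).injective
      rw [h3, map_smul, map_one]
    rw [Matrix.fromBlocks_multiply, ← Matrix.fromBlocks_one, Matrix.fromBlocks_smul] at h4
    have h5 := (Matrix.fromBlocks_inj.1 h4).1
    rw [Matrix.zero_mul, add_zero] at h5
    exact cm_sq hab l h5

end row

end Cfsg.Agent.H458.EP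
end

-- part: H135/EP/C8U
section
/-!
# S3499-III-SL-C8U: the similarity groups of unitary forms are not extremely primitive stabilisers (helper135)

`M = similarityGroup f`, `f` unitary, `n ≥ 3`. In an orthonormal basis of `f`:
* `z = 1 + b ∑ E(i,i+1)`, `b σ(b) = -1`, `C = zᵀ σ(z)` is tridiagonal of trace `1`: `A ∩ A^x` is abelian for
  `x = z⁻¹`, so that `A` has a `Γ`-invariant elementary abelian subgroup `K ≠ 1` with `A/K` abelian;
* `w = diag(ω², ω⁻¹, ω⁻¹, 1, ...)` is a commutator in `A`, so `w ∈ K`, and it commutes with `1 + E(1,2) ∉ A`.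
-/

set_option autoImplicit false

namespace Cfsg.Agent.H135.EP

open Subgroup Matrix Cfsg.Agent.H284 Cfsg.Agent.H419.EP
open scoped MatrixGroups commutatorElement

/-! ### conjugating a model -/

section ConjModel

variable {Q : Type*} [Group Q] {ι : Type} [Fintype ι] [DecidableEq ι] {F : Type*} [Field F] {S : Subgroup (GL ι F)}

/-- the model `s ↦ π(P s P⁻¹)` -/
def conjModel (m : Model Q S) (P : GL ι F) (hP : ∀ s, P * s * P⁻¹ ∈ S ↔ s ∈ S) : Model Q S where
  π := m.π.comp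
    { toFun := fun s => ⟨P * s * P⁻¹, (hP _).2 s.2⟩
      map_one' := Subtype.ext (by show P * ((1 : S) : GL ι F) * P⁻¹ = 1; rw [Subgroup.coe_one]; group)
      map_mul' := fun s t => Subtype.ext (by
        show P * ((s * t : S) : GL ι F) * P⁻¹ = (P * s * P⁻¹) * (P * t * P⁻¹)
        rw [Subgroup.coe_mul]; group) }
  surj := by
    intro q
    obtain ⟨s, rfl⟩ := m.surj q
    have hs : P⁻¹ * (s : GL ι F) * P ∈ S := by
      rw [← hP]
      have : P * (P⁻¹ * (s : GL ι F) * P) * P⁻¹ = s := by group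
      rw [this]
      exact s.2
    refine ⟨⟨P⁻¹ * s * P, hs⟩, ?_⟩
    show m.π ⟨P * (P⁻¹ * (s : GL ι F) * P) * P⁻¹, _⟩ = m.π s
    congr 1
    apply Subtype.ext
    show P * (P⁻¹ * (s : GL ι F) * P) * P⁻¹ = s
    group
  ker := by
    intro s
    show m.π ⟨P * (s : GL ι F) * P⁻¹, _⟩ = 1 ↔ _
    rw [m.ker]
    show P * (s : GL ι F) * P⁻¹ ∈ Cfsg.Geo.scalars ι F ↔ _
    constructor
    · intro h
      have := Cfsg.Geo.scalars_normal.conj_mem _ h P⁻¹
      rwa [show P⁻¹ * (P * (s : GL ι F) * P⁻¹) * P⁻¹⁻¹ = s by group] at this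
    · intro h
      exact Cfsg.Geo.scalars_normal.conj_mem _ h P

theorem mem_hat_conjModel (m : Model Q S) (P : GL ι F) (hP : ∀ s, P * s * P⁻¹ ∈ S ↔ s ∈ S) (A : Subgroup Q)
    {g : GL ι F} : g ∈ (conjModel m P hP).hat A ↔ P * g * P⁻¹ ∈ m.hat A := by
  rw [Model.mem_hat, Model.mem_hat]
  constructor
  · rintro ⟨hg, h1⟩
    exact ⟨(hP g).2 hg, h1⟩
  · rintro ⟨hg, h1⟩
    exact ⟨(hP g).1 hg, h1⟩

theorem sl_conj {ι : Type} [Fintype ι] [DecidableEq ι] {F : Type*} [Field F] (P : GL ι F) (s : GL ι F) :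
    P * s * P⁻¹ ∈ Cfsg.Geo.specialLinear ι F ↔ s ∈ Cfsg.Geo.specialLinear ι F := by
  unfold Cfsg.Geo.specialLinear
  rw [MonoidHom.mem_ker, MonoidHom.mem_ker, map_mul, map_mul, map_inv, mul_comm, inv_mul_cancel_left]

end ConjModel

/-! ### matrices of determinant one -/

section Det

variable {ι : Type} [Fintype ι] [DecidableEq ι] {F : Type*} [Field F]

/-- a matrix of determinant `1` as an element of `GL` -/
noncomputable def toG (M : Matrix ι ι F) (h : M.det = 1) : GL ι F :=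
  Matrix.GeneralLinearGroup.mkOfDetNeZero M (by rw [h]; exact one_ne_zero)

theorem toG_coe (M : Matrix ι ι F) (h : M.det = 1) : ((toG M h : GL ι F) : Matrix ι ι F) = M := rfl

theorem toG_mem (M : Matrix ι ι F) (h : M.det = 1) : toG M h ∈ Cfsg.Geo.specialLinear ι F := by
  unfold Cfsg.Geo.specialLinear
  rw [MonoidHom.mem_ker]
  apply Units.ext
  rw [Matrix.GeneralLinearGroup.val_det_apply, toG_coe, h, Units.val_one]

end Det

/-! ### the standard hermitian form -/

section Std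

variable {ι : Type} [Fintype ι] [DecidableEq ι] {F : Type*} [Field F] (σ : F ≃+* F)

/-- the standard hermitian form -/
def hst (u v : ι → F) : F := u ⬝ᵥ fun i => σ (v i)

omit [DecidableEq ι] in
theorem map_mulVec' (M : Matrix ι ι F) (v : ι → F) :
    (fun i => σ ((M *ᵥ v) i)) = M.map σ *ᵥ fun i => σ (v i) := by
  funext i
  simp only [Matrix.mulVec, dotProduct, map_sum, map_mul, Matrix.map_apply]

omit [DecidableEq ι] in
theorem hst_mulVec (M : Matrix ι ι F) (u v : ι → F) :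
    hst σ (M *ᵥ u) (M *ᵥ v) = u ⬝ᵥ ((Mᵀ * M.map σ) *ᵥ fun i => σ (v i)) := by
  unfold hst
  rw [map_mulVec' σ, ← Matrix.mulVec_mulVec, Matrix.dotProduct_mulVec u, Matrix.vecMul_transpose]

theorem mem_sim {g : GL ι F} : g ∈ Cfsg.Geo.similarityGroup (hst σ : (ι → F) → (ι → F) → F) ↔
    ∃ c : Fˣ, (g : Matrix ι ι F)ᵀ * (g : Matrix ι ι F).map σ = (c : F) • (1 : Matrix ι ι F) := by
  constructor
  · rintro ⟨c, hc⟩
    refine ⟨c, ?_⟩
    ext i j
    have h1 := hc (Pi.single i 1) (Pi.single j 1)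
    rw [hst_mulVec] at h1
    have h2 : (fun k => σ ((Pi.single j 1 : ι → F) k)) = Pi.single j 1 := by
      funext k
      by_cases hk : k = j
      · subst hk; simp
      · simp [hk]
    unfold hst at h1
    rw [h2] at h1
    simp only [Matrix.mulVec_single_one, single_dotProduct, one_mul, Matrix.col_apply] at h1
    rw [h1, Matrix.smul_apply, smul_eq_mul]
    congr 1
    rw [Matrix.one_apply]
    by_cases hij : i = j
    · subst hij; simp
    · simp [hij]
  · rintro ⟨c, hc⟩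
    refine ⟨c, fun u v => ?_⟩
    rw [hst_mulVec, hc, Matrix.smul_mulVec, Matrix.one_mulVec, dotProduct_smul, smul_eq_mul]
    rfl

/-- an orthonormal basis -/
theorem exists_std {n : ℕ} [Finite F] {f : (Fin n → F) → (Fin n → F) → F} (hf : Cfsg.Geo.IsUnitaryForm σ f) :
    ∃ P : GL (Fin n) F, ∀ u v, f ((P : Matrix (Fin n) (Fin n) F) *ᵥ u) ((P : Matrix (Fin n) (Fin n) F) *ᵥ v) =
      hst σ u v := by
  have hadd : ∀ v x y, f v (x + y) = f v x + f v y := fun v x y => by
    rw [hf.herm, hf.add_left, map_add, ← hf.herm, ← hf.herm]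
  have hsmul : ∀ (c : F) (v x : Fin n → F), f v (c • x) = σ c * f v x := fun c v x => by
    rw [hf.herm, hf.smul_left, map_mul, ← hf.herm]
  let B : (Fin n → F) →ₛₗ[(σ : F →+* F)] (Fin n → F) →ₗ[F] F :=
    LinearMap.mk₂'ₛₗ (σ : F →+* F) (RingHom.id F) (fun x y => f y x) (fun x y v => hadd _ _ _)
      (fun c x y => hsmul _ _ _) (fun x y v => hf.add_left _ _ _) (fun c x y => hf.smul_left _ _ _)
  have hB : ∀ x y, B x y = f y x := fun _ _ => rfl
  have hσ : (σ : F →+* F) ≠ RingHom.id F := by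
    intro e
    apply hf.ne_refl
    ext x
    exact DFunLike.congr_fun e x
  obtain ⟨b, hb⟩ := Cfsg.Agent.ClassicalGeometry.HermOrthonormal.exists_orthonormal_family hσ hf.involutive B
    ⟨fun x y => (hf.herm _ _).symm⟩ (by
      intro x hx
      by_contra hne
      obtain ⟨⟨y, hy⟩, -⟩ := hf.nondegenerate x hne
      exact hy (hx y)) n (by rw [Module.finrank_fin_fun])
  have hli := Cfsg.Agent.ClassicalGeometry.HermOrthonormal.linearIndependent_of_orthonormal B hb
  let P0 : Matrix (Fin n) (Fin n) F := Matrix.of fun i j => b j i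
  have hP0 : IsUnit P0 := by
    rw [← Matrix.isUnit_transpose, ← Matrix.linearIndependent_rows_iff_isUnit]
    exact hli
  obtain ⟨P, hP⟩ := hP0
  refine ⟨P, ?_⟩
  have hcol : ∀ u, (P : Matrix (Fin n) (Fin n) F) *ᵥ u = ∑ i, u i • b i := by
    intro u
    rw [hP]
    funext k
    rw [Matrix.mulVec, dotProduct, Finset.sum_apply]
    exact Finset.sum_congr rfl fun i _ => by
      show b i k * u i = u i * b i k
      ring
  intro u v
  rw [hcol, hcol, ← hB, map_sum]
  unfold hst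
  rw [dotProduct]
  refine Finset.sum_congr rfl fun i _ => ?_
  rw [map_sum, LinearMap.sum_apply, Finset.sum_eq_single i]
  · simp [hb]
  · intro j _ hj
    simp [hb, hj]
  · intro hi
    exact absurd (Finset.mem_univ i) hi

end Std

/-! ### the centraliser of a Hessenberg matrix is commutative -/

section Hess

variable {n : ℕ} {F : Type*} [Field F]

theorem hess_cyclic {C : Matrix (Fin (n + 1)) (Fin (n + 1)) F} (h1 : ∀ i j : Fin (n + 1), (j : ℕ) + 1 < i → C i j = 0)
    (h2 : ∀ i j : Fin (n + 1), (i : ℕ) = j + 1 → C i j ≠ 0) (v : Fin (n + 1) → F) :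
    ∃ r ∈ Algebra.adjoin F {C}, r *ᵥ (Pi.single 0 1) = v := by
  let W : Submodule F (Fin (n + 1) → F) :=
    { carrier := {v | ∃ r ∈ Algebra.adjoin F {C}, r *ᵥ (Pi.single 0 1) = v}
      zero_mem' := ⟨0, zero_mem _, Matrix.zero_mulVec _⟩
      add_mem' := by
        rintro _ _ ⟨r, hr, rfl⟩ ⟨s, hs, rfl⟩
        exact ⟨r + s, add_mem hr hs, Matrix.add_mulVec _ _ _⟩
      smul_mem' := by
        rintro c _ ⟨r, hr, rfl⟩
        exact ⟨c • r, Subalgebra.smul_mem _ hr c, Matrix.smul_mulVec _ _ _⟩ }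
  have hC : ∀ v ∈ W, C *ᵥ v ∈ W := by
    rintro _ ⟨r, hr, rfl⟩
    exact ⟨C * r, mul_mem (Algebra.subset_adjoin rfl) hr, (Matrix.mulVec_mulVec _ _ _).symm⟩
  have key : ∀ k : ℕ, ∀ hk : k < n + 1, (Pi.single (⟨k, hk⟩ : Fin (n + 1)) 1 : Fin (n + 1) → F) ∈ W := by
    intro k
    induction k using Nat.strong_induction_on with
    | _ k ih =>
      intro hk
      rcases Nat.eq_zero_or_pos k with rfl | hpos
      · exact ⟨1, one_mem _, Matrix.one_mulVec _⟩
      · obtain ⟨l, rfl⟩ : ∃ l, k = l + 1 := ⟨k - 1, by omega⟩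
        have h3 : C *ᵥ (Pi.single (⟨l, by omega⟩ : Fin (n + 1)) 1) ∈ W := hC _ (ih l (by omega) (by omega))
        have h4 : C *ᵥ (Pi.single (⟨l, by omega⟩ : Fin (n + 1)) 1) =
            ∑ i : Fin (n + 1), C i ⟨l, by omega⟩ • (Pi.single i 1 : Fin (n + 1) → F) := by
          funext j
          rw [Matrix.mulVec_single_one, Finset.sum_apply, Finset.sum_eq_single j]
          · simp
          · intro b _ hb
            simp [Ne.symm hb]
          · intro hj
            exact absurd (Finset.mem_univ j) hj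
        have h5 : (∑ i ∈ Finset.univ.erase (⟨l + 1, hk⟩ : Fin (n + 1)),
            C i ⟨l, by omega⟩ • (Pi.single i 1 : Fin (n + 1) → F)) ∈ W := by
          apply Submodule.sum_mem
          intro i hi
          rw [Finset.mem_erase] at hi
          rcases Nat.lt_or_ge i (l + 1) with h6 | h6
          · exact W.smul_mem _ (ih i h6 i.2)
          · have h7 : (l : ℕ) + 1 < i := by
              rcases Nat.lt_or_ge (l + 1) i with h8 | h8
              · exact h8
              · exfalso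
                apply hi.1
                apply Fin.ext
                show (i : ℕ) = l + 1
                omega
            rw [h1 i ⟨l, by omega⟩ h7, zero_smul]
            exact W.zero_mem
        have h6 : C ⟨l + 1, hk⟩ ⟨l, by omega⟩ • (Pi.single (⟨l + 1, hk⟩ : Fin (n + 1)) 1 : Fin (n + 1) → F) ∈ W := by
          rw [h4, ← Finset.add_sum_erase _ _ (Finset.mem_univ (⟨l + 1, hk⟩ : Fin (n + 1)))] at h3
          exact (W.add_mem_iff_left h5).1 h3
        exact (W.smul_mem_iff (h2 ⟨l + 1, hk⟩ ⟨l, by omega⟩ rfl)).1 h6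
  have hv : v ∈ W := by
    have : v = ∑ i : Fin (n + 1), v i • (Pi.single i 1 : Fin (n + 1) → F) := by
      funext j
      rw [Finset.sum_apply, Finset.sum_eq_single j]
      · simp
      · intro b _ hb
        simp [Ne.symm hb]
      · intro hj
        exact absurd (Finset.mem_univ j) hj
    rw [this]
    exact Submodule.sum_mem _ fun i _ => W.smul_mem _ (key i i.2)
  exact hv

theorem adjoin_comm {R : Type*} [Ring R] [Algebra F R] {C Y r : R} (hY : Y * C = C * Y) (hr : r ∈ Algebra.adjoin F {C}) :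
    Y * r = r * Y := by
  have h1 : Algebra.adjoin F {C} ≤ Subalgebra.centralizer F {Y} := by
    rw [Algebra.adjoin_le_iff, Set.singleton_subset_iff]
    intro y hy
    rw [Set.mem_singleton_iff.1 hy]
    exact hY
  exact h1 hr Y rfl

theorem hess_comm {C : Matrix (Fin (n + 1)) (Fin (n + 1)) F} (h1 : ∀ i j : Fin (n + 1), (j : ℕ) + 1 < i → C i j = 0)
    (h2 : ∀ i j : Fin (n + 1), (i : ℕ) = j + 1 → C i j ≠ 0) {X Y : Matrix (Fin (n + 1)) (Fin (n + 1)) F}
    (hX : X * C = C * X) (hY : Y * C = C * Y) : X * Y = Y * X := by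
  obtain ⟨p, hp, hp'⟩ := hess_cyclic h1 h2 (X *ᵥ Pi.single 0 1)
  have e : X = p := by
    apply Matrix.toLin'.injective
    apply LinearMap.ext
    intro v
    obtain ⟨r, hr, rfl⟩ := hess_cyclic h1 h2 v
    rw [Matrix.toLin'_apply, Matrix.toLin'_apply, Matrix.mulVec_mulVec, Matrix.mulVec_mulVec, adjoin_comm hX hr,
      adjoin_comm (adjoin_comm rfl hp : C * p = p * C).symm hr, ← Matrix.mulVec_mulVec, ← Matrix.mulVec_mulVec, hp']
  rw [e]
  exact (adjoin_comm hY hp).symm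

end Hess

/-! ### the kill criterion -/

section Kill

variable {Q : Type*} [Group Q] [Finite Q] {A : Subgroup Q} {Γ : Subgroup (MulAut Q)} (h : EPT A Γ)

include h

omit [Finite Q] in
/-- If some `A ∩ A^x` is abelian, then a commutator `≠ 1` of elements of `A` lies in `A^y` for `y ∈ A` only. -/
theorem comm_of_abM0 {x : Q} (hx : x ∉ A) (hab : ∀ a ∈ A ⊓ cj x A, ∀ b ∈ A ⊓ cj x A, a * b = b * a) {a b : Q}
    (ha : a ∈ A) (hb : b ∈ A) {y : Q} (hy : y ∉ A) (hc : a * b * a⁻¹ * b⁻¹ ∈ cj y A) : a * b = b * a := by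
  obtain ⟨K, hK, hKn, hne, hKab⟩ := h.abM0 x hx hab
  have hKc : ∀ g ∈ A, ∀ k ∈ K, g * k * g⁻¹ ∈ K := fun g hg k hk => hKn _ ((h.conj g).2 hg) k hk
  have hnil : Group.IsNilpotent K := by
    let _ : CommGroup K := { (inferInstance : Group K) with mul_comm := fun a b => Subtype.ext (hKab a a.2 b b.2) }
    infer_instance
  obtain ⟨-, -, -, h4, -⟩ := h.nilp K hK hKn hnil hne
  obtain ⟨k, hk, m1, hm1, rfl⟩ := h.fac_A hK hKn hne hx ha
  obtain ⟨l, hl, m2, hm2, rfl⟩ := h.fac_A hK hKn hne hx hb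
  have hcomm := hab m1 hm1 m2 hm2
  have e1 : k * m1 * (l * m2) * (k * m1)⁻¹ * (l * m2)⁻¹ =
      k * (m1 * l * m1⁻¹) * (m2 * k⁻¹ * m2⁻¹) * l⁻¹ := by
    have : m1 * m2 * m1⁻¹ = m2 := by rw [hcomm, mul_inv_cancel_right]
    calc k * m1 * (l * m2) * (k * m1)⁻¹ * (l * m2)⁻¹
        = k * (m1 * l * m1⁻¹) * (m1 * m2 * m1⁻¹) * k⁻¹ * m2⁻¹ * l⁻¹ := by group
      _ = k * (m1 * l * m1⁻¹) * m2 * k⁻¹ * m2⁻¹ * l⁻¹ := by rw [this]
      _ = _ := by group
  have hmem : k * m1 * (l * m2) * (k * m1)⁻¹ * (l * m2)⁻¹ ∈ K := by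
    rw [e1]
    exact K.mul_mem (K.mul_mem (K.mul_mem hk (hKc _ (mem_inf.1 hm1).1 _ hl))
      (hKc _ (mem_inf.1 hm2).1 _ (K.inv_mem hk))) (K.inv_mem hl)
  have h5 : k * m1 * (l * m2) * (k * m1)⁻¹ * (l * m2)⁻¹ ∈ K ⊓ cj y A := ⟨hmem, hc⟩
  rw [(h4 y hy).1, mem_bot, mul_inv_eq_one, mul_inv_eq_iff_eq_mul] at h5
  exact h5

/-- the criterion in a model: all elements of `Â ∩ Â^x` commute, `a, b ∈ Â`, `y ∉ Â` commutes with `w = [a, b]`. -/
theorem kill_abM0 {ι : Type} [Fintype ι] [DecidableEq ι] {F : Type*} [Field F] {S : Subgroup (GL ι F)} (m : Model Q S)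
    {x : GL ι F} (hxS : x ∈ S) (hx : x ∉ m.hat A)
    (hab : ∀ a ∈ m.hat A ⊓ cj x (m.hat A), ∀ b ∈ m.hat A ⊓ cj x (m.hat A), a * b = b * a) {a b w : GL ι F}
    (ha : a ∈ m.hat A) (hb : b ∈ m.hat A) (hw : a * b = w * (b * a)) {y : GL ι F} (hyS : y ∈ S) (hy : y ∉ m.hat A)
    (hyw : y * w = w * y) : w ∈ Cfsg.Geo.scalars ι F := by
  obtain ⟨haS, haA⟩ := m.mem_hat.1 ha
  obtain ⟨hbS, hbA⟩ := m.mem_hat.1 hb
  have hwS : w ∈ S := by
    have : w = a * b * (b * a)⁻¹ := by rw [hw, mul_inv_cancel_right]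
    rw [this]
    exact S.mul_mem (S.mul_mem haS hbS) (S.inv_mem (S.mul_mem hbS haS))
  have hx' : m.π ⟨x, hxS⟩ ∉ A := fun e => hx ((m.mem_hat_iff ⟨x, hxS⟩).2 e)
  have hy' : m.π ⟨y, hyS⟩ ∉ A := fun e => hy ((m.mem_hat_iff ⟨y, hyS⟩).2 e)
  have hab' : ∀ a ∈ A ⊓ cj (m.π ⟨x, hxS⟩) A, ∀ b ∈ A ⊓ cj (m.π ⟨x, hxS⟩) A, a * b = b * a := by
    rw [M0_eq_map m hxS]
    rintro _ ⟨a, ha, rfl⟩ _ ⟨b, hb, rfl⟩
    rw [← map_mul, ← map_mul]
    congr 1
    exact Subtype.ext (hab _ ha _ hb)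
  have e1 : m.π ⟨a, haS⟩ * m.π ⟨b, hbS⟩ = m.π ⟨w, hwS⟩ * (m.π ⟨b, hbS⟩ * m.π ⟨a, haS⟩) := by
    rw [← map_mul, ← map_mul, ← map_mul]
    congr 1
    exact Subtype.ext hw
  have e2 : m.π ⟨a, haS⟩ * m.π ⟨b, hbS⟩ * (m.π ⟨a, haS⟩)⁻¹ * (m.π ⟨b, hbS⟩)⁻¹ = m.π ⟨w, hwS⟩ := by
    rw [e1]; group
  have hwA : m.π ⟨w, hwS⟩ ∈ A := by
    rw [← e2]
    exact A.mul_mem (A.mul_mem (A.mul_mem haA hbA) (A.inv_mem haA)) (A.inv_mem hbA)
  have e3 := comm_of_abM0 h hx' hab' haA hbA hy' (by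
    rw [e2, mem_cj, ← map_inv, ← map_mul, ← map_mul]
    have : (⟨y, hyS⟩ : S)⁻¹ * ⟨w, hwS⟩ * ⟨y, hyS⟩ = ⟨w, hwS⟩ := by
      apply Subtype.ext
      show y⁻¹ * w * y = w
      rw [mul_assoc, ← hyw, inv_mul_cancel_left]
    rw [this]
    exact hwA)
  rw [e1, mul_eq_right] at e3
  · exact (m.ker ⟨w, hwS⟩).1 e3

end Kill

/-! ### the explicit matrices -/

section Explicit

variable {F : Type*} [Field F] {σ : F ≃+* F}

theorem comm_of_two {ι : Type} [Fintype ι] [DecidableEq ι] {X C : Matrix ι ι F} {c d : F} (hc : c ≠ 0)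
    (h1 : Xᵀ * X.map σ = c • (1 : Matrix ι ι F)) (h2 : Xᵀ * C * X.map σ = d • C) (htr : C.trace ≠ 0) :
    Xᵀ * C = C * Xᵀ := by
  have h3 : X.map σ * Xᵀ = c • (1 : Matrix ι ι F) := by
    have : (c⁻¹ • Xᵀ) * X.map σ = 1 := by
      rw [Matrix.smul_mul, h1, smul_smul, inv_mul_cancel₀ hc, one_smul]
    rw [mul_eq_one_comm, Matrix.mul_smul] at this
    rw [← this, smul_smul, mul_inv_cancel₀ hc, one_smul]
  have h4 : c • (Xᵀ * C) = d • (C * Xᵀ) := by
    rw [← Matrix.smul_mul d, ← h2, mul_assoc (Xᵀ * C), h3, Matrix.mul_smul, mul_one]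
  have h5 : c = d := by
    have h6 := congrArg Matrix.trace h2
    rw [Matrix.trace_mul_cycle, h3, Matrix.smul_mul, one_mul, Matrix.trace_smul, Matrix.trace_smul, smul_eq_mul,
      smul_eq_mul] at h6
    exact mul_right_cancel₀ htr h6
  rw [← h5] at h4
  have h7 := congrArg (c⁻¹ • ·) h4
  simpa only [smul_smul, inv_mul_cancel₀ hc, one_smul] using h7

/-- `1 + b ∑ E(i,i+1)` -/
def zM (n : ℕ) (b : F) : Matrix (Fin (n + 1)) (Fin (n + 1)) F :=
  Matrix.of fun i j => if i = j then 1 else if (j : ℕ) = i + 1 then b else 0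

theorem zM_apply (n : ℕ) (b : F) (i j : Fin (n + 1)) :
    zM n b i j = if i = j then 1 else if (j : ℕ) = i + 1 then b else 0 := rfl

theorem zM_det (n : ℕ) (b : F) : (zM n b).det = 1 := by
  rw [Matrix.det_of_isUpperTriangular]
  · exact Finset.prod_eq_one fun i _ => by rw [zM_apply, if_pos rfl]
  · intro i j hij
    have hij' : (j : ℕ) < i := hij
    rw [zM_apply, if_neg (by rintro rfl; exact lt_irrefl _ hij'), if_neg (by omega)]

theorem zM_C (n : ℕ) (b : F) (i j : Fin (n + 1)) :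
    ((zM n b)ᵀ * (zM n b).map σ) i j = ∑ k, zM n b k i * σ (zM n b k j) := rfl

theorem zM_zero (n : ℕ) (b : F) {i j : Fin (n + 1)} (h1 : i ≠ j) (h2 : (j : ℕ) ≠ i + 1) : zM n b i j = 0 := by
  rw [zM_apply, if_neg h1, if_neg h2]

theorem zM_hess0 (n : ℕ) (b : F) {i j : Fin (n + 1)} (hij : (j : ℕ) + 1 < i) :
    ((zM n b)ᵀ * (zM n b).map σ) i j = 0 := by
  rw [zM_C]
  apply Finset.sum_eq_zero
  intro k _
  by_cases h1 : k = i ∨ (i : ℕ) = k + 1
  · have h2 : (i : ℕ) ≤ k + 1 := by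
      rcases h1 with h1 | h1
      · rw [h1]; omega
      · omega
    rw [zM_zero n b (i := k) (j := j) (fun e => by rw [e] at h2; omega) (by omega), map_zero, mul_zero]
  · push Not at h1
    rw [zM_zero n b h1.1 h1.2, zero_mul]

theorem zM_hess1 (n : ℕ) (b : F) {i j : Fin (n + 1)} (hij : (i : ℕ) = j + 1) :
    ((zM n b)ᵀ * (zM n b).map σ) i j = b := by
  have hne : j ≠ i := by
    rintro rfl
    omega
  rw [zM_C, Finset.sum_eq_single j]
  · rw [zM_apply, zM_apply, if_neg hne, if_pos hij, if_pos rfl, map_one, mul_one]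
  · intro k _ hk
    by_cases h1 : (j : ℕ) = k + 1
    · rw [zM_zero n b (i := k) (j := i) (fun e => by rw [e] at h1; omega) (by omega), zero_mul]
    · rw [zM_zero n b hk h1, map_zero, mul_zero]
  · intro hj
    exact absurd (Finset.mem_univ j) hj

theorem zM_trace (n : ℕ) {b : F} (hb : b * σ b = -1) : ((zM n b)ᵀ * (zM n b).map σ).trace = 1 := by
  have h0 : ∀ k i : Fin (n + 1), zM n b k i * σ (zM n b k i) =
      (if k = i then 1 else 0) - (if (i : ℕ) = k + 1 then 1 else 0) := by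
    intro k i
    rw [zM_apply]
    by_cases h1 : k = i
    · subst h1
      rw [if_pos rfl, if_pos rfl, if_neg (by omega)]
      simp
    · rw [if_neg h1, if_neg h1]
      by_cases h2 : (i : ℕ) = k + 1
      · rw [if_pos h2, if_pos h2, hb]
        ring
      · rw [if_neg h2, if_neg h2]
        simp
  have h1 : ∀ i : Fin n, ((zM n b)ᵀ * (zM n b).map σ) i.succ i.succ = 0 := by
    intro i
    rw [zM_C, Finset.sum_congr rfl fun k _ => h0 k i.succ, Finset.sum_sub_distrib, Finset.sum_ite_eq',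
      if_pos (Finset.mem_univ _), Finset.sum_eq_single i.castSucc]
    · rw [if_pos (by rw [Fin.val_succ, Fin.val_castSucc]), sub_self]
    · intro k _ hk
      rw [if_neg]
      intro e
      apply hk
      apply Fin.ext
      rw [Fin.val_succ] at e
      rw [Fin.val_castSucc]
      omega
    · intro hj
      exact absurd (Finset.mem_univ _) hj
  have h2 : ((zM n b)ᵀ * (zM n b).map σ) 0 0 = 1 := by
    rw [zM_C, Finset.sum_congr rfl fun k _ => h0 k 0, Finset.sum_sub_distrib, Finset.sum_ite_eq',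
      if_pos (Finset.mem_univ _), Finset.sum_eq_zero, sub_zero]
    intro k _
    rw [if_neg]
    rw [Fin.val_zero]
    omega
  rw [Matrix.trace, Fin.sum_univ_succ]
  simp only [Matrix.diag_apply, h1, h2, Finset.sum_const_zero, add_zero]

/-- an element `ω ≠ 1` of norm one -/
theorem exists_omega (hσ : σ ≠ RingEquiv.refl F) (hσ2 : ∀ a, σ (σ a) = a) : ∃ ω : F, ω * σ ω = 1 ∧ ω ≠ 1 := by
  obtain ⟨u, hu⟩ : ∃ u, σ u ≠ u := by
    by_contra hc
    push Not at hc
    exact hσ (RingEquiv.ext hc)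
  have hu0 : u ≠ 0 := by
    rintro rfl
    exact hu (map_zero σ)
  have hu1 : σ u ≠ 0 := (map_ne_zero σ).2 hu0
  refine ⟨u / σ u, ?_, ?_⟩
  · rw [map_div₀, hσ2]
    field_simp
  · rw [Ne, div_eq_one_iff_eq hu1]
    exact fun e => hu e.symm

/-- an element `ω` of norm one with `ω³ ≠ 1` -/
theorem exists_omega3 [Fintype F] (hσ : σ ≠ RingEquiv.refl F) (hσ2 : ∀ a, σ (σ a) = a) (h4 : Fintype.card F ≠ 4) :
    ∃ ω : F, ω * σ ω = 1 ∧ ω ^ 3 ≠ 1 := by
  by_contra hcon
  push Not at hcon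
  have h1 : ∀ u, u ^ 3 = σ u ^ 3 := by
    intro u
    by_cases hu0 : u = 0
    · rw [hu0, map_zero]
    have hu1 : σ u ≠ 0 := (map_ne_zero σ).2 hu0
    have h2 := hcon (u / σ u) (by rw [map_div₀, hσ2]; field_simp)
    rwa [div_pow, div_eq_one_iff_eq (pow_ne_zero 3 hu1)] at h2
  obtain ⟨u, hu⟩ : ∃ u, σ u ≠ u := by
    by_contra hc
    push Not at hc
    exact hσ (RingEquiv.ext hc)
  have h2 : ∀ v, 3 * ((v - σ v) * (v + σ v + 1)) = 0 := by
    intro v
    have e1 := h1 v
    have e2 := h1 (v + 1)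
    rw [map_add, map_one] at e2
    linear_combination e2 - e1
  have h3 : (3 : F) ≠ 0 := by
    intro h3
    have e1 := h1 u
    have e2 : (u - σ u) ^ 3 = 0 := by
      have : (u - σ u) ^ 3 = (u ^ 3 - σ u ^ 3) - 3 * (u ^ 2 * σ u - u * σ u ^ 2) := by ring
      rw [this, h3, e1]
      ring
    have e3 : u - σ u = 0 := by
      by_contra hne
      exact pow_ne_zero 3 hne e2
    exact hu (sub_eq_zero.1 e3).symm
  have h5 : ∀ v, σ v ≠ v → v + σ v + 1 = 0 := by
    intro v hv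
    rcases mul_eq_zero.1 (h2 v) with e | e
    · exact absurd e h3
    · rcases mul_eq_zero.1 e with e | e
      · exact absurd (sub_eq_zero.1 e).symm hv
      · exact e
  have h6 := h5 u hu
  have h7 : (2 : F) = 0 := by
    have e := h5 (u + 1) (by rw [map_add, map_one]; exact fun e => hu (add_right_cancel e))
    rw [map_add, map_one] at e
    linear_combination e - h6
  have hu0 : u ≠ 0 := by
    rintro rfl
    exact hu (map_zero σ)
  have h8 : ∀ a, σ a = a → a ≠ 0 → a = 1 := by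
    intro a ha ha0
    have e := h5 (a * u) (by rw [map_mul, ha]; exact fun e => hu (mul_left_cancel₀ ha0 e))
    rw [map_mul, ha] at e
    linear_combination a * h6 - e
  have h9 : ∀ v, σ v ≠ v → v ^ 2 + v + 1 = 0 := by
    intro v hv
    have hv0 : v ≠ 0 := by
      rintro rfl
      exact hv (map_zero σ)
    have e1 : v * σ v = 1 := by
      apply h8
      · rw [map_mul, hσ2, mul_comm]
      · exact mul_ne_zero hv0 ((map_ne_zero σ).2 hv0)
    linear_combination v * h5 v hv - e1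
  have h10 : ∀ v : F, v = 0 ∨ v = 1 ∨ v = u ∨ v = u + 1 := by
    intro v
    by_cases hv0 : v = 0
    · exact Or.inl hv0
    by_cases hv : σ v = v
    · exact Or.inr (Or.inl (h8 v hv hv0))
    · right; right
      have e : (v - u) * (v - (u + 1)) = 0 := by
        linear_combination h9 v hv + h9 u hu - (u * v + v + 1) * h7
      rcases mul_eq_zero.1 e with e | e
      · exact Or.inl (sub_eq_zero.1 e)
      · exact Or.inr (sub_eq_zero.1 e)
  have hu1 : u ≠ 1 := by
    rintro rfl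
    exact hu (map_one σ)
  have hu2 : u + 1 ≠ 0 := by
    intro e
    have e1 : u = -1 := eq_neg_of_add_eq_zero_left e
    apply hu
    rw [e1, map_neg, map_one]
  apply h4
  classical
  have h11 : (Finset.univ : Finset F) = {0, 1, u, u + 1} := by
    ext v
    simp only [Finset.mem_univ, Finset.mem_insert, Finset.mem_singleton, true_iff]
    exact h10 v
  rw [← Finset.card_univ, h11, Finset.card_insert_of_notMem, Finset.card_insert_of_notMem,
    Finset.card_insert_of_notMem, Finset.card_singleton]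
  · rw [Finset.mem_singleton]
    intro e
    exact one_ne_zero (add_eq_left.1 e.symm)
  · rw [Finset.mem_insert, Finset.mem_singleton]
    rintro (e | e)
    · exact hu1 e.symm
    · exact hu0 (add_eq_right.1 e.symm)
  · rw [Finset.mem_insert, Finset.mem_insert, Finset.mem_singleton]
    rintro (e | e | e)
    · exact zero_ne_one e
    · exact hu0 e.symm
    · exact hu2 e.symm

end Explicit

/-! ### the elements `a`, `b`, `w`, `y` -/

section Elements

variable {F : Type*} [Field F] {σ : F ≃+* F} {n : ℕ}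

/-- the diagonal of `a` -/
def dd (i0 i1 : Fin (n + 1)) (ω : F) (i : Fin (n + 1)) : F := if i = i0 then ω else if i = i1 then ω⁻¹ else 1

/-- the diagonal of `w` -/
def ee (i0 i1 i2 : Fin (n + 1)) (ω : F) (i : Fin (n + 1)) : F :=
  if i = i0 then ω ^ 2 else if i = i1 then ω⁻¹ else if i = i2 then ω⁻¹ else 1

/-- the 3-cycle -/
def cc (i0 i1 i2 : Fin (n + 1)) : Equiv.Perm (Fin (n + 1)) := Equiv.swap i0 i1 * Equiv.swap i1 i2

theorem dd_prod {i0 i1 : Fin (n + 1)} (h : i0 ≠ i1) {ω : F} (hω : ω ≠ 0) : ∏ i, dd i0 i1 ω i = 1 := by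
  have h1 : ∀ i, dd i0 i1 ω i = (if i = i0 then ω else 1) * (if i = i1 then ω⁻¹ else 1) := by
    intro i
    unfold dd
    by_cases h2 : i = i0
    · rw [if_pos h2, if_pos h2, if_neg (by rw [h2]; exact h), mul_one]
    · rw [if_neg h2, if_neg h2, one_mul]
  rw [Finset.prod_congr rfl fun i _ => h1 i, Finset.prod_mul_distrib, Finset.prod_ite_eq', Finset.prod_ite_eq',
    if_pos (Finset.mem_univ _), if_pos (Finset.mem_univ _), mul_inv_cancel₀ hω]

theorem dd_norm (i0 i1 : Fin (n + 1)) {ω : F} (hω : ω * σ ω = 1) (i : Fin (n + 1)) :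
    dd i0 i1 ω i * σ (dd i0 i1 ω i) = 1 := by
  unfold dd
  split_ifs
  · exact hω
  · rw [map_inv₀, ← mul_inv, hω, inv_one]
  · rw [map_one, one_mul]

theorem cc_rel {i0 i1 i2 : Fin (n + 1)} (h01 : i0 ≠ i1) (h02 : i0 ≠ i2) (h12 : i1 ≠ i2) {ω : F} (hω : ω ≠ 0)
    (i : Fin (n + 1)) : dd i0 i1 ω i = ee i0 i1 i2 ω i * dd i0 i1 ω (cc i0 i1 i2 i) := by
  unfold cc
  rw [Equiv.Perm.mul_apply]
  by_cases h0 : i = i0
  · subst h0
    rw [Equiv.swap_apply_of_ne_of_ne h01 h02, Equiv.swap_apply_left]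
    unfold dd ee
    rw [if_pos rfl, if_pos rfl, if_neg h01.symm, if_pos rfl]
    field_simp
  by_cases h1 : i = i1
  · subst h1
    rw [Equiv.swap_apply_left, Equiv.swap_apply_of_ne_of_ne h02.symm h12.symm]
    unfold dd ee
    rw [if_neg h0, if_pos rfl, if_neg h0, if_pos rfl, if_neg h02.symm, if_neg h12.symm, mul_one]
  by_cases h2 : i = i2
  · subst h2
    rw [Equiv.swap_apply_right, Equiv.swap_apply_right]
    unfold dd ee
    rw [if_neg h0, if_neg h1, if_neg h0, if_neg h1, if_pos rfl, if_pos rfl, inv_mul_cancel₀ hω]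
  rw [Equiv.swap_apply_of_ne_of_ne h1 h2, Equiv.swap_apply_of_ne_of_ne h0 h1]
  unfold dd ee
  rw [if_neg h0, if_neg h1, if_neg h0, if_neg h1, if_neg h2, one_mul]

/-- permutation matrices -/
def pM (c : Equiv.Perm (Fin (n + 1))) : Matrix (Fin (n + 1)) (Fin (n + 1)) F := Matrix.of fun i j => if c i = j then 1 else 0

theorem pM_apply (c : Equiv.Perm (Fin (n + 1))) (i j : Fin (n + 1)) :
    (pM c : Matrix (Fin (n + 1)) (Fin (n + 1)) F) i j = if c i = j then 1 else 0 := rfl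

theorem pM_det (c : Equiv.Perm (Fin (n + 1))) : (pM c : Matrix (Fin (n + 1)) (Fin (n + 1)) F).det = (Equiv.Perm.sign c : ℤ) := by
  have : (pM c : Matrix (Fin (n + 1)) (Fin (n + 1)) F) = c.toPEquiv.toMatrix := by
    ext i j
    rw [pM_apply, PEquiv.toMatrix_apply, Equiv.toPEquiv_apply]
    simp [eq_comm]
  rw [this]
  exact Matrix.det_permutation c

theorem pM_unit (c : Equiv.Perm (Fin (n + 1))) : (pM c : Matrix (Fin (n + 1)) (Fin (n + 1)) F)ᵀ * (pM c).map σ = 1 := by
  ext i j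
  rw [Matrix.mul_apply, Finset.sum_eq_single (c.symm i)]
  · rw [Matrix.transpose_apply, Matrix.map_apply, pM_apply, pM_apply, Equiv.apply_symm_apply, if_pos rfl, one_mul,
      Matrix.one_apply]
    split_ifs <;> simp
  · intro k _ hk
    rw [Matrix.transpose_apply, pM_apply, if_neg, zero_mul]
    intro e
    apply hk
    rw [← e, Equiv.symm_apply_apply]
  · intro hi
    exact absurd (Finset.mem_univ _) hi

end Elements

/-! ### the theorem -/

section Main

variable {Q : Type*} [Group Q] [Finite Q] {A : Subgroup Q} {Γ : Subgroup (MulAut Q)}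

omit [Finite Q] in
/-- `Â = M ∩ S` if `Â ≤ M` and some element of `S` is not in `M` -/
theorem hat_eq_of_le {ι : Type} [Fintype ι] [DecidableEq ι] {F : Type*} [Field F] {S M : Subgroup (GL ι F)}
    (m : Model Q S) (hA : IsCoatom A) (hM : m.hat A ≤ M) {x : GL ι F} (hxS : x ∈ S) (hx : x ∉ M) :
    m.hat A = M ⊓ S := by
  rcases (m.isMaximalIn hA).2 (M ⊓ S) (le_inf hM (m.hat_le A)) inf_le_right with h1 | h1
  · exact h1.symm
  · exfalso
    rw [← h1] at hxS
    exact hx hxS.1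

/-- the standard form -/
theorem c8u_std (h : EPT A Γ) {F : Type*} [Field F] [Fintype F] {σ : F ≃+* F} (hσ : σ ≠ RingEquiv.refl F)
    (hσ2 : ∀ a, σ (σ a) = a) {n : ℕ} (hn : 2 ≤ n) (hex : ¬ (n = 2 ∧ Fintype.card F = 4))
    (m : Model Q (Cfsg.Geo.specialLinear (Fin (n + 1)) F))
    (hA : m.hat A ≤ Cfsg.Geo.similarityGroup (hst σ : (Fin (n + 1) → F) → (Fin (n + 1) → F) → F)) : False := by
  have hσ' : (σ : F →+* F) ≠ RingHom.id F := by
    intro e
    apply hσ
    ext x
    exact DFunLike.congr_fun e x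
  -- `b` and `Z`
  obtain ⟨b, hb⟩ := Cfsg.Agent.ClassicalGeometry.InvolutiveNorm.exists_mul_sigma_eq hσ' hσ2 (a := -1)
    (by rw [map_neg, map_one])
  have hb' : b * σ b = -1 := hb
  have hb0 : b ≠ 0 := by
    rintro rfl
    rw [zero_mul] at hb'
    exact one_ne_zero (neg_eq_zero.1 hb'.symm)
  set Z : GL (Fin (n + 1)) F := toG (zM n b) (zM_det n b) with hZdef
  have hZ : (Z : Matrix (Fin (n + 1)) (Fin (n + 1)) F) = zM n b := rfl
  have hZS : Z ∈ Cfsg.Geo.specialLinear (Fin (n + 1)) F := toG_mem _ _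
  have hZM : Z ∉ Cfsg.Geo.similarityGroup (hst σ : (Fin (n + 1) → F) → (Fin (n + 1) → F) → F) := by
    rw [mem_sim]
    rintro ⟨c, hc⟩
    rw [hZ] at hc
    have h1 := zM_hess1 (σ := σ) n b (i := ⟨1, by omega⟩) (j := ⟨0, by omega⟩) rfl
    rw [hc, Matrix.smul_apply, Matrix.one_apply_ne (by simp), smul_zero] at h1
    exact hb0 h1.symm
  have hAe := hat_eq_of_le m h.max hA hZS hZM
  have hmem : ∀ g, g ∈ m.hat A ↔ g ∈ Cfsg.Geo.similarityGroup (hst σ : (Fin (n + 1) → F) → (Fin (n + 1) → F) → F) ∧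
      g ∈ Cfsg.Geo.specialLinear (Fin (n + 1)) F := by
    intro g
    rw [hAe, mem_inf]
  have hxA : Z⁻¹ ∉ m.hat A := fun e => hZM ((hmem _).1 (inv_mem_iff.1 e)).1
  -- `M0` is abelian
  have hcen : ∀ g ∈ m.hat A ⊓ cj Z⁻¹ (m.hat A), (g : Matrix (Fin (n + 1)) (Fin (n + 1)) F)ᵀ *
      ((zM n b)ᵀ * (zM n b).map σ) = ((zM n b)ᵀ * (zM n b).map σ) * (g : Matrix (Fin (n + 1)) (Fin (n + 1)) F)ᵀ := by
    rintro g ⟨hg1, hg2⟩
    obtain ⟨c, hc⟩ := (mem_sim σ).1 ((hmem g).1 hg1).1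
    obtain ⟨d, hd⟩ := (mem_sim σ).1 ((hmem _).1 (mem_cj.1 hg2)).1
    rw [inv_inv] at hd
    apply comm_of_two (σ := σ) (c := c) (d := d) c.ne_zero hc
    · set Y : GL (Fin (n + 1)) F := Z * g * Z⁻¹ with hY
      have e1 : (Y : Matrix (Fin (n + 1)) (Fin (n + 1)) F) * zM n b = zM n b * g := by
        rw [← hZ, ← Units.val_mul, ← Units.val_mul, hY]
        congr 1
        group
      have e2 : (g : Matrix (Fin (n + 1)) (Fin (n + 1)) F)ᵀ * ((zM n b)ᵀ * (zM n b).map σ) *
          (g : Matrix (Fin (n + 1)) (Fin (n + 1)) F).map σ =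
          (zM n b * (g : Matrix (Fin (n + 1)) (Fin (n + 1)) F))ᵀ *
            (zM n b * (g : Matrix (Fin (n + 1)) (Fin (n + 1)) F)).map σ := by
        rw [Matrix.transpose_mul, Matrix.map_mul]
        simp only [mul_assoc]
      rw [e2, ← e1, Matrix.transpose_mul, Matrix.map_mul]
      have e3 : (zM n b)ᵀ * (Y : Matrix (Fin (n + 1)) (Fin (n + 1)) F)ᵀ *
          ((Y : Matrix (Fin (n + 1)) (Fin (n + 1)) F).map σ * (zM n b).map σ) = (zM n b)ᵀ *
          ((Y : Matrix (Fin (n + 1)) (Fin (n + 1)) F)ᵀ * (Y : Matrix (Fin (n + 1)) (Fin (n + 1)) F).map σ) *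
          (zM n b).map σ := by
        simp only [mul_assoc]
      rw [e3, hd, Matrix.mul_smul, mul_one, Matrix.smul_mul]
    · rw [zM_trace n hb']
      exact one_ne_zero
  have hab : ∀ a ∈ m.hat A ⊓ cj Z⁻¹ (m.hat A), ∀ b ∈ m.hat A ⊓ cj Z⁻¹ (m.hat A), a * b = b * a := by
    intro a ha c hc
    have h1 := hess_comm (C := (zM n b)ᵀ * (zM n b).map σ) (fun i j hij => zM_hess0 n b hij)
      (fun i j hij => by rw [zM_hess1 n b hij]; exact hb0) (hcen a ha) (hcen c hc)
    apply Units.ext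
    rw [Units.val_mul, Units.val_mul]
    have h2 := congrArg Matrix.transpose h1
    rw [Matrix.transpose_mul, Matrix.transpose_mul, Matrix.transpose_transpose, Matrix.transpose_transpose] at h2
    exact h2.symm
  -- `ω`
  obtain ⟨ω, hω, hω1, hω3⟩ : ∃ ω : F, ω * σ ω = 1 ∧ ω ≠ 1 ∧ (n = 2 → ω ^ 3 ≠ 1) := by
    by_cases h2 : n = 2
    · obtain ⟨ω, h1, h3⟩ := exists_omega3 hσ hσ2 (fun e => hex ⟨h2, e⟩)
      refine ⟨ω, h1, ?_, fun _ => h3⟩
      rintro rfl
      exact h3 (one_pow 3)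
    · obtain ⟨ω, h1, h3⟩ := exists_omega hσ hσ2
      exact ⟨ω, h1, h3, fun e => absurd e h2⟩
  have hω0 : ω ≠ 0 := by
    rintro rfl
    rw [zero_mul] at hω
    exact zero_ne_one hω
  -- the elements
  obtain ⟨i0, i1, i2, hi0, hi1, hi2⟩ : ∃ i0 i1 i2 : Fin (n + 1), (i0 : ℕ) = 0 ∧ (i1 : ℕ) = 1 ∧ (i2 : ℕ) = 2 :=
    ⟨⟨0, by omega⟩, ⟨1, by omega⟩, ⟨2, by omega⟩, rfl, rfl, rfl⟩
  have h01 : i0 ≠ i1 := fun e => by rw [e] at hi0; omega
  have h02 : i0 ≠ i2 := fun e => by rw [e] at hi0; omega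
  have h12 : i1 ≠ i2 := fun e => by rw [e] at hi1; omega
  have hadet : (Matrix.diagonal (dd i0 i1 ω)).det = 1 := by
    rw [Matrix.det_diagonal, dd_prod h01 hω0]
  have hbdet : (pM (cc i0 i1 i2) : Matrix (Fin (n + 1)) (Fin (n + 1)) F).det = 1 := by
    rw [pM_det, cc, Equiv.Perm.sign_mul, Equiv.Perm.sign_swap h01, Equiv.Perm.sign_swap h12]
    norm_num
  set a : GL (Fin (n + 1)) F := toG _ hadet with ha
  set c : GL (Fin (n + 1)) F := toG _ hbdet with hc
  have ha' : (a : Matrix (Fin (n + 1)) (Fin (n + 1)) F) = Matrix.diagonal (dd i0 i1 ω) := rfl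
  have hc' : (c : Matrix (Fin (n + 1)) (Fin (n + 1)) F) = pM (cc i0 i1 i2) := rfl
  have haA : a ∈ m.hat A := by
    rw [hmem]
    refine ⟨(mem_sim σ).2 ⟨1, ?_⟩, toG_mem _ _⟩
    rw [ha', Matrix.diagonal_transpose, Matrix.diagonal_map (map_zero σ), Matrix.diagonal_mul_diagonal, Units.val_one,
      one_smul, ← Matrix.diagonal_one]
    congr 1
    funext i
    exact dd_norm i0 i1 hω i
  have hcA : c ∈ m.hat A := by
    rw [hmem]
    refine ⟨(mem_sim σ).2 ⟨1, ?_⟩, toG_mem _ _⟩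
    rw [hc', pM_unit, Units.val_one, one_smul]
  set w : GL (Fin (n + 1)) F := a * c * (c * a)⁻¹ with hw
  have hw1 : a * c = w * (c * a) := by rw [hw, inv_mul_cancel_right]
  have hw2 : (w : Matrix (Fin (n + 1)) (Fin (n + 1)) F) = Matrix.diagonal (ee i0 i1 i2 ω) := by
    have e1 : (w : Matrix (Fin (n + 1)) (Fin (n + 1)) F) * ((c * a : GL (Fin (n + 1)) F) : Matrix _ _ F) =
        Matrix.diagonal (ee i0 i1 i2 ω) * ((c * a : GL (Fin (n + 1)) F) : Matrix _ _ F) := by
      rw [← Units.val_mul, ← hw1, Units.val_mul, Units.val_mul, ha', hc']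
      ext i j
      rw [Matrix.diagonal_mul, Matrix.diagonal_mul, Matrix.mul_diagonal, pM_apply]
      by_cases hij : cc i0 i1 i2 i = j
      · rw [if_pos hij, mul_one, one_mul, ← hij]
        exact cc_rel h01 h02 h12 hω0 i
      · rw [if_neg hij, mul_zero, zero_mul, mul_zero]
    exact (Units.isUnit (c * a)).mul_right_cancel e1
  have hydet : (Matrix.transvection i1 i2 (1 : F)).det = 1 := Matrix.det_transvection_of_ne i1 i2 h12 1
  set y : GL (Fin (n + 1)) F := toG _ hydet with hy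
  have hy' : (y : Matrix (Fin (n + 1)) (Fin (n + 1)) F) = Matrix.transvection i1 i2 (1 : F) := rfl
  have hyA : y ∉ m.hat A := by
    rw [hmem]
    rintro ⟨h1, -⟩
    obtain ⟨d, hd⟩ := (mem_sim σ).1 h1
    have h2 := congrFun (congrFun hd i1) i2
    rw [hy', Matrix.smul_apply, Matrix.one_apply_ne h12, smul_zero, Matrix.mul_apply, Finset.sum_eq_single i1] at h2
    · simp [Matrix.transvection, Matrix.single, h12, h12.symm] at h2
    · intro k _ hk
      simp [Matrix.transvection, Matrix.single, h12.symm, hk, Ne.symm hk]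
    · intro hi
      exact absurd (Finset.mem_univ _) hi
  have hyw : y * w = w * y := by
    apply Units.ext
    rw [Units.val_mul y w, Units.val_mul w y, hw2, hy']
    ext i j
    rw [Matrix.mul_diagonal, Matrix.diagonal_mul]
    by_cases hij : i = j
    · rw [hij, mul_comm]
    · by_cases hij' : i = i1 ∧ j = i2
      · rw [hij'.1, hij'.2]
        have e1 : ee i0 i1 i2 ω i1 = ω⁻¹ := by
          unfold ee
          rw [if_neg h01.symm, if_pos rfl]
        have e2 : ee i0 i1 i2 ω i2 = ω⁻¹ := by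
          unfold ee
          rw [if_neg h02.symm, if_neg h12.symm, if_pos rfl]
        rw [e1, e2, mul_comm]
      · have : Matrix.transvection i1 i2 (1 : F) i j = 0 := by
          rw [Matrix.transvection, Matrix.add_apply, Matrix.one_apply_ne hij, zero_add, Matrix.single_apply, if_neg]
          rintro ⟨e1, e2⟩
          exact hij' ⟨e1.symm, e2.symm⟩
        rw [this, zero_mul, mul_zero]
  have hfin := kill_abM0 h m ((Cfsg.Geo.specialLinear (Fin (n + 1)) F).inv_mem hZS) hxA hab haA hcA hw1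
    (toG_mem _ hydet) hyA hyw
  rw [Cfsg.Geo.mem_scalars_iff] at hfin
  obtain ⟨d, hd⟩ := hfin
  rw [hw2] at hd
  have hdi : ∀ i, ee i0 i1 i2 ω i = d := by
    intro i
    have := congrFun (congrFun hd i) i
    rwa [Matrix.diagonal_apply_eq, Matrix.smul_apply, Matrix.one_apply_eq, smul_eq_mul, mul_one] at this
  have e0 : ω ^ 2 = d := by
    rw [← hdi i0]
    unfold ee
    rw [if_pos rfl]
  have e1 : ω⁻¹ = d := by
    rw [← hdi i1]
    unfold ee
    rw [if_neg h01.symm, if_pos rfl]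
  by_cases h2 : n = 2
  · apply hω3 h2
    rw [pow_succ, e0, ← e1, inv_mul_cancel₀ hω0]
  · apply hω1
    have e3 : (1 : F) = d := by
      rw [← hdi ⟨3, by omega⟩]
      unfold ee
      rw [if_neg (fun e => by rw [← e] at hi0; simp at hi0), if_neg (fun e => by rw [← e] at hi1; simp at hi1),
        if_neg (fun e => by rw [← e] at hi2; simp at hi2)]
    rw [← e3] at e1
    exact inv_eq_one.1 e1

/-- **S3499-III-SL-C8U** -/
theorem sl_c8u (_hs : IsSimpleGroup Q) (h : EPT A Γ) {F : Type*} [Field F] [Fintype F] {n : ℕ}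
    (m : Model Q (Cfsg.Geo.specialLinear (Fin n) F)) (hn : 3 ≤ n) (_h32 : ¬ (n = 3 ∧ Fintype.card F = 2))
    (h34 : ¬ (n = 3 ∧ Fintype.card F = 4)) (_h42 : ¬ (n = 4 ∧ Fintype.card F = 2)) {σ : F ≃+* F}
    {f : (Fin n → F) → (Fin n → F) → F} (hf : Cfsg.Geo.IsUnitaryForm σ f)
    (hA : m.hat A ≤ Cfsg.Geo.similarityGroup f) : False := by
  obtain ⟨k, rfl⟩ : ∃ k, n = k + 1 := ⟨n - 1, by omega⟩
  obtain ⟨P, hP⟩ := exists_std σ hf
  refine c8u_std h hf.ne_refl hf.involutive (n := k) (by omega) (fun e => h34 ⟨by omega, e.2⟩)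
    (conjModel m P (sl_conj P)) ?_
  intro g hg
  rw [mem_hat_conjModel] at hg
  obtain ⟨c, hc⟩ := hA hg
  refine ⟨c, fun u v => ?_⟩
  rw [← hP, ← hP]
  have e : ∀ u : Fin (k + 1) → F, (P : Matrix (Fin (k + 1)) (Fin (k + 1)) F) *ᵥ
      ((g : Matrix (Fin (k + 1)) (Fin (k + 1)) F) *ᵥ u) =
      ((P * g * P⁻¹ : GL (Fin (k + 1)) F) : Matrix (Fin (k + 1)) (Fin (k + 1)) F) *ᵥ
        ((P : Matrix (Fin (k + 1)) (Fin (k + 1)) F) *ᵥ u) := by
    intro u
    rw [Matrix.mulVec_mulVec, Matrix.mulVec_mulVec, ← Units.val_mul, ← Units.val_mul, inv_mul_cancel_right]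
  rw [e, e, hc]

end Main

end Cfsg.Agent.H135.EP
end

-- part: H245/EP/SixA
section
/-!
# S3499, class 6 in `SL_n`: linear algebra (helper245)

`R` absolutely irreducible of symplectic type. `kill_transv`: dimension `r ^ k`, `k ≥ 2`. `kill_torus`: `k = 1`.
-/

set_option autoImplicit false

namespace Cfsg.Agent.H245.EP

open Subgroup Cfsg Cfsg.Agent Cfsg.Agent.H920 Cfsg.Geo Matrix Cfsg.Agent.ClassicalGeometry.SympBasic
open scoped MatrixGroups

variable {ι : Type} [Fintype ι] [DecidableEq ι] {F : Type*} [Field F]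

theorem mem_sl {g : GL ι F} : g ∈ specialLinear ι F ↔ (g : Matrix ι ι F).det = 1 := by
  rw [specialLinear, MonoidHom.mem_ker]
  constructor
  · intro h
    have := congrArg Units.val h
    simpa only [_root_.Matrix.GeneralLinearGroup.val_det_apply, _root_.Units.val_one] using this
  · intro h
    apply Units.ext
    simpa using h

theorem one_add_pow' {A : Type*} [Ring A] {y : A} (hy : y * y = 0) (n : ℕ) : (1 + y) ^ n = 1 + n • y := by
  induction n with
  | zero => simp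
  | succ n ih => rw [pow_succ, ih, add_mul, one_mul, smul_mul_assoc, mul_add, mul_one, hy, add_zero, add_assoc,
      ← succ_nsmul']

/-- a unipotent element of an `r`-group is trivial -/
theorem eq_one_of_sq {p r : ℕ} [CharP F p] (hp : p.Prime) (hr : r.Prime) (hrp : r ≠ p) {R : Subgroup (GL ι F)}
    (hRp : IsPGroup r R) {d : GL ι F} (hd : d ∈ R) {M : Matrix ι ι F} (hdM : (d : Matrix ι ι F) = 1 + M)
    (hM : M * M = 0) : M = 0 := by
  have h1 : d ^ p = 1 := by
    apply Units.ext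
    rw [Units.val_pow_eq_pow_val, hdM, one_add_pow' hM, ← Nat.cast_smul_eq_nsmul F, CharP.cast_eq_zero, zero_smul,
      add_zero, Units.val_one]
  obtain ⟨j, hj⟩ := hRp ⟨d, hd⟩
  have h2 : d ^ r ^ j = 1 := by
    have := congrArg Subtype.val hj
    simpa only [_root_.SubmonoidClass.mk_pow, _root_.OneMemClass.coe_one] using this
  have h3 : Nat.Coprime p (r ^ j) := Nat.Coprime.pow_right _ ((Nat.coprime_primes hp hr).2 (Ne.symm hrp))
  have h4 : d = 1 := by
    rw [← orderOf_eq_one_iff]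
    apply Nat.dvd_one.1
    rw [← h3.gcd_eq_one]
    exact Nat.dvd_gcd (orderOf_dvd_of_pow_eq_one h1) (orderOf_dvd_of_pow_eq_one h2)
  rw [h4, Units.val_one] at hdM
  exact (left_eq_add.1 hdM)

/-- the transvection argument -/
theorem kill_transv [Finite F] {p r : ℕ} [CharP F p] (hp : p.Prime) (hr : r.Prime) (hrp : r ≠ p) {R : Subgroup (GL ι F)}
    (hRp : IsPGroup r R) {x y u w : GL ι F} (hy : y ∈ R)
    (hx1 : ∃ v : ι → F, v ≠ 0 ∧ (x : Matrix ι ι F) *ᵥ v = v)
    (H : ∀ c ∈ specialLinear ι F, c * x = x * c → c ∈ subgroupNormalizer R) {ζ η : F} (hζ : ζ ≠ 1) (hη : η ≠ 1)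
    (hxy : (x : Matrix ι ι F) * (y : Matrix ι ι F) = ζ • ((y : Matrix ι ι F) * (x : Matrix ι ι F)))
    (hux : (x : Matrix ι ι F) * (u : Matrix ι ι F) = (u : Matrix ι ι F) * (x : Matrix ι ι F))
    (hwx : (x : Matrix ι ι F) * (w : Matrix ι ι F) = (w : Matrix ι ι F) * (x : Matrix ι ι F))
    (huw : (u : Matrix ι ι F) * (w : Matrix ι ι F) = η • ((w : Matrix ι ι F) * (u : Matrix ι ι F))) : False := by
  classical
  obtain ⟨X, hX⟩ : ∃ X, X = (x : Matrix ι ι F) := ⟨_, rfl⟩
  obtain ⟨Y, hY⟩ : ∃ Y, Y = (y : Matrix ι ι F) := ⟨_, rfl⟩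
  obtain ⟨U, hU⟩ : ∃ U, U = (u : Matrix ι ι F) := ⟨_, rfl⟩
  obtain ⟨W, hW⟩ : ∃ W, W = (w : Matrix ι ι F) := ⟨_, rfl⟩
  obtain ⟨Yi, hYi⟩ : ∃ Yi, Yi = ((y⁻¹ : GL ι F) : Matrix ι ι F) := ⟨_, rfl⟩
  have hYY : Y * Yi = 1 := by rw [hY, hYi, ← Units.val_mul, mul_inv_cancel]; rfl
  have hYY' : Yi * Y = 1 := by rw [hY, hYi, ← Units.val_mul, inv_mul_cancel]; rfl
  rw [← hX, ← hY] at hxy
  rw [← hX, ← hU] at hux
  rw [← hX, ← hW] at hwx
  rw [← hU, ← hW] at huw
  rw [← hX] at hx1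
  obtain ⟨v₁, hv₁, hXv₁⟩ := hx1
  -- a left fixed vector
  obtain ⟨φ, hφ0, hφ⟩ : ∃ φ : ι → F, φ ≠ 0 ∧ φ ᵥ* X = φ := by
    have h1 : (X - 1).det = 0 := by
      rw [← Matrix.exists_mulVec_eq_zero_iff]
      exact ⟨v₁, hv₁, by rw [Matrix.sub_mulVec, hXv₁, Matrix.one_mulVec, sub_self]⟩
    rw [← Matrix.exists_vecMul_eq_zero_iff] at h1
    obtain ⟨φ, h2, h3⟩ := h1
    refine ⟨φ, h2, ?_⟩
    rw [Matrix.vecMul_sub, Matrix.vecMul_one, sub_eq_zero] at h3
    exact h3
  -- a second fixed vector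
  obtain ⟨v₂, hXv₂, hv₂⟩ : ∃ v₂ : ι → F, X *ᵥ v₂ = v₂ ∧ ∀ c : F, v₂ ≠ c • v₁ := by
    by_contra hcon
    push Not at hcon
    obtain ⟨α, hα⟩ := hcon (U *ᵥ v₁) (by rw [Matrix.mulVec_mulVec, hux, ← Matrix.mulVec_mulVec, hXv₁])
    obtain ⟨β, hβ⟩ := hcon (W *ᵥ v₁) (by rw [Matrix.mulVec_mulVec, hwx, ← Matrix.mulVec_mulVec, hXv₁])
    have h1 : (U * W) *ᵥ v₁ = (W * U) *ᵥ v₁ := by
      rw [← Matrix.mulVec_mulVec, ← Matrix.mulVec_mulVec, hα, hβ, Matrix.mulVec_smul, Matrix.mulVec_smul, hα, hβ,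
        smul_smul, smul_smul, mul_comm]
    rw [huw, Matrix.smul_mulVec] at h1
    have h2 : (η - 1) • ((W * U) *ᵥ v₁) = 0 := by rw [sub_smul, one_smul, h1, sub_self]
    rcases smul_eq_zero.1 h2 with h3 | h3
    · exact hη (sub_eq_zero.1 h3)
    · apply hv₁
      have h4 : (w * u : GL ι F).1 *ᵥ v₁ = 0 := by
        rw [Units.val_mul, ← hW, ← hU]
        exact h3
      have h5 : ((w * u)⁻¹ : GL ι F).1 *ᵥ ((w * u : GL ι F).1 *ᵥ v₁) = v₁ := by
        rw [Matrix.mulVec_mulVec, ← Units.val_mul, inv_mul_cancel, Units.val_one, Matrix.one_mulVec]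
      rw [← h5, h4, Matrix.mulVec_zero]
  -- a fixed vector in the kernel of `φ`
  obtain ⟨v, hv0, hXv, hφv⟩ : ∃ v : ι → F, v ≠ 0 ∧ X *ᵥ v = v ∧ φ ⬝ᵥ v = 0 := by
    by_cases h1 : φ ⬝ᵥ v₁ = 0
    · exact ⟨v₁, hv₁, hXv₁, h1⟩
    · refine ⟨v₂ - ((φ ⬝ᵥ v₂) / (φ ⬝ᵥ v₁)) • v₁, ?_, ?_, ?_⟩
      · intro h2
        exact hv₂ _ (sub_eq_zero.1 h2)
      · rw [Matrix.mulVec_sub, Matrix.mulVec_smul, hXv₁, hXv₂]
      · rw [dotProduct_sub, dotProduct_smul, smul_eq_mul, div_mul_cancel₀ _ h1, sub_self]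
  -- the transvection
  obtain ⟨N, hN⟩ : ∃ N, N = Matrix.vecMulVec v φ := ⟨_, rfl⟩
  have hN0 : N ≠ 0 := by
    obtain ⟨i, hi⟩ := Function.ne_iff.1 hv0
    obtain ⟨j, hj⟩ := Function.ne_iff.1 hφ0
    intro e
    have h1 : N i j = 0 := by rw [e]; rfl
    rw [hN, Matrix.vecMulVec_apply] at h1
    exact (mul_ne_zero hi hj) h1
  have hXN : X * N = N := by rw [hN, Matrix.mul_vecMulVec, hXv]
  have hNX : N * X = N := by rw [hN, Matrix.vecMulVec_mul, hφ]
  have hNAN : ∀ B : Matrix ι ι F, φ ⬝ᵥ (B *ᵥ v) = 0 → N * B * N = 0 := by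
    intro B hB
    rw [hN, Matrix.vecMulVec_mul, Matrix.vecMulVec_mul_vecMulVec, ← Matrix.dotProduct_mulVec, hB, zero_smul]
    ext i j
    simp [Matrix.vecMulVec_apply]
  have hNN : N * N = 0 := by
    have := hNAN 1 (by rw [Matrix.one_mulVec]; exact hφv)
    rwa [Matrix.mul_one] at this
  -- `φ Y v = 0`, `φ Y⁻¹ v = 0`
  have hφY : φ ⬝ᵥ (Y *ᵥ v) = 0 := by
    have h1 : φ ⬝ᵥ (Y *ᵥ v) = ζ * (φ ⬝ᵥ (Y *ᵥ v)) := by
      calc φ ⬝ᵥ (Y *ᵥ v) = (φ ᵥ* X) ⬝ᵥ (Y *ᵥ v) := by rw [hφ]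
        _ = φ ⬝ᵥ ((X * Y) *ᵥ v) := by rw [← Matrix.dotProduct_mulVec, Matrix.mulVec_mulVec]
        _ = ζ * (φ ⬝ᵥ ((Y * X) *ᵥ v)) := by rw [hxy, Matrix.smul_mulVec, dotProduct_smul, smul_eq_mul]
        _ = ζ * (φ ⬝ᵥ (Y *ᵥ v)) := by rw [← Matrix.mulVec_mulVec, hXv]
    have h2 : (ζ - 1) * (φ ⬝ᵥ (Y *ᵥ v)) = 0 := by rw [sub_mul, one_mul, ← h1, sub_self]
    exact (mul_eq_zero.1 h2).resolve_left (sub_ne_zero.2 hζ)
  have hxy' : Yi * X = ζ • (X * Yi) := by
    have h1 : Yi * (X * Y) * Yi = ζ • (Yi * (Y * X) * Yi) := by rw [hxy, Matrix.mul_smul, Matrix.smul_mul]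
    have h2 : Yi * (X * Y) * Yi = Yi * X := by
      rw [Matrix.mul_assoc, Matrix.mul_assoc, hYY, Matrix.mul_one]
    have h3 : Yi * (Y * X) * Yi = X * Yi := by
      rw [← Matrix.mul_assoc Yi, hYY', Matrix.one_mul]
    rwa [h2, h3] at h1
  have hφYi : φ ⬝ᵥ (Yi *ᵥ v) = 0 := by
    have h1 : φ ⬝ᵥ (Yi *ᵥ v) = ζ * (φ ⬝ᵥ (Yi *ᵥ v)) := by
      calc φ ⬝ᵥ (Yi *ᵥ v) = φ ⬝ᵥ ((Yi * X) *ᵥ v) := by rw [← Matrix.mulVec_mulVec, hXv]
        _ = ζ * (φ ⬝ᵥ ((X * Yi) *ᵥ v)) := by rw [hxy', Matrix.smul_mulVec, dotProduct_smul, smul_eq_mul]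
        _ = ζ * ((φ ᵥ* X) ⬝ᵥ (Yi *ᵥ v)) := by rw [← Matrix.dotProduct_mulVec, Matrix.mulVec_mulVec]
        _ = ζ * (φ ⬝ᵥ (Yi *ᵥ v)) := by rw [hφ]
    have h2 : (ζ - 1) * (φ ⬝ᵥ (Yi *ᵥ v)) = 0 := by rw [sub_mul, one_mul, ← h1, sub_self]
    exact (mul_eq_zero.1 h2).resolve_left (sub_ne_zero.2 hζ)
  have hNYN := hNAN Y hφY
  have hNYiN := hNAN Yi hφYi
  let t : GL ι F := ⟨1 + N, 1 - N, by
    rw [mul_sub, mul_one, add_mul, one_mul, hNN, add_zero, add_sub_cancel_right], by
    rw [mul_add, mul_one, sub_mul, one_mul, hNN, sub_zero, sub_add_cancel]⟩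
  have ht : (t : Matrix ι ι F) = 1 + N := rfl
  have hti : ((t⁻¹ : GL ι F) : Matrix ι ι F) = 1 - N := rfl
  have htS : t ∈ specialLinear ι F := by
    rw [mem_sl, ht, hN, Matrix.vecMulVec_eq Unit, Matrix.det_one_add_replicateCol_mul_replicateRow, hφv, add_zero]
  have htx : t * x = x * t := by
    apply Units.ext
    rw [Units.val_mul, Units.val_mul, ht, ← hX, add_mul, mul_add, one_mul, mul_one, hXN, hNX]
  have htR := H t htS htx
  have hd : t * y * t⁻¹ * y⁻¹ ∈ R :=
    R.mul_mem ((Subgroup.mem_normalizer_iff.1 htR _).1 hy) (R.inv_mem hy)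
  have hdM : ((t * y * t⁻¹ * y⁻¹ : GL ι F) : Matrix ι ι F) = 1 + (N - Y * N * Yi) := by
    rw [Units.val_mul, Units.val_mul, Units.val_mul, ht, hti, ← hY, ← hYi]
    have h1 : (1 + N) * Y * (1 - N) * Yi = Y * Yi + N * (Y * Yi) - Y * N * Yi - (N * Y * N) * Yi := by
      noncomm_ring
    rw [h1, hNYN, hYY]
    noncomm_ring
  have hMM : (N - Y * N * Yi) * (N - Y * N * Yi) = 0 := by
    have h1 : (N - Y * N * Yi) * (N - Y * N * Yi) = N * N - (N * Y * N) * Yi - Y * (N * Yi * N) +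
        Y * N * (Yi * Y) * N * Yi := by noncomm_ring
    rw [h1, hNN, hNYN, hNYiN, hYY', mul_one, mul_assoc Y, hNN]
    simp
  have hM0 := eq_one_of_sq hp hr hrp hRp hd hdM hMM
  have h1 : N = Y * N * Yi := sub_eq_zero.1 hM0
  have h2 : X * (Y * N * Yi) = ζ • (Y * N * Yi) := by
    rw [← Matrix.mul_assoc, ← Matrix.mul_assoc, hxy, Matrix.smul_mul, Matrix.smul_mul, Matrix.mul_assoc Y X N, hXN]
  rw [← h1, hXN] at h2
  have h3 : (ζ - 1) • N = 0 := by rw [sub_smul, one_smul, ← h2, sub_self]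
  rcases smul_eq_zero.1 h3 with h4 | h4
  · exact hζ (sub_eq_zero.1 h4)
  · exact hN0 h4

end Cfsg.Agent.H245.EP
end

-- part: H245/EP/SixB
section
/-!
# S3499, class 6 in `SL_n`, `n = r`: the torus argument (helper245)
-/

set_option autoImplicit false

namespace Cfsg.Agent.H245.EP

open Subgroup Cfsg Cfsg.Agent Cfsg.Agent.H920 Cfsg.Geo Matrix
open scoped MatrixGroups

variable {ι : Type} [Fintype ι] [DecidableEq ι] {F : Type*} [Field F]

section idem

variable {A : Type*} [Ring A] [Algebra F A]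

/-- the fixed space projection and its conjugates -/
structure Idem (X Y Yi : A) (ζ : F) (E : ℕ → A) : Prop where
  mul : ∀ i, E i * E i = E i
  orth : ∀ i j, ζ ^ i ≠ ζ ^ j → E i * E j = 0
  left : ∀ i, X * E i = ζ ^ i • E i
  right : ∀ i, E i * X = ζ ^ i • E i
  succ : ∀ i, Y * E i * Yi = E (i + 1)
  ne : ∀ i, E i ≠ 0

theorem exists_idem {X Y Yi : A} (hYY : Y * Yi = 1) (hYY' : Yi * Y = 1) {r : ℕ} (hr : (r : F) ≠ 0) (hX : X ^ r = 1)
    {ζ : F} (hxy : X * Y = ζ • (Y * X)) (hxy' : Yi * X = ζ • (X * Yi)) (hζ : ζ ^ r = 1) {v : A} (hv : v ≠ 0) (hXv : X * v = v) :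
    ∃ E : ℕ → A, Idem X Y Yi ζ E ∧ E r = E 0 := by
  obtain ⟨s, hs⟩ : ∃ s, s = ∑ i ∈ Finset.range r, X ^ i := ⟨_, rfl⟩
  have hXs : X * s = s := by
    have h1 : X * s + 1 = s + X ^ r := by
      rw [hs, Finset.mul_sum]
      have h2 := Finset.sum_range_succ (fun i => X ^ i) r
      have h3 := Finset.sum_range_succ' (fun i => X ^ i) r
      simp only [pow_succ', pow_zero] at h3
      rw [← h3, h2]
    rw [hX] at h1
    exact add_right_cancel h1
  have hsX : s * X = s := by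
    have h1 : s * X = X * s := by
      rw [hs, Finset.mul_sum, Finset.sum_mul]
      exact Finset.sum_congr rfl fun i _ => by rw [← pow_succ, ← pow_succ']
    rw [h1, hXs]
  have hXis : ∀ i : ℕ, X ^ i * s = s := by
    intro i
    induction i with
    | zero => rw [pow_zero, one_mul]
    | succ i ih => rw [pow_succ, mul_assoc, hXs, ih]
  have hXiv : ∀ i : ℕ, X ^ i * v = v := by
    intro i
    induction i with
    | zero => rw [pow_zero, one_mul]
    | succ i ih => rw [pow_succ, mul_assoc, hXv, ih]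
  have hss : s * s = (r : F) • s := by
    nth_rewrite 1 [hs]
    rw [Finset.sum_mul, Finset.sum_congr rfl (fun i _ => hXis i), Finset.sum_const, Finset.card_range,
      Nat.cast_smul_eq_nsmul]
  have hsv : s * v = (r : F) • v := by
    rw [hs, Finset.sum_mul, Finset.sum_congr rfl (fun i _ => hXiv i), Finset.sum_const, Finset.card_range,
      Nat.cast_smul_eq_nsmul]
  obtain ⟨e, he⟩ : ∃ e, e = (r : F)⁻¹ • s := ⟨_, rfl⟩
  have hXe : X * e = e := by rw [he, mul_smul_comm, hXs]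
  have heX : e * X = e := by rw [he, smul_mul_assoc, hsX]
  have hee : e * e = e := by
    rw [he, smul_mul_assoc, mul_smul_comm, hss, smul_smul, smul_smul, mul_assoc, inv_mul_cancel₀ hr, mul_one]
  have he0 : e ≠ 0 := by
    intro h0
    apply hv
    have h1 : e * v = v := by rw [he, smul_mul_assoc, hsv, smul_smul, inv_mul_cancel₀ hr, one_smul]
    rw [← h1, h0, zero_mul]
  have hXY : ∀ i : ℕ, X * Y ^ i = ζ ^ i • (Y ^ i * X) := by
    intro i
    induction i with
    | zero => simp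
    | succ i ih =>
      rw [pow_succ, ← mul_assoc, ih, smul_mul_assoc, mul_assoc, hxy, mul_smul_comm, smul_smul, ← pow_succ, ← mul_assoc]
  have hYX : ∀ i : ℕ, Yi ^ i * X = ζ ^ i • (X * Yi ^ i) := by
    intro i
    induction i with
    | zero => simp
    | succ i ih =>
      rw [pow_succ', mul_assoc, ih, mul_smul_comm, ← mul_assoc, hxy', smul_mul_assoc, smul_smul, ← pow_succ, mul_assoc,
        ← pow_succ']
  have hYiY : ∀ i : ℕ, Yi ^ i * Y ^ i = 1 := by
    intro i
    induction i with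
    | zero => simp
    | succ i ih => rw [pow_succ, pow_succ', mul_assoc, ← mul_assoc Yi, hYY', one_mul, ih]
  have hYYi : ∀ i : ℕ, Y ^ i * Yi ^ i = 1 := by
    intro i
    induction i with
    | zero => simp
    | succ i ih => rw [pow_succ, pow_succ', mul_assoc, ← mul_assoc Y, hYY, one_mul, ih]
  have hl : ∀ i : ℕ, X * (Y ^ i * e * Yi ^ i) = ζ ^ i • (Y ^ i * e * Yi ^ i) := by
    intro i
    rw [← mul_assoc, ← mul_assoc, hXY, smul_mul_assoc, smul_mul_assoc, mul_assoc (Y ^ i), hXe]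
  have hr' : ∀ i : ℕ, (Y ^ i * e * Yi ^ i) * X = ζ ^ i • (Y ^ i * e * Yi ^ i) := by
    intro i
    rw [mul_assoc, hYX, mul_smul_comm, ← mul_assoc, mul_assoc (Y ^ i), heX]
  refine ⟨fun i => Y ^ i * e * Yi ^ i, ⟨?_, ?_, hl, hr', ?_, ?_⟩, ?_⟩
  · intro i
    show (Y ^ i * e * Yi ^ i) * (Y ^ i * e * Yi ^ i) = Y ^ i * e * Yi ^ i
    calc (Y ^ i * e * Yi ^ i) * (Y ^ i * e * Yi ^ i) = Y ^ i * (e * (Yi ^ i * Y ^ i) * e) * Yi ^ i := by
          simp only [mul_assoc]
      _ = _ := by rw [hYiY, mul_one, hee]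
  · intro i j hij
    show (Y ^ i * e * Yi ^ i) * (Y ^ j * e * Yi ^ j) = 0
    have h1 : (Y ^ i * e * Yi ^ i) * X * (Y ^ j * e * Yi ^ j) =
        (Y ^ i * e * Yi ^ i) * (X * (Y ^ j * e * Yi ^ j)) := mul_assoc _ _ _
    rw [hl, hr', smul_mul_assoc, mul_smul_comm] at h1
    have h2 : (ζ ^ i - ζ ^ j) • ((Y ^ i * e * Yi ^ i) * (Y ^ j * e * Yi ^ j)) = 0 := by rw [sub_smul, h1, sub_self]
    exact (smul_eq_zero.1 h2).resolve_left (sub_ne_zero.2 hij)
  · intro i
    show Y * (Y ^ i * e * Yi ^ i) * Yi = Y ^ (i + 1) * e * Yi ^ (i + 1)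
    rw [pow_succ', pow_succ]
    simp only [mul_assoc]
  · intro i h0
    apply he0
    have h1 : Yi ^ i * (Y ^ i * e * Yi ^ i) * Y ^ i = 0 := by rw [h0, mul_zero, zero_mul]
    have h2 : Yi ^ i * (Y ^ i * e * Yi ^ i) * Y ^ i = (Yi ^ i * Y ^ i) * e * (Yi ^ i * Y ^ i) := by
      simp only [mul_assoc]
    rw [h2, hYiY, one_mul, mul_one] at h1
    exact h1
  · show Y ^ r * e * Yi ^ r = Y ^ 0 * e * Yi ^ 0
    have h1 : Y ^ r * X = X * Y ^ r := by
      have := hXY r
      rw [hζ, one_smul] at this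
      exact this.symm
    have h2 : ∀ i : ℕ, Y ^ r * X ^ i = X ^ i * Y ^ r := by
      intro i
      induction i with
      | zero => simp
      | succ i ih => rw [pow_succ, ← mul_assoc, ih, mul_assoc, h1, ← mul_assoc]
    have h3 : Y ^ r * e = e * Y ^ r := by
      rw [he, hs, mul_smul_comm, smul_mul_assoc, Finset.mul_sum, Finset.sum_mul]
      congr 1
      exact Finset.sum_congr rfl fun i _ => h2 i
    rw [h3, mul_assoc, hYYi, mul_one, pow_zero, pow_zero, one_mul, mul_one]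

end idem

/-- the torus argument -/
theorem kill_torus {r : ℕ} (hr : r.Prime) (hr3 : 3 ≤ r) (hrF : (r : F) ≠ 0) {R : Subgroup (GL ι F)}
    (hcomm : ∀ x ∈ R, ∀ y ∈ R, x * y * x⁻¹ * y⁻¹ ∈ scalars ι F) {x y : GL ι F} (hy : y ∈ R)
    (hxr : x ^ r = 1) (hx1 : ∃ v : ι → F, v ≠ 0 ∧ (x : Matrix ι ι F) *ᵥ v = v)
    (H : ∀ c ∈ specialLinear ι F, c * x = x * c → c ∈ subgroupNormalizer R) {ζ : F} (hζr : ζ ^ r = 1) (hζ : ζ ≠ 1)
    (hxy : (x : Matrix ι ι F) * (y : Matrix ι ι F) = ζ • ((y : Matrix ι ι F) * (x : Matrix ι ι F)))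
    {a : F} (ha0 : a ≠ 0) (ha1 : a ≠ 1) (ha3 : r = 3 → a ^ 3 ≠ 1) : False := by
  classical
  obtain ⟨X, hX⟩ : ∃ X, X = (x : Matrix ι ι F) := ⟨_, rfl⟩
  obtain ⟨Y, hY⟩ : ∃ Y, Y = (y : Matrix ι ι F) := ⟨_, rfl⟩
  obtain ⟨Yi, hYi⟩ : ∃ Yi, Yi = ((y⁻¹ : GL ι F) : Matrix ι ι F) := ⟨_, rfl⟩
  have hYY : Y * Yi = 1 := by rw [hY, hYi, ← Units.val_mul, mul_inv_cancel]; rfl
  have hYY' : Yi * Y = 1 := by rw [hY, hYi, ← Units.val_mul, inv_mul_cancel]; rfl
  rw [← hX, ← hY] at hxy
  have hxy' : Yi * X = ζ • (X * Yi) := by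
    have h1 : Yi * (X * Y) * Yi = ζ • (Yi * (Y * X) * Yi) := by rw [hxy, Matrix.mul_smul, Matrix.smul_mul]
    have h2 : Yi * (X * Y) * Yi = Yi * X := by
      rw [Matrix.mul_assoc, Matrix.mul_assoc, hYY, Matrix.mul_one]
    have h3 : Yi * (Y * X) * Yi = X * Yi := by
      rw [← Matrix.mul_assoc Yi, hYY', Matrix.one_mul]
    rwa [h2, h3] at h1
  have hXr : X ^ r = 1 := by rw [hX, ← Units.val_pow_eq_pow_val, hxr]; rfl
  obtain ⟨v, hv, hXv⟩ := hx1
  rw [← hX] at hXv
  have hV0 : Matrix.vecMulVec v v ≠ 0 := by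
    obtain ⟨i, hi⟩ := Function.ne_iff.1 hv
    intro e
    have h1 : Matrix.vecMulVec v v i i = 0 := by rw [e]; rfl
    rw [Matrix.vecMulVec_apply] at h1
    exact (mul_ne_zero hi hi) h1
  have hXV : X * Matrix.vecMulVec v v = Matrix.vecMulVec v v := by rw [Matrix.mul_vecMulVec, hXv]
  obtain ⟨E, hE, hEr⟩ := exists_idem hYY hYY' hrF hXr hxy hxy' hζr hV0 hXV
  have hrp : Fact r.Prime := ⟨hr⟩
  have hprim : IsPrimitiveRoot ζ r := by
    have h3 := IsPrimitiveRoot.orderOf ζ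
    rwa [orderOf_eq_prime hζr hζ] at h3
  have hne : ∀ i j, i < r → j < r → i ≠ j → E i * E j = 0 := fun i j hi hj hij =>
    hE.orth i j fun e => hij (hprim.pow_inj hi hj e)
  obtain ⟨b, hb⟩ : ∃ b, b = a⁻¹ := ⟨_, rfl⟩
  have hab : a * b = 1 := by rw [hb]; exact mul_inv_cancel₀ ha0
  -- the diagonal elements
  have hT : ∀ (i : ℕ) (α β : F), α * β = 1 → (1 + (α - 1) • E i) * (1 + (β - 1) • E i) = 1 := by
    intro i α β h
    have h1 : (1 + (α - 1) • E i) * (1 + (β - 1) • E i) =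
        1 + ((α - 1) + (β - 1)) • E i + ((α - 1) * (β - 1)) • (E i * E i) := by
      simp only [add_mul, mul_add, one_mul, mul_one, smul_mul_smul_comm, add_smul]
      abel
    rw [h1, hE.mul, add_assoc, ← add_smul]
    have h2 : α - 1 + (β - 1) + (α - 1) * (β - 1) = 0 := by linear_combination h
    rw [h2, zero_smul, add_zero]
  let t : GL ι F := ⟨1 + (a - 1) • E 0, 1 + (b - 1) • E 0, hT 0 a b hab, hT 0 b a (by rw [mul_comm, hab])⟩
  have ht : (t : Matrix ι ι F) = 1 + (a - 1) • E 0 := rfl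
  have hti : ((t⁻¹ : GL ι F) : Matrix ι ι F) = 1 + (b - 1) • E 0 := rfl
  have hXE : ∀ i (α : F), X * (1 + α • E i) = (1 + α • E i) * X := by
    intro i α
    rw [mul_add, add_mul, mul_one, one_mul, mul_smul_comm, smul_mul_assoc, hE.left, hE.right]
  have hYE : ∀ i (α : F), Y * (1 + α • E i) * Yi = 1 + α • E (i + 1) := by
    intro i α
    rw [mul_add, add_mul, mul_one, hYY, mul_smul_comm, smul_mul_assoc, hE.succ]
  obtain ⟨c, hc⟩ : ∃ c : GL ι F, c = t * y * t⁻¹ * y⁻¹ := ⟨_, rfl⟩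
  have hcM : (c : Matrix ι ι F) = (1 + (a - 1) • E 0) * (1 + (b - 1) • E 1) := by
    rw [hc, Units.val_mul, Units.val_mul, Units.val_mul, ht, hti, ← hY, ← hYi, Matrix.mul_assoc, Matrix.mul_assoc,
      ← Matrix.mul_assoc Y, hYE]
  have hciM : ((c⁻¹ : GL ι F) : Matrix ι ι F) = (1 + (a - 1) • E 1) * (1 + (b - 1) • E 0) := by
    have h1 : c⁻¹ = y * t * y⁻¹ * t⁻¹ := by rw [hc]; group
    rw [h1, Units.val_mul, Units.val_mul, Units.val_mul, ht, hti, ← hY, ← hYi, hYE]
  have hcS : c ∈ specialLinear ι F := by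
    rw [hc, specialLinear, MonoidHom.mem_ker, map_mul, map_mul, map_mul, map_inv, map_inv]
    rw [mul_comm (GeneralLinearGroup.det t), mul_inv_cancel_right, mul_inv_cancel]
  have hcx : c * x = x * c := by
    apply Units.ext
    rw [Units.val_mul, Units.val_mul, hcM, ← hX, ← Matrix.mul_assoc X, hXE, Matrix.mul_assoc, Matrix.mul_assoc, hXE]
  have hcR := H c hcS hcx
  obtain ⟨d, hd⟩ : ∃ d : GL ι F, d = c * y * c⁻¹ * y⁻¹ := ⟨_, rfl⟩
  have hdR : d ∈ R := by
    rw [hd]
    exact R.mul_mem ((Subgroup.mem_normalizer_iff.1 hcR _).1 hy) (R.inv_mem hy)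
  obtain ⟨D, hD⟩ : ∃ D, D = (d : Matrix ι ι F) := ⟨_, rfl⟩
  have hDM : D = (1 + (a - 1) • E 0) * (1 + (b - 1) • E 1) * ((1 + (a - 1) • E 2) * (1 + (b - 1) • E 1)) := by
    rw [hD, hd, Units.val_mul, Units.val_mul, Units.val_mul, hcM, hciM, ← hY, ← hYi]
    have h1 : Y * ((1 + (a - 1) • E 1) * (1 + (b - 1) • E 0)) * Yi =
        (1 + (a - 1) • E 2) * (1 + (b - 1) • E 1) := by
      have h2 : ∀ P P' : Matrix ι ι F, Y * (P * P') * Yi = (Y * P * Yi) * (Y * P' * Yi) := by
        intro P P'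
        simp only [Matrix.mul_assoc]
        rw [← Matrix.mul_assoc Yi Y, hYY', Matrix.one_mul]
      rw [h2, hYE, hYE]
    rw [← h1]
    simp only [Matrix.mul_assoc]
  -- `Y D Y⁻¹ = λ D`
  obtain ⟨l, hl⟩ : ∃ l : F, Y * D * Yi = l • D := by
    obtain ⟨l, hl⟩ := (mem_scalars_iff _).1 (hcomm y hy d hdR)
    refine ⟨l, ?_⟩
    have h1 : y * d * y⁻¹ = (y * d * y⁻¹ * d⁻¹) * d := by group
    have h2 := congrArg Units.val h1
    rw [Units.val_mul (y * d * y⁻¹ * d⁻¹), hl, Matrix.smul_mul, Matrix.one_mul, Units.val_mul, Units.val_mul, ← hY,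
      ← hYi, ← hD] at h2
    exact h2
  have hone : ∀ i (α : F), E i * (1 + (α - 1) • E i) = α • E i := by
    intro i α
    rw [mul_add, mul_one, mul_smul_comm, hE.mul]
    nth_rewrite 1 [← one_smul F (E i)]
    rw [← add_smul]
    congr 1
    ring
  have hzero : ∀ i j (α : F), E i * E j = 0 → E i * (1 + α • E j) = E i := by
    intro i j α h
    rw [mul_add, mul_one, mul_smul_comm, h, smul_zero, add_zero]
  have hrel : ∀ i (δ δ' : F), E i * D = δ • E i → E (i + 1) * D = δ' • E (i + 1) → δ = l * δ' := by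
    intro i δ δ' h1 h2
    have h3 : E (i + 1) * (Y * D * Yi) = δ • E (i + 1) := by
      rw [← hE.succ i]
      have h4 : Y * E i * Yi * (Y * D * Yi) = Y * (E i * D) * Yi := by
        simp only [Matrix.mul_assoc]
        rw [← Matrix.mul_assoc Yi Y, hYY', Matrix.one_mul]
      rw [h4, h1, mul_smul_comm, smul_mul_assoc]
    rw [hl, mul_smul_comm, h2, smul_smul] at h3
    have h4 : (l * δ' - δ) • E (i + 1) = 0 := by rw [sub_smul, h3, sub_self]
    rcases smul_eq_zero.1 h4 with h5 | h5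
    · exact (sub_eq_zero.1 h5).symm
    · exact absurd h5 (hE.ne _)
  have h01 := hne 0 1 (by omega) (by omega) (by omega)
  have h02 := hne 0 2 (by omega) (by omega) (by omega)
  have h10 := hne 1 0 (by omega) (by omega) (by omega)
  have h12 := hne 1 2 (by omega) (by omega) (by omega)
  have h20 := hne 2 0 (by omega) (by omega) (by omega)
  have h21 := hne 2 1 (by omega) (by omega) (by omega)
  have d0 : E 0 * D = a • E 0 := by
    rw [hDM, ← mul_assoc, ← mul_assoc, ← mul_assoc, hone, smul_mul_assoc, smul_mul_assoc, smul_mul_assoc, hzero 0 1 _ h01,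
      hzero 0 2 _ h02, hzero 0 1 _ h01]
  have d1 : E 1 * D = (b * b) • E 1 := by
    rw [hDM, ← mul_assoc, ← mul_assoc, ← mul_assoc, hzero 1 0 _ h10, hone, smul_mul_assoc, smul_mul_assoc,
      hzero 1 2 _ h12, hone, smul_smul]
  have d2 : E 2 * D = a • E 2 := by
    rw [hDM, ← mul_assoc, ← mul_assoc, ← mul_assoc, hzero 2 0 _ h20, hzero 2 1 _ h21, hone, smul_mul_assoc,
      hzero 2 1 _ h21]
  have e0 := hrel 0 _ _ d0 d1
  by_cases h5 : r = 3
  · have d3 : E 3 * D = a • E 3 := by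
      rw [← h5, hEr]
      exact d0
    have e2 := hrel 2 _ _ d2 d3
    have e3 : l = 1 := by
      have : (l - 1) * a = 0 := by linear_combination -e2
      exact sub_eq_zero.1 ((mul_eq_zero.1 this).resolve_right ha0)
    rw [e3, one_mul] at e0
    apply ha3 h5
    calc a ^ 3 = a * a * a := by ring
      _ = (a * b) * (a * b) := by nth_rewrite 3 [e0]; ring
      _ = 1 := by rw [hab, one_mul]
  · have h6 : 5 ≤ r := by
      rcases Nat.lt_or_ge r 5 with h6 | h6
      · have h7 : r = 4 := by omega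
        rw [h7] at hr
        exact absurd hr (by decide)
      · exact h6
    have d3 : E 3 * D = (1 : F) • E 3 := by
      rw [hDM, ← mul_assoc, ← mul_assoc, ← mul_assoc, hzero 3 0 _ (hne 3 0 (by omega) (by omega) (by omega)),
        hzero 3 1 _ (hne 3 1 (by omega) (by omega) (by omega)), hzero 3 2 _ (hne 3 2 (by omega) (by omega) (by omega)),
        hzero 3 1 _ (hne 3 1 (by omega) (by omega) (by omega)), one_smul]
    have d4 : E 4 * D = (1 : F) • E 4 := by
      rw [hDM, ← mul_assoc, ← mul_assoc, ← mul_assoc, hzero 4 0 _ (hne 4 0 (by omega) (by omega) (by omega)),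
        hzero 4 1 _ (hne 4 1 (by omega) (by omega) (by omega)), hzero 4 2 _ (hne 4 2 (by omega) (by omega) (by omega)),
        hzero 4 1 _ (hne 4 1 (by omega) (by omega) (by omega)), one_smul]
    have e3 := hrel 3 _ _ d3 d4
    have e2 := hrel 2 _ _ d2 d3
    rw [mul_one] at e3 e2
    exact ha1 (e2.trans e3.symm)

end Cfsg.Agent.H245.EP
end

-- part: H245/EP/Red
section
/-!
# S3499: a normal `r`-subgroup of the point stabiliser (helper245)

* `mem_of_comm` : `K` a normal `r`-subgroup of `A`, `1 ≠ k ∈ K`: `C_Q(k) ≤ A`;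
* `Model.mem_normalizer` : `Â ≤ N(R)`, `R` an `r`-group, `x ∈ R ∩ S` not scalar: `C_S(x) ≤ N(R)`.
-/

set_option autoImplicit false

namespace Cfsg.Agent.H245.EP

open Subgroup Cfsg.Agent Cfsg.Agent.H284 Cfsg.Agent.H419.EP Cfsg.Geo
open scoped MatrixGroups

variable {Q : Type*} [Group Q] [Finite Q] {A : Subgroup Q} {Γ : Subgroup (MulAut Q)}

/-- (T1) for a normal `r`-subgroup of `A` -/
theorem mem_of_comm (h : EPT A Γ) {r : ℕ} (hr : r.Prime) {K : Subgroup Q} (hKA : K ≤ A)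
    (hKn : ∀ a ∈ A, ∀ k ∈ K, a * k * a⁻¹ ∈ K) (hKp : IsPGroup r K) {k : Q} (hk : k ∈ K) (hk1 : k ≠ 1) {c : Q}
    (hc : c * k = k * c) : c ∈ A := by
  have hrF : Fact r.Prime := ⟨hr⟩
  by_contra hcA
  set P : Subgroup A := pCore r A with hP
  have hKP : K.subgroupOf A ≤ P := by
    apply Lib.Cores.le_pCore
    · refine ⟨fun n hn g => ?_⟩
      rw [mem_subgroupOf] at hn ⊢
      exact hKn g g.2 n hn
    · exact hKp.comap_of_injective A.subtype A.subtype_injective
  have hPc : P.Characteristic := Lib.Cores.pCore_characteristic r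
  have hPp : IsPGroup r P := Lib.Cores.pCore_isPGroup r
  have hkP : k ∈ P.map A.subtype := ⟨⟨k, hKA hk⟩, hKP (mem_subgroupOf.2 hk), rfl⟩
  have hle : P.map A.subtype ≤ A := by
    rintro _ ⟨a, -, rfl⟩
    exact a.2
  have hinv : ∀ σ ∈ Γ, ∀ a ∈ P.map A.subtype, σ a ∈ P.map A.subtype := by
    rintro σ hσ _ ⟨a, ha, rfl⟩
    let σ' : A ≃* A :=
      { toFun := fun a => ⟨σ a, (h.inv σ hσ a).2 a.2⟩
        invFun := fun a => ⟨σ.symm a, by
          rw [← h.inv σ hσ, MulEquiv.apply_symm_apply]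
          exact a.2⟩
        left_inv := fun a => by simp
        right_inv := fun a => by simp
        map_mul' := fun a b => by
          apply Subtype.ext
          show σ ((a * b : A) : Q) = σ a * σ b
          rw [Subgroup.coe_mul, map_mul] }
    have h1 := hPc.fixed σ'
    refine ⟨σ' a, ?_, rfl⟩
    have h2 : a ∈ P.comap σ'.toMonoidHom := by rw [h1]; exact ha
    exact h2
  have hPp' : IsPGroup r (P.map A.subtype) := hPp.map A.subtype
  have hnil : Group.IsNilpotent (P.map A.subtype) := hPp'.isNilpotent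
  have hne : P.map A.subtype ≠ ⊥ := by
    intro e
    rw [e, mem_bot] at hkP
    exact hk1 hkP
  obtain ⟨-, -, -, h4, -⟩ := h.nilp _ hle hinv hnil hne
  have h5 : k ∈ P.map A.subtype ⊓ cj c A := by
    refine ⟨hkP, ?_⟩
    show k ∈ cj c A
    rw [mem_cj]
    have h6 : c⁻¹ * k * c = k := by rw [mul_assoc, ← hc, inv_mul_cancel_left]
    rw [h6]
    exact hKA hk
  rw [(h4 c hcA).1, mem_bot] at h5
  exact hk1 h5

variable {ι : Type} [Fintype ι] [DecidableEq ι] {F : Type*} [Field F] {S : Subgroup (GL ι F)}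

/-- the centralizer of a nonscalar element of `R ∩ S` normalises `R` -/
theorem mem_normalizer (h : EPT A Γ) (m : Model Q S) {R : Subgroup (GL ι F)} (hA : m.hat A ≤ subgroupNormalizer R)
    {r : ℕ} (hr : r.Prime) (hRp : IsPGroup r R) {x : GL ι F} (hx : x ∈ R) (hxS : x ∈ S) (hxs : x ∉ scalars ι F)
    {c : GL ι F} (hcS : c ∈ S) (hcx : c * x = x * c) : c ∈ subgroupNormalizer R := by
  obtain ⟨-, hmax⟩ := m.isMaximalIn h.max
  rcases hmax (subgroupNormalizer R ⊓ S) (le_inf hA (m.hat_le A)) inf_le_right with h1 | h1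
  · -- `R ∩ S ≤ Â`
    have hRS : R ⊓ S ≤ m.hat A := by
      rw [← h1]
      exact inf_le_inf_right S Subgroup.le_normalizer
    set K : Subgroup Q := ((R ⊓ S).subgroupOf S).map m.π with hK
    have hKA : K ≤ A := by
      rintro _ ⟨s, hs, rfl⟩
      exact (m.mem_hat_iff s).1 (hRS hs)
    have hKn : ∀ a ∈ A, ∀ k ∈ K, a * k * a⁻¹ ∈ K := by
      rintro a ha _ ⟨s, hs, rfl⟩
      obtain ⟨t, rfl⟩ := m.surj a
      have ht : (t : GL ι F) ∈ subgroupNormalizer R := hA ((m.mem_hat_iff t).2 ha)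
      refine ⟨t * s * t⁻¹, ?_, by rw [map_mul, map_mul, map_inv]⟩
      refine ⟨?_, (t * s * t⁻¹ : S).2⟩
      exact (Subgroup.mem_normalizer_iff.1 ht _).1 hs.1
    have hKp : IsPGroup r K := by
      apply IsPGroup.map
      have h2 : IsPGroup r (R ⊓ S : Subgroup (GL ι F)) := hRp.to_le inf_le_left
      exact h2.comap_of_injective S.subtype S.subtype_injective
    have hkK : m.π ⟨x, hxS⟩ ∈ K := ⟨⟨x, hxS⟩, ⟨hx, hxS⟩, rfl⟩
    have hk1 : m.π ⟨x, hxS⟩ ≠ 1 := fun e => hxs ((m.ker _).1 e)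
    have h2 : m.π ⟨c, hcS⟩ ∈ A := by
      refine mem_of_comm h hr hKA hKn hKp hkK hk1 ?_
      rw [← map_mul, ← map_mul]
      congr 1
      exact Subtype.ext hcx
    exact hA ((m.mem_hat_iff ⟨c, hcS⟩).2 h2)
  · have h2 : c ∈ subgroupNormalizer R ⊓ S := by rw [h1]; exact hcS
    exact h2.1

end Cfsg.Agent.H245.EP
end

-- part: H245/EP/SixC
section
/-!
# S3499, class 6 in `SL_n` (helper245)
-/

set_option autoImplicit false

namespace Cfsg.Agent.H245.EP

open Subgroup Cfsg Cfsg.Agent Cfsg.Agent.H920 Cfsg.Geo Matrix Cfsg.Agent.ClassicalGeometry.SympBasic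
open scoped MatrixGroups

variable {ι : Type} [Fintype ι] [DecidableEq ι] {F : Type*} [Field F]

theorem exists_fixed [Nonempty ι] {r k : ℕ} (hr : r.Prime) (hrF : (r : F) ≠ 0) (hcard : Fintype.card ι = r ^ k)
    {R : Subgroup (GL ι F)} (h : ActsAbsolutelyIrreducibly (matrixSet R))
    (hcomm : ∀ x ∈ R, ∀ y ∈ R, x * y * x⁻¹ * y⁻¹ ∈ scalars ι F) {x : GL ι F} (hx : x ∈ R) (hxs : x ∉ scalars ι F)
    (hxr : x ^ r = 1) : ∃ v : ι → F, v ≠ 0 ∧ (x : Matrix ι ι F) *ᵥ v = v := by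
  classical
  obtain ⟨X, hX⟩ : ∃ X, X = (x : Matrix ι ι F) := ⟨_, rfl⟩
  have hXr : X ^ r = 1 := by rw [hX, ← Units.val_pow_eq_pow_val, hxr]; rfl
  obtain ⟨s, hs⟩ : ∃ s, s = ∑ i ∈ Finset.range r, X ^ i := ⟨_, rfl⟩
  have hXs : X * s = s := by
    have h1 : X * s + 1 = s + X ^ r := by
      rw [hs, Finset.mul_sum]
      have h2 := Finset.sum_range_succ (fun i => X ^ i) r
      have h3 := Finset.sum_range_succ' (fun i => X ^ i) r
      simp only [pow_succ', pow_zero] at h3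
      rw [← h3, h2]
    rw [hXr] at h1
    exact add_right_cancel h1
  have htr : s.trace = (Fintype.card ι : F) := by
    rw [hs, Matrix.trace_sum, Finset.sum_eq_single_of_mem 0 (Finset.mem_range.2 hr.pos)]
    · rw [pow_zero, Matrix.trace_one]
    · intro i hi hi0
      rw [hX, ← Units.val_pow_eq_pow_val]
      apply trace_eq_zero h hcomm (R.pow_mem hx i)
      intro h1
      apply hxs
      have h2 : Nat.Coprime i r := by
        rw [Nat.coprime_comm]
        exact (Nat.Prime.coprime_iff_not_dvd hr).2 fun h3 =>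
          absurd (Nat.le_of_dvd (Nat.pos_of_ne_zero hi0) h3) (not_le.2 (Finset.mem_range.1 hi))
      obtain ⟨m, -, hm⟩ := Nat.exists_mul_mod_eq_one_of_coprime h2 hr.one_lt
      have h3 : x = (x ^ i) ^ m := by
        rw [← pow_mul, ← Nat.div_add_mod (i * m) r, pow_add, pow_mul, hxr, one_pow, one_mul, hm, pow_one]
      rw [h3]
      exact Subgroup.pow_mem _ h1 m
  have hs0 : s ≠ 0 := by
    rintro rfl
    rw [Matrix.trace_zero, hcard, Nat.cast_pow] at htr
    exact pow_ne_zero _ hrF htr.symm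
  obtain ⟨j, hj⟩ : ∃ j, s *ᵥ (Pi.single j 1) ≠ 0 := by
    by_contra hcon
    push Not at hcon
    apply hs0
    ext i j
    have h1 := congrFun (hcon j) i
    rw [Matrix.mulVec_single_one] at h1
    exact h1
  refine ⟨_, hj, ?_⟩
  rw [Matrix.mulVec_mulVec, ← hX, hXs]

theorem exists_cube [Finite F] (h : 5 ≤ Nat.card F) : ∃ a : F, a ≠ 0 ∧ a ≠ 1 ∧ a ^ 3 ≠ 1 := by
  classical
  have := Fintype.ofFinite F
  obtain ⟨g, hg⟩ := IsCyclic.exists_generator (α := Fˣ)
  have h1 : orderOf g = Nat.card F - 1 := by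
    rw [orderOf_eq_card_of_forall_mem_zpowers hg, Nat.card_eq_fintype_card, Fintype.card_units,
      Nat.card_eq_fintype_card]
  have h2 : (g : F) ^ 3 ≠ 1 := by
    intro e
    have h3 : g ^ 3 = 1 := Units.ext (by rw [Units.val_pow_eq_pow_val, e]; rfl)
    have h4 := Nat.le_of_dvd (by norm_num) (orderOf_dvd_of_pow_eq_one h3)
    omega
  exact ⟨g, g.ne_zero, fun e => h2 (by rw [e, one_pow]), h2⟩

/-- the linear algebra of class 6 in `SL_n` -/
theorem kill_six [Fintype F] (hn : 3 ≤ Fintype.card ι) (h34 : ¬ (Fintype.card ι = 3 ∧ Fintype.card F = 4)) {r : ℕ}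
    {R : Subgroup (GL ι F)} (hR : IsLinearSymplecticTypeData r R)
    (H : ∀ x ∈ R, x ∈ specialLinear ι F → x ∉ scalars ι F → ∀ c ∈ specialLinear ι F, c * x = x * c →
      c ∈ subgroupNormalizer R) : False := by
  classical
  have hne : Nonempty ι := Fintype.card_pos_iff.1 (by omega)
  have hfin : Finite (GL ι F) := inferInstance
  have hfinR : Finite R := inferInstance
  obtain ⟨hsy, habs, p, e, hrp, hmin, hcase⟩ := hR
  have hr := hsy.prime
  have hrFact : Fact r.Prime := ⟨hr⟩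
  obtain ⟨hp, hchar, hFcard, -⟩ := hmin
  have hrF : (r : F) ≠ 0 := by
    rw [Ne, CharP.cast_eq_zero_iff F p]
    intro h
    exact hrp ((Nat.prime_dvd_prime_iff_eq hp hr).1 h).symm
  obtain ⟨k, hk1, ht, hZk⟩ : ∃ k, 1 ≤ k ∧ IsType r k R ∧ Nat.card (Subgroup.center R) ∣ r ^ k := by
    rcases hcase with ⟨hodd, -, hZ, k, hk, hc⟩ | ⟨h2, -, hZ, h4, k, hc⟩ | ⟨-, -, h2, -⟩
    · exact ⟨k, hk, Or.inl ⟨hodd, hZ, hc⟩, by rw [hZ]; exact dvd_pow_self r (by omega)⟩
    · have ht : IsType r k R := Or.inr ⟨h2, hZ, hc⟩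
      have h5 := card_of_type hsy habs ht
      have h6 : 2 ≤ k := by
        by_contra hcon
        have h7 : k = 0 ∨ k = 1 := by omega
        rcases h7 with h7 | h7
        · rw [h7, pow_zero] at h5; omega
        · rw [h7, pow_one, h2] at h5; omega
      refine ⟨k, by omega, ht, ?_⟩
      rw [hZ, h2]
      exact pow_dvd_pow 2 h6
    · omega
  have hcard := card_of_type hsy habs ht
  have hcomm := comm_of_type hsy habs ht
  have hpow := pow_of_type hsy habs ht
  obtain ⟨C⟩ := exists_coord habs hcomm hr hk1 hpow hcard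
  -- determinants
  have hdZ : ∀ z ∈ R, z ∈ scalars ι F → z ∈ specialLinear ι F := by
    intro z hz hzs
    obtain ⟨c, hc⟩ := (mem_scalars_iff _).1 hzs
    have h1 := pow_card_center habs hz hc
    rw [mem_sl, hc, Matrix.det_smul, Matrix.det_one, mul_one, hcard]
    obtain ⟨m, hm⟩ := hZk
    rw [hm, pow_mul, h1, one_pow]
  have hdR : ∀ x ∈ R, (x : Matrix ι ι F).det ^ r = 1 := by
    intro x hx
    have h1 := hdZ _ (R.pow_mem hx r) (hpow x hx)
    rw [mem_sl, Units.val_pow_eq_pow_val, Matrix.det_pow] at h1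
    exact h1
  obtain ⟨i0, hi0⟩ : ∃ i0 : Fin k, (i0 : ℕ) = 0 := ⟨⟨0, hk1⟩, rfl⟩
  -- a nonscalar element of determinant one in a hyperbolic plane
  obtain ⟨x, hxd, hxs, hxφ⟩ : ∃ x : R, (x : GL ι F) ∈ specialLinear ι F ∧ (x : GL ι F) ∉ scalars ι F ∧
      ∀ j, j ≠ i0 → C.φ x (Sum.inl j) = 0 ∧ C.φ x (Sum.inr j) = 0 := by
    obtain ⟨x₀, hx₀⟩ := C.surj (Pi.single (Sum.inl i0) 1)
    obtain ⟨y₀, hy₀⟩ := C.surj (Pi.single (Sum.inr i0) 1)
    by_cases h1 : ((x₀ : GL ι F) : Matrix ι ι F).det = 1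
    · refine ⟨x₀, mem_sl.2 h1, ?_, ?_⟩
      · rw [← C.ker_iff, hx₀]
        intro h2
        have := congrFun h2 (Sum.inl i0)
        simp at this
      · intro j hj
        rw [hx₀]
        simp [hj]
    · have h2 : IsPrimitiveRoot ((x₀ : GL ι F) : Matrix ι ι F).det r := by
        have h3 := IsPrimitiveRoot.orderOf ((x₀ : GL ι F) : Matrix ι ι F).det
        rwa [orderOf_eq_prime (hdR _ x₀.2) h1] at h3
      obtain ⟨m, -, hm⟩ := h2.eq_pow_of_pow_eq_one (hdR _ y₀.2)
      have h3 : ∀ m : ℕ, C.φ (y₀ * x₀⁻¹ ^ m) (Sum.inr i0) = 1 ∧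
          ∀ j, j ≠ i0 → C.φ (y₀ * x₀⁻¹ ^ m) (Sum.inl j) = 0 ∧ C.φ (y₀ * x₀⁻¹ ^ m) (Sum.inr j) = 0 := by
        intro m
        induction m with
        | zero =>
          rw [pow_zero, mul_one, hy₀]
          refine ⟨by simp, fun j hj => by simp [hj]⟩
        | succ m ih =>
          rw [pow_succ, ← mul_assoc, C.map_mul, C.φ_inv, hx₀]
          refine ⟨?_, fun j hj => ⟨?_, ?_⟩⟩
          · rw [Pi.add_apply, ih.1]; simp
          · rw [Pi.add_apply, (ih.2 j hj).1]; simp [hj]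
          · rw [Pi.add_apply, (ih.2 j hj).2]; simp
      refine ⟨y₀ * x₀⁻¹ ^ m, ?_, ?_, (h3 m).2⟩
      · have h4 : (y₀ * x₀⁻¹ ^ m : R) = y₀ * (x₀ ^ m)⁻¹ := by rw [inv_pow]
        rw [h4, Subgroup.coe_mul, Subgroup.coe_inv, Subgroup.coe_pow, specialLinear, MonoidHom.mem_ker, map_mul, map_inv,
          map_pow, mul_inv_eq_one]
        apply Units.ext
        rw [Units.val_pow_eq_pow_val, GeneralLinearGroup.val_det_apply, GeneralLinearGroup.val_det_apply, hm]
      · rw [← C.ker_iff]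
        intro h4
        have := (h3 m).1
        rw [h4] at this
        exact zero_ne_one this
  -- normalise `x ^ r = 1`
  obtain ⟨x, hxd, hxs, hxφ, hxr⟩ : ∃ x : R, (x : GL ι F) ∈ specialLinear ι F ∧ (x : GL ι F) ∉ scalars ι F ∧
      (∀ j, j ≠ i0 → C.φ x (Sum.inl j) = 0 ∧ C.φ x (Sum.inr j) = 0) ∧ (x : GL ι F) ^ r = 1 := by
    obtain ⟨z, hz, hzx⟩ := full_of_type hsy habs ht x
    have hzs := mem_scalars_of_mem_center habs hz
    refine ⟨z * x, ?_, ?_, ?_, ?_⟩
    · exact Subgroup.mul_mem _ (hdZ _ z.2 hzs) hxd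
    · intro h1
      exact hxs ((Subgroup.mul_mem_cancel_left _ hzs).1 h1)
    · rw [C.map_mul, (C.ker_iff z).2 hzs, zero_add]
      exact hxφ
    · exact congrArg Subtype.val hzx
  obtain ⟨y, hxy⟩ : ∃ y : R, (x : GL ι F) * y ≠ y * x := by
    by_contra hcon
    push Not at hcon
    exact hxs (mem_scalars_of_comm' habs fun y hy => hcon ⟨y, hy⟩)
  obtain ⟨ζ, hζ⟩ : ∃ ζ, ζ = C.χ (sympForm k (ZMod r) (C.φ x) (C.φ y)) := ⟨_, rfl⟩
  have hxy' := C.comm x y
  rw [← hζ] at hxy'
  have hζ1 : ζ ≠ 1 := by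
    intro h1
    apply hxy
    apply Units.ext
    rw [Units.val_mul, Units.val_mul, hxy', h1, one_smul]
  have hζr : ζ ^ r = 1 := by
    rw [hζ, ← AddChar.map_nsmul_eq_pow, nsmul_eq_mul, ZMod.natCast_self, zero_mul, AddChar.map_zero_eq_one]
  have hfix := exists_fixed hr hrF hcard habs hcomm x.2 hxs hxr
  have Hx := H x x.2 hxd hxs
  rcases Nat.lt_or_ge 1 k with hk2 | hk2
  · -- `k ≥ 2`
    obtain ⟨i1, hi1⟩ : ∃ i1 : Fin k, (i1 : ℕ) = 1 := ⟨⟨1, hk2⟩, rfl⟩
    have hi : i1 ≠ i0 := by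
      intro h1
      rw [h1, hi0] at hi1
      omega
    obtain ⟨u, hu⟩ := C.surj (Pi.single (Sum.inl i1) 1)
    obtain ⟨w, hw⟩ := C.surj (Pi.single (Sum.inr i1) 1)
    obtain ⟨ha, hb⟩ := hxφ i1 hi
    have h1 : sympForm k (ZMod r) (C.φ x) (C.φ u) = 0 := by
      rw [sympForm_eq_sum, hu]
      refine Finset.sum_eq_zero fun i _ => ?_
      by_cases h2 : i = i1
      · subst h2; simp [ha, hb]
      · simp [h2]
    have h2 : sympForm k (ZMod r) (C.φ x) (C.φ w) = 0 := by
      rw [sympForm_eq_sum, hw]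
      refine Finset.sum_eq_zero fun i _ => ?_
      by_cases h2 : i = i1
      · subst h2; simp [ha, hb]
      · simp [h2]
    have h3 : sympForm k (ZMod r) (C.φ u) (C.φ w) ≠ 0 := by
      rw [sympForm_eq_sum, hu, hw, Finset.sum_eq_single_of_mem i1 (Finset.mem_univ _)]
      · simp
      · intro i _ h2
        simp [h2]
    have e1 := C.comm x u
    have e2 := C.comm x w
    have e3 := C.comm u w
    rw [h1, AddChar.map_zero_eq_one, one_smul] at e1
    rw [h2, AddChar.map_zero_eq_one, one_smul] at e2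
    exact kill_transv hp hr hrp hsy.pGroup y.2 hfix Hx hζ1
      (fun h4 => h3 (C.inj (h4.trans (AddChar.map_zero_eq_one C.χ).symm))) hxy' e1 e2 e3
  · -- `k = 1`
    have hk : k = 1 := by omega
    rw [hk, pow_one] at hcard
    have hr3 : 3 ≤ r := by omega
    have hF5 : 5 ≤ Nat.card F := by
      have h1 : ζ ^ (Fintype.card F - 1) = 1 := by
        apply FiniteField.pow_card_sub_one_eq_one
        rintro h1
        rw [h1, zero_pow hr.ne_zero] at hζr
        exact zero_ne_one hζr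
      have h2 : r ∣ Fintype.card F - 1 := by
        rw [← orderOf_eq_prime hζr hζ1]
        exact orderOf_dvd_of_pow_eq_one h1
      have h3 : 1 < Fintype.card F := Fintype.one_lt_card
      have h4 := Nat.le_of_dvd (by omega) h2
      rw [Nat.card_eq_fintype_card]
      by_contra hcon
      exact h34 ⟨by omega, by omega⟩
    obtain ⟨a, ha0, ha1, ha3⟩ := exists_cube hF5
    exact kill_torus hr hr3 hrF hcomm y.2 hxr hfix Hx hζr hζ1 hxy' ha0 ha1 (fun _ => ha3)

/-- **S3499-III-SL-C6** -/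
theorem sl_c6 {Q : Type*} [Group Q] [Finite Q] {A : Subgroup Q} {Γ : Subgroup (MulAut Q)} (h : H284.EPT A Γ)
    [Fintype F] (m : H419.EP.Model Q (specialLinear ι F)) (hn : 3 ≤ Fintype.card ι)
    (h34 : ¬ (Fintype.card ι = 3 ∧ Fintype.card F = 4)) {r : ℕ} {R : Subgroup (GL ι F)}
    (hR : IsLinearSymplecticTypeData r R) (hA : m.hat A ≤ subgroupNormalizer R) : False :=
  kill_six hn h34 hR fun _ hx hxS hxs _ hc hcx =>
    mem_normalizer h m hA hR.symplecticType.prime hR.symplecticType.pGroup hx hxS hxs hc hcx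


/-- the same in the shape of the poster -/
theorem sl_c6' {Q : Type*} [Group Q] [Finite Q] (_hs : IsSimpleGroup Q) {A : Subgroup Q} {Γ : Subgroup (MulAut Q)}
    (h : H284.EPT A Γ) {F : Type*} [Field F] [Fintype F] {n : ℕ} (m : H419.EP.Model Q (specialLinear (Fin n) F))
    (hn : 3 ≤ n) (h34 : ¬ (n = 3 ∧ Fintype.card F = 4)) {r : ℕ} {R : Subgroup (GL (Fin n) F)}
    (hR : IsLinearSymplecticTypeData r R) {M : Subgroup (GL (Fin n) F)} (hM : M ≤ subgroupNormalizer R)
    (hA : m.hat A ≤ M) : False :=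
  sl_c6 h m (by rw [Fintype.card_fin]; exact hn) (by rw [Fintype.card_fin]; exact h34) hR (hA.trans hM)

end Cfsg.Agent.H245.EP
end

-- part: H128/EP/PslPlug
section
/-!
# S3499-III: `PslNonRes` from the rows (C2), (C3); all other rows are plugged in
-/

set_option autoImplicit false

namespace Cfsg.Agent.H128.EP

open Subgroup Cfsg.Agent.H284 Cfsg.Agent.H419.EP
open scoped MatrixGroups

theorem row_c1 : Row C1 := by
  rintro Q _ _ hs A Γ h F _ _ n m hn h32 h34 h42 ⟨W, h0, h1, hle⟩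
  exact H793.EP.sl_c1 hs h m hn h0 h1 hle

theorem row_c4 : Row C4 := by
  rintro Q _ _ hs A Γ h F _ _ n m hn h32 h34 h42 ⟨n₁, n₂, e, P, h1, h2, hle⟩
  exact H793.EP.sl_c4 hs h m e P h1 h2 hle

theorem row_c5 : Row C5 := by
  rintro Q _ _ hs A Γ h F _ _ n m hn h32 h34 h42 ⟨F₀, r, P, h1, h2, hle⟩
  exact H622.EP.sl_C5 h m hn h34 F₀ h1 h2 P hle

theorem row_c6 : Row C6 := by
  rintro Q _ _ hs A Γ h F _ _ n m hn h32 h34 h42 ⟨r, R, h1, hle⟩
  exact H245.EP.sl_c6' hs h m hn h34 h1 le_rfl hle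

theorem row_c7 : Row C7 := by
  rintro Q _ _ hs A Γ h F _ _ n m hn h32 h34 h42 ⟨k, t, e, P, h1, h2, hle⟩
  exact H358.EP.slC7 h m h1 h2 e P hle

theorem row_c8sp : Row C8Sp := by
  rintro Q _ _ hs A Γ h F _ _ n m hn h32 h34 h42 ⟨f, h1, h2, h3, hle⟩
  exact H458.EP.sl_c8sp h m h3 h1 hle

theorem row_c8u : Row C8U := by
  rintro Q _ _ hs A Γ h F _ _ n m hn h32 h34 h42 ⟨σ, f, h1, h2, hle⟩
  exact H135.EP.sl_c8u hs h m hn h32 h34 h42 h1 hle

theorem row_c8o : Row C8O := by
  rintro Q _ _ hs A Γ h F _ _ n m hn h32 h34 h42 ⟨Qf, h1, h2, h3, hle⟩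
  exact H72.EPX.c8o hs h h2 hn m h1 hle

/-- **`PslNonRes` from the rows (C2) and (C3)** -/
theorem pslNonRes_of' (r2 : Row C2) (r3 : Row C3) : PslNonRes :=
  pslNonRes_of row_c1 r2 r3 row_c4 row_c5 row_c6 row_c7 row_c8sp row_c8u row_c8o

end Cfsg.Agent.H128.EP
end

private theorem dce_d718b34a0722 : _root_.True := by
  try have : _root_.True := by simp only [_root_.Cfsg.Agent.H908.slMk.congr_simp]
  try have : _root_.True := by simp only [_root_.Cfsg.Agent.H458.EP.cm.eq_1]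
  try have : _root_.True := by simp only [_root_.Cfsg.Agent.H622.EP.DG.congr_simp]
  try have : _root_.True := by simp only [_root_.Cfsg.Agent.H622.EP.WG.congr_simp]
  try have : _root_.True := by simp only [_root_.Cfsg.Agent.H135.EP.cc.eq_1]
  try have : _root_.True := by simp only [_root_.Cfsg.Agent.H458.EP.gm.congr_simp]
  try have : _root_.True := by simp only [_root_.Cfsg.Agent.H622.EP.dg.eq_1]
  try have : _root_.True := by simp only [_root_.Cfsg.Agent.H458.EP.pm.eq_1]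
  try have : _root_.True := by simp only [_root_.Cfsg.Agent.H622.EP.ep.eq_1]
  exact _root_.True.intro
end

-- part: H91/EP/PslN
section
prune_inst 0x400400098012000000000000201c020000000000080400040102040200a0004d800000012020055a20000100000068121000204000000000000000000000000000000000400008420018000100000000000000000000000000000000010000200000000
set_option linter.all false
open scoped Cfsg.Agent.FastGrp

-- part: H173/EP/WrCrit
section
/-!
# S3499: two criteria used for the imprimitive subgroups (helper173)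

* `kill_sq`: the subgroup generated by the squares of `M0 = A ∩ A^x`;
* `nilp_cent`: centralisers of elements of abelian normal subgroups of `A`.
-/

set_option autoImplicit false

namespace Cfsg.Agent.H173.EP

open Subgroup Cfsg Cfsg.Agent.Lib.Cores Cfsg.Agent.H284

section crit

variable {Q : Type*} [Group Q] {A : Subgroup Q} {Γ : Subgroup (MulAut Q)} (h : EPT A Γ)

include h

/-- **squares criterion** -/
theorem kill_sq {x : Q} (hx : x ∉ A) {s : Q} (hs : s ∈ A ⊓ cj x A) (hs2 : s * s ≠ 1) {g : Q} (hg : g ∈ A)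
    (hgc : ∀ s ∈ A ⊓ cj x A, g * (s * s) = (s * s) * g) : g ∈ cj x A := by
  refine h.norm_aut hx (K := Subgroup.closure {y | ∃ s ∈ A ⊓ cj x A, y = s * s}) ?_ ?_ ?_ hg ?_
  · rw [Subgroup.closure_le]
    rintro _ ⟨s, hs, rfl⟩
    exact mul_mem hs hs
  · intro σ hσ k hk
    induction hk using Subgroup.closure_induction with
    | mem y hy =>
      obtain ⟨s, hs, rfl⟩ := hy
      exact Subgroup.subset_closure ⟨σ s, hσ s hs, map_mul σ s s⟩
    | one => rw [map_one]; exact one_mem _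
    | mul a b _ _ ha hb => rw [map_mul]; exact mul_mem ha hb
    | inv a _ ha => rw [map_inv]; exact inv_mem ha
  · intro e
    have h1 : s * s ∈ (⊥ : Subgroup Q) := by
      rw [← e]
      exact Subgroup.subset_closure ⟨s, hs, rfl⟩
    exact hs2 (mem_bot.1 h1)
  · intro k hk
    have h1 : g * k = k * g := by
      induction hk using Subgroup.closure_induction with
      | mem y hy =>
        obtain ⟨s, hs, rfl⟩ := hy
        exact hgc s hs
      | one => rw [mul_one, one_mul]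
      | mul a b _ _ ha hb => rw [← mul_assoc, ha, mul_assoc, hb, mul_assoc]
      | inv a _ ha =>
        rw [eq_inv_mul_iff_mul_eq, ← mul_assoc, ← ha, mul_assoc, mul_inv_cancel, mul_one]
    rw [h1, mul_inv_cancel_right]
    exact hk

/-- **centralisers of elements of abelian normal subgroups of `A`** -/
theorem nilp_cent [Finite Q] {K : Subgroup Q} (hK : K ≤ A) (hKn : ∀ a ∈ A, ∀ k ∈ K, a * k * a⁻¹ ∈ K)
    (hKc : ∀ a ∈ K, ∀ b ∈ K, a * b = b * a) {k : Q} (hk : k ∈ K) (hk1 : k ≠ 1) {x : Q} (hxk : x * k = k * x) :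
    x ∈ A := by
  by_contra hx
  have hKF : K.subgroupOf A ≤ fittingSubgroup A := by
    refine le_fittingSubgroup ⟨?_⟩ ?_
    · intro n hn g
      exact hKn g g.2 n hn
    · let _ : CommGroup (K.subgroupOf A) :=
        { (inferInstance : Group (K.subgroupOf A)) with
          mul_comm := fun a b => Subtype.ext (Subtype.ext (hKc _ a.2 _ b.2)) }
      exact CommGroup.isNilpotent
  have hkF : k ∈ (fittingSubgroup A).map A.subtype := ⟨⟨k, hK hk⟩, hKF hk, rfl⟩
  have hnil : Group.IsNilpotent ((fittingSubgroup A).map A.subtype) :=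
    (isNilpotent_map_equiv A.subtype_injective _).2 fittingSubgroup_isNilpotent
  have hne : (fittingSubgroup A).map A.subtype ≠ ⊥ := by
    intro e
    rw [e, mem_bot] at hkF
    exact hk1 hkF
  have hinv : ∀ σ ∈ Γ, ∀ y ∈ (fittingSubgroup A).map A.subtype, σ y ∈ (fittingSubgroup A).map A.subtype := by
    rintro σ hσ _ ⟨y, hy, rfl⟩
    let e : A ≃* A :=
      { toFun := fun a => ⟨σ a, (h.inv σ hσ _).2 a.2⟩
        invFun := fun a => ⟨σ⁻¹ a, (h.inv σ⁻¹ (inv_mem hσ) _).2 a.2⟩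
        left_inv := fun a => Subtype.ext (MulAut.inv_apply_self _ σ _)
        right_inv := fun a => Subtype.ext (MulAut.apply_inv_self _ σ _)
        map_mul' := fun a b => Subtype.ext (map_mul σ _ _) }
    have h1 := map_equiv_fittingSubgroup e
    have h2 : e y ∈ fittingSubgroup A := by
      rw [← h1]
      exact ⟨y, hy, rfl⟩
    exact ⟨e y, h2, rfl⟩
  obtain ⟨-, -, -, h4, -⟩ := h.nilp _ (map_subtype_le _) hinv hnil hne
  have h5 : k ∈ (fittingSubgroup A).map A.subtype ⊓ cj x A := by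
    refine ⟨hkF, mem_cj.2 ?_⟩
    have : x⁻¹ * k * x = k := by rw [mul_assoc, ← hxk, inv_mul_cancel_left]
    rw [this]
    exact hK hk
  rw [(h4 x hx).1, mem_bot] at h5
  exact hk1 h5

end crit

end Cfsg.Agent.H173.EP
end

-- part: H173/EP/WrLin
section
/-!
# S3499: linear maps on `ι → E` (helper173)

`Ax g σ`: `g` maps the `i`-th axis into the `σ i`-th axis; `unip N`: the unipotent map `1 + N`, `N² = 0`;
`dg f`: diagonal maps with entries in `Eˣ`; all over a subfield `F` of `E`.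
-/

set_option autoImplicit false

namespace Cfsg.Agent.H173.EP

variable {F : Type*} [Field F]

section unip

variable {U : Type*} [AddCommGroup U] [Module F U]

/-- the map `1 + N` with `N² = 0` -/
def unip (N : U →ₗ[F] U) (hN : ∀ u, N (N u) = 0) : U ≃ₗ[F] U :=
  { (LinearMap.id + N : U →ₗ[F] U) with
    invFun := fun u => u - N u
    left_inv := fun u => by
      show (u + N u) - N (u + N u) = u
      rw [map_add, hN, add_zero, add_sub_cancel_right]
    right_inv := fun u => by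
      show (u - N u) + N (u - N u) = u
      rw [map_sub, hN, sub_zero, sub_add_cancel] }

theorem unip_apply (N : U →ₗ[F] U) (hN : ∀ u, N (N u) = 0) (u : U) : unip N hN u = u + N u := rfl

theorem unip_pow (N : U →ₗ[F] U) (hN : ∀ u, N (N u) = 0) (k : ℕ) (u : U) : (unip N hN ^ k) u = u + (k : F) • N u := by
  induction k generalizing u with
  | zero => rw [pow_zero, Nat.cast_zero, zero_smul, add_zero]; rfl
  | succ k ih =>
    rw [pow_succ, LinearEquiv.mul_apply, ih, unip_apply, map_add, hN, add_zero, Nat.cast_succ, add_smul, one_smul]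
    abel

theorem det_unip [Finite F] (N : U →ₗ[F] U) (hN : ∀ u, N (N u) = 0) : LinearEquiv.det (unip N hN) = 1 := by
  obtain ⟨p, hp⟩ := CharP.exists F
  have hpp : p.Prime := CharP.char_is_prime F p
  have : Fact p.Prime := ⟨hpp⟩
  have h1 : unip N hN ^ p = 1 := by
    ext u
    rw [unip_pow, CharP.cast_eq_zero, zero_smul, add_zero]
    rfl
  have h2 : LinearEquiv.det (unip N hN) ^ p = 1 := by rw [← map_pow, h1, map_one]
  have h3 : ((LinearEquiv.det (unip N hN) : Fˣ) : F) ^ p = 1 := by rw [← Units.val_pow_eq_pow_val, h2, Units.val_one]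
  apply Units.ext
  apply frobenius_inj F p
  rw [frobenius_def, h3, Units.val_one, map_one]

end unip

section ax

variable {E : Type*} [Field E] [Algebra F E] {ι : Type*} [DecidableEq ι]

/-- `g` maps the `i`-th axis into the `σ i`-th axis -/
def Ax (g : (ι → E) ≃ₗ[F] (ι → E)) (σ : Equiv.Perm ι) : Prop := ∀ i w, ∃ w', g (Pi.single i w) = Pi.single (σ i) w'

/-- `u_i += T(u_j)` -/
def tvN (i j : ι) (T : E →ₗ[F] E) : (ι → E) →ₗ[F] (ι → E) :=
  (LinearMap.single F (fun _ : ι => E) i).comp (T.comp (LinearMap.proj j))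

theorem tvN_apply (i j : ι) (T : E →ₗ[F] E) (u : ι → E) : tvN i j T u = Pi.single i (T (u j)) := rfl

theorem tvN_sq {i j : ι} (hij : i ≠ j) (T : E →ₗ[F] E) (u : ι → E) : tvN i j T (tvN i j T u) = 0 := by
  rw [tvN_apply, tvN_apply, Pi.single_eq_of_ne hij.symm, map_zero, Pi.single_zero]

/-- `u_i += T(u_j)` -/
def tv {i j : ι} (hij : i ≠ j) (T : E →ₗ[F] E) : (ι → E) ≃ₗ[F] (ι → E) := unip (tvN i j T) (tvN_sq hij T)

theorem tv_apply {i j : ι} (hij : i ≠ j) (T : E →ₗ[F] E) (u : ι → E) : tv hij T u = u + Pi.single i (T (u j)) := rfl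

/-- diagonal maps -/
def dg (f : ι → Eˣ) : (ι → E) ≃ₗ[F] (ι → E) :=
  { toFun := fun u j => f j * u j
    map_add' := fun u v => funext fun j => mul_add _ _ _
    map_smul' := fun a u => funext fun j => by
      rw [Pi.smul_apply, RingHom.id_apply, Pi.smul_apply, mul_smul_comm]
    invFun := fun u j => ((f j)⁻¹ : Eˣ) * u j
    left_inv := fun u => funext fun j => Units.inv_mul_cancel_left (f j) (u j)
    right_inv := fun u => funext fun j => Units.mul_inv_cancel_left (f j) (u j) }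

omit [DecidableEq ι] in
theorem dg_apply (f : ι → Eˣ) (u : ι → E) (j : ι) : dg (F := F) f u j = f j * u j := rfl

theorem dg_single (f : ι → Eˣ) (i : ι) (w : E) : dg (F := F) f (Pi.single i w) = Pi.single i (f i * w) := by
  funext j
  rw [dg_apply]
  by_cases hj : j = i
  · subst hj
    rw [Pi.single_eq_same, Pi.single_eq_same]
  · rw [Pi.single_eq_of_ne hj, Pi.single_eq_of_ne hj, mul_zero]

theorem ax_dg (f : ι → Eˣ) : Ax (dg (F := F) f) 1 := fun i w => ⟨f i * w, dg_single f i w⟩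

omit [DecidableEq ι] in
theorem det_dg [Fintype ι] [FiniteDimensional F E] (f : ι → Eˣ) :
    ((LinearEquiv.det (dg (F := F) f) : Fˣ) : F) = ∏ i, Algebra.norm F (f i : E) := by
  rw [LinearEquiv.coe_det]
  exact LinearMap.det_pi (fun i => LinearMap.mul F E (f i : E))

end ax

/-! ### the choice of `c` and `a` -/

/-- a field extension of degree `≥ 2` of finite fields: `c` and `a` -/
theorem exists_ca (F E : Type*) [Field F] [Field E] [Algebra F E] [Finite F] [Finite E]
    (h2 : 2 ≤ Module.finrank F E) :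
    ∃ c a : E, c ≠ 0 ∧ c ≠ 1 ∧ c * c ≠ 1 ∧ a ≠ 0 ∧ Algebra.norm F a ^ 2 = 1 ∧ ∀ l : F, a * a ≠ algebraMap F E l := by
  have := Fintype.ofFinite F
  have := Fintype.ofFinite E
  obtain ⟨c, hc⟩ := IsCyclic.exists_ofOrder_eq_natCard (α := Eˣ)
  set q := Fintype.card F with hq
  have hq2 : 2 ≤ q := Fintype.one_lt_card
  have hcard : Fintype.card E = q ^ Module.finrank F E := Module.card_eq_pow_finrank
  have hE : q ^ 2 ≤ Fintype.card E := by
    rw [hcard]
    exact Nat.pow_le_pow_right (by omega) h2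
  have hcard' : Nat.card Eˣ = Fintype.card E - 1 := by
    classical
    rw [Nat.card_eq_fintype_card, Fintype.card_units]
  rw [hcard'] at hc
  have hq4 : 2 ^ 2 ≤ q ^ 2 := Nat.pow_le_pow_left hq2 2
  have hsq : IsSquare ((c : E) ^ (q - 1)) := by
    by_cases hch : ringChar E = 2
    · exact FiniteField.isSquare_of_char_two hch _
    · have h3 : ringChar F ≠ 2 := by
        intro e
        apply hch
        rw [← e]
        exact (Algebra.ringChar_eq F E).symm
      have h4 := FiniteField.odd_card_of_char_ne_two h3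
      rw [← hq] at h4
      obtain ⟨k, hk⟩ := (Nat.even_iff.2 (by omega) : Even (q - 1))
      exact ⟨(c : E) ^ k, by rw [← pow_add, hk]⟩
  obtain ⟨a, ha⟩ := hsq
  have ha0 : a ≠ 0 := by
    rintro rfl
    rw [mul_zero] at ha
    exact pow_ne_zero _ c.ne_zero ha
  refine ⟨c, a, c.ne_zero, ?_, ?_, ha0, ?_, ?_⟩
  · intro e
    have h1 : c = 1 := Units.ext e
    rw [h1, orderOf_one] at hc
    omega
  · intro e
    have h1 : c ^ 2 = 1 := by
      apply Units.ext
      rw [pow_two, Units.val_mul, e, Units.val_one]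
    have h3 := orderOf_dvd_of_pow_eq_one h1
    rw [hc] at h3
    have h4 := Nat.le_of_dvd (by norm_num) h3
    omega
  · rw [pow_two, ← map_mul, ← ha, map_pow]
    exact FiniteField.pow_card_sub_one_eq_one _ ((Algebra.norm_ne_zero_iff).2 c.ne_zero)
  · intro l hl
    rw [← ha] at hl
    have hl0 : l ≠ 0 := by
      rintro rfl
      rw [map_zero] at hl
      exact pow_ne_zero _ c.ne_zero hl
    have h1 : c ^ ((q - 1) * (q - 1)) = 1 := by
      apply Units.ext
      rw [Units.val_pow_eq_pow_val, pow_mul, hl, ← map_pow, FiniteField.pow_card_sub_one_eq_one _ hl0, map_one,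
        Units.val_one]
    have h3 := orderOf_dvd_of_pow_eq_one h1
    rw [hc] at h3
    obtain ⟨r, hr⟩ : ∃ r, q = r + 2 := ⟨q - 2, by omega⟩
    have h4 := Nat.le_of_dvd (Nat.mul_pos (by omega) (by omega)) h3
    rw [hr] at h4 hE
    have e1 : r + 2 - 1 = r + 1 := by omega
    rw [e1] at h4
    have h5 : (r + 2) ^ 2 ≤ (r + 1) * (r + 1) + 1 := by omega
    linarith only [h5]

end Cfsg.Agent.H173.EP
end

-- part: H173/EP/WrKey
section
/-!
# S3499: the key computation for the imprimitive subgroups (helper173)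

`x` maps the axes `E e₀`, `E e₁` to the graphs `{(w, w)}`, `{(w, c w)}` and fixes the other axes. If `s` permutes the axes and
their images under `x` then `s²` commutes with `diag(c, c⁻¹, 1, …, 1)`.
-/

set_option autoImplicit false

namespace Cfsg.Agent.H173.EP

theorem alg_id {E : Type*} [Field E] {c : E} (hc : c ≠ 0) {α β : E → E}
    (h : ((∀ w, β w = α w) ∧ (∀ w, β (c * w) = c * α w)) ∨ ((∀ w, β w = c * α w) ∧ (∀ w, β (c * w) = α w))) (w : E) :
    α (α (c * w)) = c * α (α w) ∧ β (β (c * w)) = c * β (β w) := by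
  rcases h with ⟨h1, h2⟩ | ⟨h1, h2⟩
  · have h3 : ∀ w, α (c * w) = c * α w := fun w => by rw [← h1, h2]
    refine ⟨by rw [h3, h3], ?_⟩
    rw [h1, h1, h1, h1, h3, h3]
  · have h3 : ∀ v, c * α (c * v) = α v := fun v => by rw [← h1, h2]
    have h4 : ∀ v, α (c⁻¹ * v) = c * α v := fun v => by
      have := h3 (c⁻¹ * v)
      rw [mul_inv_cancel_left₀ hc] at this
      exact this.symm
    have h5 : ∀ v, α (c * v) = c⁻¹ * α v := fun v => by rw [← h3 v, inv_mul_cancel_left₀ hc]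
    refine ⟨by rw [h5, h4], ?_⟩
    rw [h2, h1, h1 w, h1, h3]

theorem alg_sw {E : Type*} [Field E] {c : E} (hc : c ≠ 0) {α β : E → E}
    (h : ((∀ w, α w = β w) ∧ (∀ w, α w = c * β (c * w))) ∨ ((∀ w, α w = c * β w) ∧ (∀ w, α w = β (c * w)))) (w : E) :
    β (α (c * w)) = c * β (α w) ∧ α (β (c * w)) = c * α (β w) := by
  rcases h with ⟨h1, h2⟩ | ⟨h1, h2⟩
  · have h3 : ∀ v, c * α (c * v) = α v := fun v => by rw [h1, ← h2]
    have h4 : ∀ v, α (c⁻¹ * v) = c * α v := fun v => by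
      have := h3 (c⁻¹ * v)
      rw [mul_inv_cancel_left₀ hc] at this
      exact this.symm
    have h5 : ∀ v, α (c * v) = c⁻¹ * α v := fun v => by rw [← h3 v, inv_mul_cancel_left₀ hc]
    have h6 : ∀ v, β v = α v := fun v => (h1 v).symm
    refine ⟨?_, ?_⟩
    · rw [h6, h6, h5, h4]
    · rw [h6, h6, h5, h4]
  · have h3 : ∀ v, β (c * v) = c * β v := fun v => by rw [← h2, h1]
    have h4 : ∀ v, α (c * v) = c * α v := fun v => by rw [h1, h3, h1]
    refine ⟨?_, ?_⟩
    · rw [h4, h3]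
    · rw [h3, h4]

variable {F : Type*} [Field F] {E : Type*} [Field E] [Algebra F E] {ι : Type*} [DecidableEq ι]

/-- `x` maps the two axes to the graphs of `1` and `c`, and fixes the others. -/
structure XMap (x : (ι → E) ≃ₗ[F] (ι → E)) (i0 i1 : ι) (c d : E) : Prop where
  ne : i0 ≠ i1
  c0 : c ≠ 0
  d0 : d ≠ 0
  x0 : ∀ w, x (Pi.single i0 w) = Pi.single i0 w + Pi.single i1 w
  x1 : ∀ w, x (Pi.single i1 w) = Pi.single i0 (d * w) + Pi.single i1 (c * (d * w))
  xj : ∀ j, j ≠ i0 → j ≠ i1 → ∀ w, x (Pi.single j w) = Pi.single j w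

namespace XMap

variable {x : (ι → E) ≃ₗ[F] (ι → E)} {i0 i1 : ι} {c d : E} (hx : XMap x i0 i1 c d)

include hx

theorem supp {p r k : ι} {a b w : E} (hpr : p ≠ r) (ha : a ≠ 0) (hb : b ≠ 0)
    (e : Pi.single p a + Pi.single r b = x (Pi.single k w)) :
    (k = i0 ∨ k = i1) ∧ (p = i0 ∨ p = i1) ∧ (r = i0 ∨ r = i1) := by
  have ep := congrFun e p
  have er := congrFun e r
  rw [Pi.add_apply, Pi.single_eq_same, Pi.single_eq_of_ne hpr, add_zero] at ep
  rw [Pi.add_apply, Pi.single_eq_same, Pi.single_eq_of_ne hpr.symm, zero_add] at er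
  have hk : k = i0 ∨ k = i1 := by
    by_contra hk
    push Not at hk
    rw [hx.xj k hk.1 hk.2] at ep er
    have h1 : p = k := by
      by_contra h1
      rw [Pi.single_eq_of_ne h1] at ep
      exact ha ep
    have h2 : r = k := by
      by_contra h2
      rw [Pi.single_eq_of_ne h2] at er
      exact hb er
    exact hpr (h1.trans h2.symm)
  have hz : ∀ j, j ≠ i0 → j ≠ i1 → x (Pi.single k w) j = 0 := by
    intro j h0 h1
    rcases hk with rfl | rfl
    · rw [hx.x0, Pi.add_apply, Pi.single_eq_of_ne h0, Pi.single_eq_of_ne h1, add_zero]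
    · rw [hx.x1, Pi.add_apply, Pi.single_eq_of_ne h0, Pi.single_eq_of_ne h1, add_zero]
  refine ⟨hk, ?_, ?_⟩
  · by_contra h1
    push Not at h1
    rw [hz p h1.1 h1.2] at ep
    exact ha ep
  · by_contra h1
    push Not at h1
    rw [hz r h1.1 h1.2] at er
    exact hb er

theorem ev0 (w : E) : x (Pi.single i0 w) i1 = x (Pi.single i0 w) i0 := by
  rw [hx.x0, Pi.add_apply, Pi.add_apply, Pi.single_eq_same, Pi.single_eq_same, Pi.single_eq_of_ne hx.ne,
    Pi.single_eq_of_ne hx.ne.symm, add_zero, zero_add]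

theorem ev1 (w : E) : x (Pi.single i1 w) i1 = c * x (Pi.single i1 w) i0 := by
  rw [hx.x1, Pi.add_apply, Pi.add_apply, Pi.single_eq_same, Pi.single_eq_same, Pi.single_eq_of_ne hx.ne,
    Pi.single_eq_of_ne hx.ne.symm, add_zero, zero_add]

/-- **the key computation** -/
theorem key [Finite ι] {s g : (ι → E) ≃ₗ[F] (ι → E)} {σ τ : Equiv.Perm ι} (hs : Ax s σ)
    (hτ : ∀ i w, ∃ w', s (x (Pi.single i w)) = x (Pi.single (τ i) w'))
    (hg0 : ∀ w, g (Pi.single i0 w) = Pi.single i0 (c * w)) (hg1 : ∀ w, g (Pi.single i1 w) = Pi.single i1 (c⁻¹ * w))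
    (hgj : ∀ j, j ≠ i0 → j ≠ i1 → ∀ w, g (Pi.single j w) = Pi.single j w) (u : ι → E) :
    g (s (s u)) = s (s (g u)) := by
  have hc := hx.c0
  have hd := hx.d0
  have hne := hx.ne
  -- the maps on the axes
  obtain ⟨α, hα⟩ : ∃ α : E → E, ∀ w, s (Pi.single i0 w) = Pi.single (σ i0) (α w) := by
    choose f hf using hs
    exact ⟨f i0, hf i0⟩
  obtain ⟨β, hβ⟩ : ∃ β : E → E, ∀ w, s (Pi.single i1 w) = Pi.single (σ i1) (β w) := by
    choose f hf using hs
    exact ⟨f i1, hf i1⟩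
  have hα0 : ∀ w, w ≠ 0 → α w ≠ 0 := by
    intro w hw e
    have h1 := hα w
    rw [e, Pi.single_zero, LinearEquiv.map_eq_zero_iff, Pi.single_eq_zero_iff] at h1
    exact hw h1
  have hβ0 : ∀ w, w ≠ 0 → β w ≠ 0 := by
    intro w hw e
    have h1 := hβ w
    rw [e, Pi.single_zero, LinearEquiv.map_eq_zero_iff, Pi.single_eq_zero_iff] at h1
    exact hw h1
  have e0 : ∀ w, s (x (Pi.single i0 w)) = Pi.single (σ i0) (α w) + Pi.single (σ i1) (β w) := fun w => by
    rw [hx.x0, map_add, hα, hβ]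
  have e1 : ∀ w, s (x (Pi.single i1 (d⁻¹ * w))) = Pi.single (σ i0) (α w) + Pi.single (σ i1) (β (c * w)) := fun w => by
    rw [hx.x1, map_add, hα, hβ, mul_inv_cancel_left₀ hd]
  have hσne : σ i0 ≠ σ i1 := fun e => hne (σ.injective e)
  have hτne : τ i0 ≠ τ i1 := fun e => hne (τ.injective e)
  have t0 : (τ i0 = i0 ∨ τ i0 = i1) ∧ (σ i0 = i0 ∨ σ i0 = i1) ∧ (σ i1 = i0 ∨ σ i1 = i1) := by
    obtain ⟨w', hw'⟩ := hτ i0 1
    rw [e0] at hw'
    exact hx.supp hσne (hα0 1 one_ne_zero) (hβ0 1 one_ne_zero) hw'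
  have t1 : τ i1 = i0 ∨ τ i1 = i1 := by
    obtain ⟨w', hw'⟩ := hτ i1 (d⁻¹ * 1)
    rw [e1] at hw'
    exact (hx.supp hσne (hα0 1 one_ne_zero) (hβ0 _ (mul_ne_zero hc one_ne_zero)) hw').1
  obtain ⟨t0, s0, s1⟩ := t0
  have hτ' : (τ i0 = i0 ∧ τ i1 = i1) ∨ (τ i0 = i1 ∧ τ i1 = i0) := by
    rcases t0 with a | a <;> rcases t1 with b | b
    · exact absurd (a.trans b.symm) hτne
    · exact Or.inl ⟨a, b⟩
    · exact Or.inr ⟨a, b⟩
    · exact absurd (a.trans b.symm) hτne
  have hσ' : (σ i0 = i0 ∧ σ i1 = i1) ∨ (σ i0 = i1 ∧ σ i1 = i0) := by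
    rcases s0 with a | a <;> rcases s1 with b | b
    · exact absurd (a.trans b.symm) hσne
    · exact Or.inl ⟨a, b⟩
    · exact Or.inr ⟨a, b⟩
    · exact absurd (a.trans b.symm) hσne
  -- the equations
  have q0 : (τ i0 = i0 → ∀ w, s (x (Pi.single i0 w)) i1 = s (x (Pi.single i0 w)) i0) ∧
      (τ i0 = i1 → ∀ w, s (x (Pi.single i0 w)) i1 = c * s (x (Pi.single i0 w)) i0) := by
    constructor
    · intro e w
      obtain ⟨w', hw'⟩ := hτ i0 w
      rw [hw', e, hx.ev0]
    · intro e w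
      obtain ⟨w', hw'⟩ := hτ i0 w
      rw [hw', e, hx.ev1]
  have q1 : (τ i1 = i0 → ∀ w, s (x (Pi.single i1 w)) i1 = s (x (Pi.single i1 w)) i0) ∧
      (τ i1 = i1 → ∀ w, s (x (Pi.single i1 w)) i1 = c * s (x (Pi.single i1 w)) i0) := by
    constructor
    · intro e w
      obtain ⟨w', hw'⟩ := hτ i1 w
      rw [hw', e, hx.ev0]
    · intro e w
      obtain ⟨w', hw'⟩ := hτ i1 w
      rw [hw', e, hx.ev1]
  have hoff : ∀ j, j ≠ i0 → j ≠ i1 → σ j ≠ i0 ∧ σ j ≠ i1 := by
    intro j h0 h1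
    rcases hσ' with ⟨a, b⟩ | ⟨a, b⟩
    · exact ⟨fun e => h0 (σ.injective (e.trans a.symm)), fun e => h1 (σ.injective (e.trans b.symm))⟩
    · exact ⟨fun e => h1 (σ.injective (e.trans b.symm)), fun e => h0 (σ.injective (e.trans a.symm))⟩
  have hid : σ i0 = i0 ∧ σ i1 = i1 → ((∀ w, β w = α w) ∧ (∀ w, β (c * w) = c * α w)) ∨
      ((∀ w, β w = c * α w) ∧ (∀ w, β (c * w) = α w)) := by
    rintro ⟨a, b⟩
    rcases hτ' with ⟨p, q⟩ | ⟨p, q⟩
    · left
      constructor
      · intro w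
        have := q0.1 p w
        rw [e0, a, b, Pi.add_apply, Pi.add_apply, Pi.single_eq_same, Pi.single_eq_same, Pi.single_eq_of_ne hne,
          Pi.single_eq_of_ne hne.symm, zero_add, add_zero] at this
        exact this
      · intro w
        have := q1.2 q (d⁻¹ * w)
        rw [e1, a, b, Pi.add_apply, Pi.add_apply, Pi.single_eq_same, Pi.single_eq_same, Pi.single_eq_of_ne hne,
          Pi.single_eq_of_ne hne.symm, zero_add, add_zero] at this
        exact this
    · right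
      constructor
      · intro w
        have := q0.2 p w
        rw [e0, a, b, Pi.add_apply, Pi.add_apply, Pi.single_eq_same, Pi.single_eq_same, Pi.single_eq_of_ne hne,
          Pi.single_eq_of_ne hne.symm, zero_add, add_zero] at this
        exact this
      · intro w
        have := q1.1 q (d⁻¹ * w)
        rw [e1, a, b, Pi.add_apply, Pi.add_apply, Pi.single_eq_same, Pi.single_eq_same, Pi.single_eq_of_ne hne,
          Pi.single_eq_of_ne hne.symm, zero_add, add_zero] at this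
        exact this
  have hsw : σ i0 = i1 ∧ σ i1 = i0 → ((∀ w, α w = β w) ∧ (∀ w, α w = c * β (c * w))) ∨
      ((∀ w, α w = c * β w) ∧ (∀ w, α w = β (c * w))) := by
    rintro ⟨a, b⟩
    rcases hτ' with ⟨p, q⟩ | ⟨p, q⟩
    · left
      constructor
      · intro w
        have := q0.1 p w
        rw [e0, a, b, Pi.add_apply, Pi.add_apply, Pi.single_eq_same, Pi.single_eq_same, Pi.single_eq_of_ne hne,
          Pi.single_eq_of_ne hne.symm, zero_add, add_zero] at this
        exact this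
      · intro w
        have := q1.2 q (d⁻¹ * w)
        rw [e1, a, b, Pi.add_apply, Pi.add_apply, Pi.single_eq_same, Pi.single_eq_same, Pi.single_eq_of_ne hne,
          Pi.single_eq_of_ne hne.symm, zero_add, add_zero] at this
        exact this
    · right
      constructor
      · intro w
        have := q0.2 p w
        rw [e0, a, b, Pi.add_apply, Pi.add_apply, Pi.single_eq_same, Pi.single_eq_same, Pi.single_eq_of_ne hne,
          Pi.single_eq_of_ne hne.symm, zero_add, add_zero] at this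
        exact this
      · intro w
        have := q1.1 q (d⁻¹ * w)
        rw [e1, a, b, Pi.add_apply, Pi.add_apply, Pi.single_eq_same, Pi.single_eq_same, Pi.single_eq_of_ne hne,
          Pi.single_eq_of_ne hne.symm, zero_add, add_zero] at this
        exact this
  -- the two maps agree on the axes
  have main : ((g : (ι → E) →ₗ[F] (ι → E)).comp ((s : (ι → E) →ₗ[F] (ι → E)).comp (s : (ι → E) →ₗ[F] (ι → E)))) =
      (s : (ι → E) →ₗ[F] (ι → E)).comp ((s : (ι → E) →ₗ[F] (ι → E)).comp (g : (ι → E) →ₗ[F] (ι → E))) := by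
    refine LinearMap.pi_ext fun j w => ?_
    show g (s (s (Pi.single j w))) = s (s (g (Pi.single j w)))
    by_cases hj0 : j = i0
    · subst hj0
      rcases hσ' with ⟨a, b⟩ | ⟨a, b⟩
      · rw [hα, a, hα, a, hg0, hg0, hα, a, hα, a, (alg_id hc (hid ⟨a, b⟩) w).1]
      · rw [hα, a, hβ, b, hg0, hg0, hα, a, hβ, b, (alg_sw hc (hsw ⟨a, b⟩) w).1]
    · by_cases hj1 : j = i1
      · subst hj1
        rcases hσ' with ⟨a, b⟩ | ⟨a, b⟩
        · have h1 := (alg_id hc (hid ⟨a, b⟩) (c⁻¹ * w)).2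
          rw [mul_inv_cancel_left₀ hc] at h1
          rw [hβ, b, hβ, b, hg1, hg1, hβ, b, hβ, b, h1, inv_mul_cancel_left₀ hc]
        · have h1 := (alg_sw hc (hsw ⟨a, b⟩) (c⁻¹ * w)).2
          rw [mul_inv_cancel_left₀ hc] at h1
          rw [hβ, b, hα, a, hg1, hg1, hβ, b, hα, a, h1, inv_mul_cancel_left₀ hc]
      · obtain ⟨w1, h1⟩ := hs j w
        obtain ⟨h2, h3⟩ := hoff j hj0 hj1
        obtain ⟨w2, h4⟩ := hs (σ j) w1
        obtain ⟨h5, h6⟩ := hoff _ h2 h3
        rw [hgj j hj0 hj1, h1, h4, hgj _ h5 h6]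
  exact congrArg (fun f : (ι → E) →ₗ[F] (ι → E) => f u) main

/-- `g = diag(c, c⁻¹, 1, …)` does not permute the images of the axes -/
theorem not_perm {g : (ι → E) ≃ₗ[F] (ι → E)} {τ : Equiv.Perm ι} (hc1 : c ≠ 1) (hcc : c * c ≠ 1)
    (hg0 : ∀ w, g (Pi.single i0 w) = Pi.single i0 (c * w)) (hg1 : ∀ w, g (Pi.single i1 w) = Pi.single i1 (c⁻¹ * w))
    (hτ : ∀ i w, ∃ w', g (x (Pi.single i w)) = x (Pi.single (τ i) w')) : False := by
  have hc := hx.c0
  have hd := hx.d0
  have hne := hx.ne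
  have e1 : g (x (Pi.single i1 (d⁻¹ * 1))) = Pi.single i0 c + Pi.single i1 1 := by
    rw [hx.x1, map_add, hg0, hg1, mul_inv_cancel_left₀ hd, mul_one, inv_mul_cancel₀ hc]
  obtain ⟨w', hw'⟩ := hτ i1 (d⁻¹ * 1)
  rw [e1] at hw'
  have v0 := congrFun hw' i0
  have v1 := congrFun hw' i1
  rw [Pi.add_apply, Pi.single_eq_same, Pi.single_eq_of_ne hne, add_zero] at v0
  rw [Pi.add_apply, Pi.single_eq_same, Pi.single_eq_of_ne hne.symm, zero_add] at v1
  rcases (hx.supp hne hc one_ne_zero hw').1 with e | e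
  · rw [e] at v0 v1
    rw [hx.ev0, ← v0] at v1
    exact hc1 v1.symm
  · rw [e] at v0 v1
    rw [hx.ev1, ← v0] at v1
    exact hcc v1.symm

end XMap

end Cfsg.Agent.H173.EP
end

-- part: H173/EP/WrWM
section
/-!
# S3499: imprimitive subgroups of `SL(U)`, `U = ι → E` (helper173)
-/

set_option autoImplicit false

namespace Cfsg.Agent.H173.EP

open Subgroup Cfsg.Agent.H284

variable {F : Type*} [Field F] {E : Type*} [Field E] [Algebra F E] {ι : Type*} [DecidableEq ι]

theorem Ax.mul {g g' : (ι → E) ≃ₗ[F] (ι → E)} {σ σ' : Equiv.Perm ι} (h : Ax g σ) (h' : Ax g' σ') :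
    Ax (g * g') (σ * σ') := fun i w => by
  obtain ⟨w1, h1⟩ := h' i w
  obtain ⟨w2, h2⟩ := h (σ' i) w1
  exact ⟨w2, by rw [LinearEquiv.mul_apply, h1, h2]; rfl⟩

theorem Ax.one : Ax (1 : (ι → E) ≃ₗ[F] (ι → E)) 1 := fun _ w => ⟨w, rfl⟩

theorem Ax.inv [Finite E] {g : (ι → E) ≃ₗ[F] (ι → E)} {σ : Equiv.Perm ι} (h : Ax g σ) : Ax g⁻¹ σ⁻¹ := by
  intro i w
  choose f hf using h
  have hj : σ (σ⁻¹ i) = i := Equiv.apply_symm_apply σ i
  have hinj : Function.Injective (f (σ⁻¹ i)) := by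
    intro a b hab
    have h1 := hf (σ⁻¹ i) a
    rw [hab, ← hf (σ⁻¹ i) b] at h1
    exact Pi.single_injective _ (g.injective h1)
  obtain ⟨w0, h0⟩ := Finite.surjective_of_injective hinj w
  refine ⟨w0, ?_⟩
  have h2 := hf (σ⁻¹ i) w0
  rw [h0, hj] at h2
  rw [← h2]
  exact g.symm_apply_apply _

theorem Ax.conv {x s : (ι → E) ≃ₗ[F] (ι → E)} {τ : Equiv.Perm ι} (h : Ax (x⁻¹ * s * x) τ) (i : ι) (w : E) :
    ∃ w', s (x (Pi.single i w)) = x (Pi.single (τ i) w') := by
  obtain ⟨w', h1⟩ := h i w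
  refine ⟨w', ?_⟩
  rw [← h1, LinearEquiv.mul_apply, LinearEquiv.mul_apply]
  exact (x.apply_symm_apply _).symm

theorem single_add_ne {p r k : ι} {a b w : E} (hpr : p ≠ r) (ha : a ≠ 0) (hb : b ≠ 0)
    (e : (Pi.single p a + Pi.single r b : ι → E) = Pi.single k w) : False := by
  have ep := congrFun e p
  have er := congrFun e r
  rw [Pi.add_apply, Pi.single_eq_same, Pi.single_eq_of_ne hpr, add_zero] at ep
  rw [Pi.add_apply, Pi.single_eq_same, Pi.single_eq_of_ne hpr.symm, zero_add] at er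
  have h1 : p = k := by
    by_contra h1
    rw [Pi.single_eq_of_ne h1] at ep
    exact ha ep
  have h2 : r = k := by
    by_contra h2
    rw [Pi.single_eq_of_ne h2] at er
    exact hb er
  exact hpr (h1.trans h2.symm)

theorem tv_single_same {i j : ι} (hij : i ≠ j) (T : E →ₗ[F] E) (w : E) :
    tv hij T (Pi.single j w) = Pi.single j w + Pi.single i (T w) := by
  rw [tv_apply, Pi.single_eq_same]

theorem tv_single_ne {i j k : ι} (hij : i ≠ j) (hk : k ≠ j) (T : E →ₗ[F] E) (w : E) :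
    tv hij T (Pi.single k w) = Pi.single k w := by
  rw [tv_apply, Pi.single_eq_of_ne hk.symm, map_zero, Pi.single_zero, add_zero]

theorem eq_of_single [Finite ι] {f g : (ι → E) ≃ₗ[F] (ι → E)} (h : ∀ i w, f (Pi.single i w) = g (Pi.single i w)) :
    f = g := by
  apply LinearEquiv.toLinearMap_injective
  exact LinearMap.pi_ext h

theorem prod_mulSingle [Fintype ι] (i : ι) (a : Eˣ) :
    ∏ j, Algebra.norm F (((Pi.mulSingle i a : ι → Eˣ) j : Eˣ) : E) = Algebra.norm F (a : E) := by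
  rw [Fintype.prod_eq_single i, Pi.mulSingle_eq_same]
  intro j hj
  rw [Pi.mulSingle_eq_of_ne hj, Units.val_one, map_one]

theorem det_dg_two [Fintype ι] [FiniteDimensional F E] (i j : ι) (a b : Eˣ) :
    ((LinearEquiv.det (dg (F := F) (Pi.mulSingle i a * Pi.mulSingle j b : ι → Eˣ)) : Fˣ) : F) =
      Algebra.norm F (a : E) * Algebra.norm F (b : E) := by
  rw [det_dg]
  have e : ∀ k, Algebra.norm F (((Pi.mulSingle i a * Pi.mulSingle j b : ι → Eˣ) k : Eˣ) : E) =
      Algebra.norm F (((Pi.mulSingle i a : ι → Eˣ) k : Eˣ) : E) *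
      Algebra.norm F (((Pi.mulSingle j b : ι → Eˣ) k : Eˣ) : E) := fun k => by
    rw [Pi.mul_apply, Units.val_mul, map_mul]
  rw [Finset.prod_congr rfl (fun k _ => e k), Finset.prod_mul_distrib, prod_mulSingle, prod_mulSingle]

/-- `Q` is `SL(U)` modulo scalars, the elements of `A` permute the axes. -/
structure WM {Q : Type*} [Group Q] (A : Subgroup Q) (F E ι : Type*) [Field F] [Field E] [Algebra F E]
    [DecidableEq ι] where
  π : (LinearEquiv.det : ((ι → E) ≃ₗ[F] (ι → E)) →* Fˣ).ker →* Q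
  surj : Function.Surjective π
  ker : ∀ g, π g = 1 ↔ ∃ l : F, ∀ u, (g : (ι → E) ≃ₗ[F] (ι → E)) u = l • u
  hat : ∀ g, π g ∈ A → ∃ σ, Ax (g : (ι → E) ≃ₗ[F] (ι → E)) σ

namespace WM

variable {Q : Type*} [Group Q] {A : Subgroup Q} {Γ : Subgroup (MulAut Q)}

theorem mem_of_ax [Finite E] (W : WM A F E ι) (hA : IsCoatom A)
    {x : (LinearEquiv.det : ((ι → E) ≃ₗ[F] (ι → E)) →* Fˣ).ker} (hx : ∀ σ, ¬ Ax (x : (ι → E) ≃ₗ[F] (ι → E)) σ)
    {g : (LinearEquiv.det : ((ι → E) ≃ₗ[F] (ι → E)) →* Fˣ).ker} {σ : Equiv.Perm ι}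
    (hg : Ax (g : (ι → E) ≃ₗ[F] (ι → E)) σ) : W.π g ∈ A := by
  let P : Subgroup (LinearEquiv.det : ((ι → E) ≃ₗ[F] (ι → E)) →* Fˣ).ker :=
    { carrier := {g | ∃ σ, Ax (g : (ι → E) ≃ₗ[F] (ι → E)) σ}
      mul_mem' := fun {a b} ⟨σ, h1⟩ ⟨τ, h2⟩ => ⟨σ * τ, h1.mul h2⟩
      one_mem' := ⟨1, Ax.one⟩
      inv_mem' := fun {a} ⟨σ, h1⟩ => ⟨σ⁻¹, h1.inv⟩ }
  have h1 : A ≤ P.map W.π := by
    intro q hq
    obtain ⟨g, rfl⟩ := W.surj q
    exact ⟨g, W.hat g hq, rfl⟩
  have h2 : P.map W.π = A := by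
    by_contra hne
    have h3 := hA.2 _ (lt_of_le_of_ne h1 (Ne.symm hne))
    have h4 : W.π x ∈ P.map W.π := by rw [h3]; exact mem_top _
    obtain ⟨p, ⟨σ, hσ⟩, hp⟩ := h4
    have h5 : W.π (p⁻¹ * x) = 1 := by rw [map_mul, map_inv, hp, inv_mul_cancel]
    obtain ⟨l, hl⟩ := (W.ker _).1 h5
    apply hx σ
    intro i w
    obtain ⟨w', hw'⟩ := hσ i (l • w)
    refine ⟨w', ?_⟩
    have h6 := hl (Pi.single i w)
    rw [← hw', Pi.single_smul, ← h6]
    exact ((p : (ι → E) ≃ₗ[F] (ι → E)).apply_symm_apply _).symm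
  have h3 : W.π g ∈ P.map W.π := ⟨g, ⟨σ, hg⟩, rfl⟩
  exact h2.le h3

/-- **`mm ≥ 2`** -/
theorem case_I [Finite E] [Fintype ι] [Finite F] (W : WM A F E ι) (h : EPT A Γ) {i0 i1 : ι} (h01 : i0 ≠ i1) {c a : E}
    (hc0 : c ≠ 0) (hc1 : c ≠ 1) (hcc : c * c ≠ 1) (ha0 : a ≠ 0) (haN : Algebra.norm F a ^ 2 = 1)
    (hal : ∀ l : F, a * a ≠ algebraMap F E l) : False := by
  have hFD : FiniteDimensional F E := Module.Finite.of_finite
  have hd : (c - 1) ≠ 0 := sub_ne_zero.2 hc1
  obtain ⟨d, hd0, hcd⟩ : ∃ d : E, d ≠ 0 ∧ c * d = 1 + d := by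
    refine ⟨(c - 1)⁻¹, inv_ne_zero hd, ?_⟩
    have h1 : (c - 1) * (c - 1)⁻¹ = 1 := mul_inv_cancel₀ hd
    linear_combination h1
  let x : (ι → E) ≃ₗ[F] (ι → E) := tv h01.symm LinearMap.id * tv h01 (LinearMap.mulLeft F d)
  have hxd : LinearEquiv.det x = 1 := by
    show LinearEquiv.det (tv h01.symm LinearMap.id * tv h01 (LinearMap.mulLeft F d)) = 1
    rw [map_mul, tv, tv, det_unip, det_unip, mul_one]
  have hX : XMap x i0 i1 c d := by
    refine ⟨h01, hc0, hd0, fun w => ?_, fun w => ?_, fun j hj0 hj1 w => ?_⟩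
    · show tv h01.symm LinearMap.id (tv h01 (LinearMap.mulLeft F d) (Pi.single i0 w)) = _
      rw [tv_single_ne h01 h01, tv_single_same]
      rfl
    · show tv h01.symm LinearMap.id (tv h01 (LinearMap.mulLeft F d) (Pi.single i1 w)) = _
      rw [tv_single_same, map_add, tv_single_ne h01.symm h01.symm, tv_single_same]
      have e1 : c * (d * w) = w + d * w := by rw [← mul_assoc, hcd]; ring
      rw [e1, Pi.single_add]
      show (Pi.single i1 w + (Pi.single i0 (d * w) + Pi.single i1 (d * w)) : ι → E) = _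
      abel
    · show tv h01.symm LinearMap.id (tv h01 (LinearMap.mulLeft F d) (Pi.single j w)) = _
      rw [tv_single_ne h01 hj1, tv_single_ne h01.symm hj0]
  have hxσ : ∀ σ, ¬ Ax x σ := by
    intro σ hσ
    obtain ⟨w', hw'⟩ := hσ i0 1
    rw [hX.x0] at hw'
    exact single_add_ne h01 one_ne_zero one_ne_zero hw'
  -- the elements `g` and `s`
  let c' : Eˣ := Units.mk0 c hc0
  let a' : Eˣ := Units.mk0 a ha0
  let g : (ι → E) ≃ₗ[F] (ι → E) := dg (Pi.mulSingle i0 c' * Pi.mulSingle i1 c'⁻¹ : ι → Eˣ)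
  let s : (ι → E) ≃ₗ[F] (ι → E) := dg (Pi.mulSingle i0 a' * Pi.mulSingle i1 a' : ι → Eˣ)
  have hgd : LinearEquiv.det g = 1 := by
    apply Units.ext
    show ((LinearEquiv.det (dg (Pi.mulSingle i0 c' * Pi.mulSingle i1 c'⁻¹ : ι → Eˣ)) : Fˣ) : F) = 1
    rw [det_dg_two, ← map_mul, Units.mul_inv, map_one]
  have hsd : LinearEquiv.det s = 1 := by
    apply Units.ext
    show ((LinearEquiv.det (dg (Pi.mulSingle i0 a' * Pi.mulSingle i1 a' : ι → Eˣ)) : Fˣ) : F) = 1
    rw [det_dg_two, ← pow_two]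
    exact haN
  have hg0 : ∀ w, g (Pi.single i0 w) = Pi.single i0 (c * w) := fun w => by
    show dg (Pi.mulSingle i0 c' * Pi.mulSingle i1 c'⁻¹ : ι → Eˣ) (Pi.single i0 w) = _
    rw [dg_single, Pi.mul_apply, Pi.mulSingle_eq_same, Pi.mulSingle_eq_of_ne h01, mul_one]
    rfl
  have hg1 : ∀ w, g (Pi.single i1 w) = Pi.single i1 (c⁻¹ * w) := fun w => by
    show dg (Pi.mulSingle i0 c' * Pi.mulSingle i1 c'⁻¹ : ι → Eˣ) (Pi.single i1 w) = _
    rw [dg_single, Pi.mul_apply, Pi.mulSingle_eq_same, Pi.mulSingle_eq_of_ne h01.symm, one_mul,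
      Units.val_inv_eq_inv_val]
    rfl
  have hgj : ∀ j, j ≠ i0 → j ≠ i1 → ∀ w, g (Pi.single j w) = Pi.single j w := fun j hj0 hj1 w => by
    show dg (Pi.mulSingle i0 c' * Pi.mulSingle i1 c'⁻¹ : ι → Eˣ) (Pi.single j w) = _
    rw [dg_single, Pi.mul_apply, Pi.mulSingle_eq_of_ne hj0, Pi.mulSingle_eq_of_ne hj1, one_mul, Units.val_one, one_mul]
  have hs0 : ∀ w, s (Pi.single i0 w) = Pi.single i0 (a * w) := fun w => by
    show dg (Pi.mulSingle i0 a' * Pi.mulSingle i1 a' : ι → Eˣ) (Pi.single i0 w) = _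
    rw [dg_single, Pi.mul_apply, Pi.mulSingle_eq_same, Pi.mulSingle_eq_of_ne h01, mul_one]
    rfl
  have hs1 : ∀ w, s (Pi.single i1 w) = Pi.single i1 (a * w) := fun w => by
    show dg (Pi.mulSingle i0 a' * Pi.mulSingle i1 a' : ι → Eˣ) (Pi.single i1 w) = _
    rw [dg_single, Pi.mul_apply, Pi.mulSingle_eq_same, Pi.mulSingle_eq_of_ne h01.symm, one_mul]
    rfl
  have hsj : ∀ j, j ≠ i0 → j ≠ i1 → ∀ w, s (Pi.single j w) = Pi.single j w := fun j hj0 hj1 w => by
    show dg (Pi.mulSingle i0 a' * Pi.mulSingle i1 a' : ι → Eˣ) (Pi.single j w) = _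
    rw [dg_single, Pi.mul_apply, Pi.mulSingle_eq_of_ne hj0, Pi.mulSingle_eq_of_ne hj1, one_mul, Units.val_one, one_mul]
  have hsx : s * x = x * s := by
    refine eq_of_single fun j w => ?_
    show s (x (Pi.single j w)) = x (s (Pi.single j w))
    by_cases hj0 : j = i0
    · subst hj0
      rw [hX.x0, map_add, hs0, hs1, hX.x0]
    · by_cases hj1 : j = i1
      · subst hj1
        rw [hX.x1, map_add, hs0, hs1, hs1, hX.x1]
        congr 2 <;> ring
      · rw [hX.xj j hj0 hj1, hsj j hj0 hj1, hX.xj j hj0 hj1]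
  let X : (LinearEquiv.det : ((ι → E) ≃ₗ[F] (ι → E)) →* Fˣ).ker := ⟨x, hxd⟩
  let G : (LinearEquiv.det : ((ι → E) ≃ₗ[F] (ι → E)) →* Fˣ).ker := ⟨g, hgd⟩
  let S : (LinearEquiv.det : ((ι → E) ≃ₗ[F] (ι → E)) →* Fˣ).ker := ⟨s, hsd⟩
  have hXA : W.π X ∉ A := fun e => by
    obtain ⟨σ, hσ⟩ := W.hat X e
    exact hxσ σ hσ
  have hax : ∀ g : (LinearEquiv.det : ((ι → E) ≃ₗ[F] (ι → E)) →* Fˣ).ker, ∀ σ,
      Ax (g : (ι → E) ≃ₗ[F] (ι → E)) σ → W.π g ∈ A := fun g σ hg => W.mem_of_ax h.max (x := X) hxσ hg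
  have hGA : W.π G ∈ A := hax G 1 (ax_dg _)
  have hSA : W.π S ∈ A := hax S 1 (ax_dg _)
  have hkill := kill_sq h hXA (s := W.π S) ?_ ?_ hGA ?_
  · have h1 : W.π (X⁻¹ * G * X) ∈ A := by
      rw [map_mul, map_mul, map_inv]
      exact mem_cj.1 hkill
    obtain ⟨τ, hτ⟩ := W.hat _ h1
    exact hX.not_perm hc1 hcc hg0 hg1 hτ.conv
  · refine ⟨hSA, mem_cj.2 ?_⟩
    have e1 : X⁻¹ * S * X = S := by
      rw [mul_assoc, inv_mul_eq_iff_eq_mul]
      exact Subtype.ext hsx
    rw [← map_inv, ← map_mul, ← map_mul, e1]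
    exact hSA
  · intro e
    rw [← map_mul] at e
    obtain ⟨l, hl⟩ := (W.ker _).1 e
    have h1 : s (s (Pi.single i0 1)) = l • Pi.single i0 1 := hl (Pi.single i0 1)
    rw [hs0, hs0, mul_one, ← Pi.single_smul, Algebra.smul_def, mul_one] at h1
    exact hal l (Pi.single_injective _ h1)
  · rintro q ⟨hq1, hq2⟩
    obtain ⟨y, rfl⟩ := W.surj q
    have h1 : W.π (X⁻¹ * y * X) ∈ A := by
      rw [map_mul, map_mul, map_inv]
      exact mem_cj.1 hq2
    obtain ⟨σ, hσ⟩ := W.hat _ hq1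
    obtain ⟨τ, hτ⟩ := W.hat _ h1
    rw [← map_mul, ← map_mul, ← map_mul]
    congr 1
    apply Subtype.ext
    apply LinearEquiv.ext
    intro u
    exact hX.key hσ hτ.conv hg0 hg1 hgj u

/-- **`mm = 1`, `q ≥ 3`** -/
theorem case_II [Finite Q] [Fintype ι] [Finite F] (W : WM A F F ι) (h : EPT A Γ) {i0 i1 i2 : ι} (h01 : i0 ≠ i1)
    (h02 : i0 ≠ i2) (h12 : i1 ≠ i2) {l : F} (hl0 : l ≠ 0)
    (hl : l * l * l ≠ 1 ∨ (l ≠ 1 ∧ ∃ i3, i3 ≠ i0 ∧ i3 ≠ i1 ∧ i3 ≠ i2)) : False := by
  let l' : Fˣ := Units.mk0 l hl0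
  let x : (ι → F) ≃ₗ[F] (ι → F) := tv h01 LinearMap.id
  have hxd : LinearEquiv.det x = 1 := det_unip _ _
  have hx1 : ∀ w, x (Pi.single i1 w) = Pi.single i1 w + Pi.single i0 w := fun w => tv_single_same h01 _ w
  have hxj : ∀ j, j ≠ i1 → ∀ w, x (Pi.single j w) = Pi.single j w := fun j hj w => tv_single_ne h01 hj _ w
  have hxσ : ∀ σ, ¬ Ax x σ := by
    intro σ hσ
    obtain ⟨w', hw'⟩ := hσ i1 1
    rw [hx1] at hw'
    exact single_add_ne h01.symm one_ne_zero one_ne_zero hw'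
  let k : (ι → F) ≃ₗ[F] (ι → F) := dg (Pi.mulSingle i0 l' * Pi.mulSingle i2 (l' * l')⁻¹ * Pi.mulSingle i1 l' : ι → Fˣ)
  have hkd : LinearEquiv.det k = 1 := by
    apply Units.ext
    show ((LinearEquiv.det (dg (Pi.mulSingle i0 l' * Pi.mulSingle i2 (l' * l')⁻¹ * Pi.mulSingle i1 l' : ι → Fˣ)) : Fˣ) :
      F) = 1
    rw [det_dg]
    have e : ∀ k, Algebra.norm F (((Pi.mulSingle i0 l' * Pi.mulSingle i2 (l' * l')⁻¹ * Pi.mulSingle i1 l' : ι → Fˣ) k :
        Fˣ) : F) = Algebra.norm F (((Pi.mulSingle i0 l' : ι → Fˣ) k : Fˣ) : F) *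
        Algebra.norm F (((Pi.mulSingle i2 (l' * l')⁻¹ : ι → Fˣ) k : Fˣ) : F) *
        Algebra.norm F (((Pi.mulSingle i1 l' : ι → Fˣ) k : Fˣ) : F) := fun k => by
      rw [Pi.mul_apply, Pi.mul_apply, Units.val_mul, Units.val_mul, map_mul, map_mul]
    rw [Finset.prod_congr rfl (fun k _ => e k), Finset.prod_mul_distrib, Finset.prod_mul_distrib, prod_mulSingle,
      prod_mulSingle, prod_mulSingle, ← map_mul, ← map_mul, ← Units.val_mul, ← Units.val_mul]
    have e2 : l' * (l' * l')⁻¹ * l' = 1 := by group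
    rw [e2, Units.val_one, map_one]
  have hk0 : ∀ w, k (Pi.single i0 w) = Pi.single i0 (l * w) := fun w => by
    show dg _ (Pi.single i0 w) = _
    rw [dg_single, Pi.mul_apply, Pi.mul_apply, Pi.mulSingle_eq_same, Pi.mulSingle_eq_of_ne h01,
      Pi.mulSingle_eq_of_ne h02, mul_one, mul_one]
    rfl
  have hk1 : ∀ w, k (Pi.single i1 w) = Pi.single i1 (l * w) := fun w => by
    show dg _ (Pi.single i1 w) = _
    rw [dg_single, Pi.mul_apply, Pi.mul_apply, Pi.mulSingle_eq_same, Pi.mulSingle_eq_of_ne h01.symm,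
      Pi.mulSingle_eq_of_ne h12, one_mul, one_mul]
    rfl
  have hk2 : ∀ w, k (Pi.single i2 w) = Pi.single i2 ((l * l)⁻¹ * w) := fun w => by
    show dg _ (Pi.single i2 w) = _
    rw [dg_single, Pi.mul_apply, Pi.mul_apply, Pi.mulSingle_eq_same, Pi.mulSingle_eq_of_ne h02.symm,
      Pi.mulSingle_eq_of_ne h12.symm, one_mul, mul_one, Units.val_inv_eq_inv_val]
    rfl
  have hkj : ∀ j, j ≠ i0 → j ≠ i1 → j ≠ i2 → ∀ w, k (Pi.single j w) = Pi.single j w := fun j hj0 hj1 hj2 w => by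
    show dg _ (Pi.single j w) = _
    rw [dg_single, Pi.mul_apply, Pi.mul_apply, Pi.mulSingle_eq_of_ne hj0, Pi.mulSingle_eq_of_ne hj1,
      Pi.mulSingle_eq_of_ne hj2, one_mul, one_mul, Units.val_one, one_mul]
  have hkx : x * k = k * x := by
    refine eq_of_single fun j w => ?_
    show x (k (Pi.single j w)) = k (x (Pi.single j w))
    by_cases hj1 : j = i1
    · subst hj1
      rw [hx1, map_add, hk0, hk1, hx1]
    · by_cases hj0 : j = i0
      · subst hj0
        rw [hk0, hxj _ h01, hxj _ h01, hk0]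
      · by_cases hj2 : j = i2
        · subst hj2
          rw [hk2, hxj _ hj1, hxj _ hj1, hk2]
        · rw [hkj _ hj0 hj1 hj2, hxj _ hj1, hkj _ hj0 hj1 hj2]
  let X : (LinearEquiv.det : ((ι → F) ≃ₗ[F] (ι → F)) →* Fˣ).ker := ⟨x, hxd⟩
  let K : (LinearEquiv.det : ((ι → F) ≃ₗ[F] (ι → F)) →* Fˣ).ker := ⟨k, hkd⟩
  have hXA : W.π X ∉ A := fun e => by
    obtain ⟨σ, hσ⟩ := W.hat X e
    exact hxσ σ hσ
  have hax : ∀ g : (LinearEquiv.det : ((ι → F) ≃ₗ[F] (ι → F)) →* Fˣ).ker, ∀ σ,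
      Ax (g : (ι → F) ≃ₗ[F] (ι → F)) σ → W.π g ∈ A := fun g σ hg => W.mem_of_ax h.max (x := X) hxσ hg
  let P : Subgroup (LinearEquiv.det : ((ι → F) ≃ₗ[F] (ι → F)) →* Fˣ).ker :=
    { carrier := {g | Ax (g : (ι → F) ≃ₗ[F] (ι → F)) 1}
      mul_mem' := fun {a b} h1 h2 => by
        have := h1.mul h2
        rw [mul_one] at this
        exact this
      one_mem' := Ax.one
      inv_mem' := fun {a} h1 => by
        have := h1.inv
        rw [inv_one] at this
        exact this }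
  have hPc : ∀ a b : (ι → F) ≃ₗ[F] (ι → F), Ax a 1 → Ax b 1 → a * b = b * a := by
    intro a b ha hb
    have key : ∀ a : (ι → F) ≃ₗ[F] (ι → F), Ax a 1 → ∀ i, ∃ r : F, ∀ w, a (Pi.single i w) = Pi.single i (w * r) := by
      intro a ha i
      obtain ⟨r, hr⟩ := ha i 1
      refine ⟨r, fun w => ?_⟩
      have e1 : (Pi.single i w : ι → F) = w • Pi.single i 1 := by
        rw [← Pi.single_smul, smul_eq_mul, mul_one]
      rw [e1, map_smul, hr, ← Pi.single_smul, smul_eq_mul]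
      rfl
    refine eq_of_single fun i w => ?_
    obtain ⟨r, hr⟩ := key a ha i
    obtain ⟨r', hr'⟩ := key b hb i
    rw [LinearEquiv.mul_apply, LinearEquiv.mul_apply, hr, hr', hr, hr']
    congr 1
    ring
  apply hXA
  refine nilp_cent h (K := P.map W.π) ?_ ?_ ?_ (k := W.π K) ⟨K, ax_dg _, rfl⟩ ?_ (by
    rw [← map_mul, ← map_mul]
    congr 1
    exact Subtype.ext hkx)
  · rintro _ ⟨g, hg, rfl⟩
    exact hax g 1 hg
  · rintro a ha _ ⟨g, hg, rfl⟩
    obtain ⟨y, rfl⟩ := W.surj a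
    obtain ⟨σ, hσ⟩ := W.hat _ ha
    refine ⟨y * g * y⁻¹, ?_, by rw [map_mul, map_mul, map_inv]⟩
    have h1 := (hσ.mul hg).mul hσ.inv
    rw [mul_one, mul_inv_cancel] at h1
    exact h1
  · rintro _ ⟨g, hg, rfl⟩ _ ⟨g', hg', rfl⟩
    rw [← map_mul, ← map_mul]
    congr 1
    exact Subtype.ext (hPc _ _ hg hg')
  · intro e
    obtain ⟨r, hr⟩ := (W.ker _).1 e
    have h1 : k (Pi.single i0 1) = r • Pi.single i0 1 := hr (Pi.single i0 1)
    have h2 : k (Pi.single i2 1) = r • Pi.single i2 1 := hr (Pi.single i2 1)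
    rw [hk0, mul_one, ← Pi.single_smul, smul_eq_mul, mul_one] at h1
    rw [hk2, mul_one, ← Pi.single_smul, smul_eq_mul, mul_one] at h2
    have h1' := Pi.single_injective _ h1
    have h2' := Pi.single_injective _ h2
    rcases hl with hl | ⟨hl1, i3, h30, h31, h32⟩
    · apply hl
      rw [← h1'] at h2'
      rw [mul_comm (l * l) l]
      nth_rewrite 1 [← h2']
      exact inv_mul_cancel₀ (mul_ne_zero hl0 hl0)
    · have h3 : k (Pi.single i3 1) = r • Pi.single i3 1 := hr (Pi.single i3 1)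
      rw [hkj _ h30 h31 h32, ← Pi.single_smul, smul_eq_mul, mul_one] at h3
      exact hl1 (h1'.trans (Pi.single_injective _ h3).symm)

/-- **`mm = 1`, `q = 2`** -/
theorem case_III [Fintype ι] [Finite F] (W : WM A F F ι) (hA : IsCoatom A) {i0 i1 i2 : ι} (h01 : i0 ≠ i1)
    (h02 : i0 ≠ i2) (h12 : i1 ≠ i2) (hF : ∀ a : F, a = 0 ∨ a = 1) : False := by
  have h11 : (1 : F) + 1 = 0 := by
    rcases hF (1 + 1) with e | e
    · exact e
    · exact absurd (by linear_combination e : (1 : F) = 0) one_ne_zero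
  let v : ι → F := fun _ => 1
  have hv : v = ∑ i, Pi.single i (1 : F) := (Finset.univ_sum_single v).symm
  have hfix : ∀ g : (ι → F) ≃ₗ[F] (ι → F), ∀ σ, Ax g σ → g v = v := by
    intro g σ hg
    have h1 : ∀ i, g (Pi.single i 1) = Pi.single (σ i) 1 := by
      intro i
      obtain ⟨w, hw⟩ := hg i 1
      rcases hF w with rfl | rfl
      · rw [Pi.single_zero, LinearEquiv.map_eq_zero_iff, Pi.single_eq_zero_iff] at hw
        exact absurd hw one_ne_zero
      · exact hw
    rw [hv, map_sum, Finset.sum_congr rfl (fun i _ => h1 i)]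
    exact Equiv.sum_comp σ (fun i => (Pi.single i 1 : ι → F))
  let φ : (ι → F) →ₗ[F] F := LinearMap.proj (R := F) (φ := fun _ : ι => F) i0 +
    LinearMap.proj (R := F) (φ := fun _ : ι => F) i1
  let N : (ι → F) →ₗ[F] (ι → F) := φ.smulRight v
  have hNap : ∀ u, N u = (u i0 + u i1) • v := fun u => rfl
  have hN : ∀ u, N (N u) = 0 := by
    intro u
    rw [hNap u, map_smul, hNap v]
    show (u i0 + u i1) • ((1 : F) + 1) • v = 0
    rw [h11, zero_smul, smul_zero]
  let y : (ι → F) ≃ₗ[F] (ι → F) := unip N hN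
  have hyd : LinearEquiv.det y = 1 := det_unip _ _
  have hyv : y v = v := by
    show v + N v = v
    rw [hNap v]
    show v + ((1 : F) + 1) • v = v
    rw [h11, zero_smul, add_zero]
  have hyσ : ∀ σ, ¬ Ax y σ := by
    intro σ hσ
    obtain ⟨w, hw⟩ := hσ i0 1
    have h1 : y (Pi.single i0 1) = Pi.single i0 1 + v := by
      show Pi.single i0 1 + N (Pi.single i0 1) = _
      rw [hNap, Pi.single_eq_same, Pi.single_eq_of_ne h01.symm, add_zero, one_smul]
    rw [h1] at hw
    have e1 := congrFun hw i1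
    have e2 := congrFun hw i2
    rw [Pi.add_apply, Pi.single_eq_of_ne h01.symm, zero_add] at e1
    rw [Pi.add_apply, Pi.single_eq_of_ne h02.symm, zero_add] at e2
    have h2 : i1 = σ i0 := by
      by_contra h2
      rw [Pi.single_eq_of_ne h2] at e1
      exact one_ne_zero e1
    have h3 : i2 = σ i0 := by
      by_contra h3
      rw [Pi.single_eq_of_ne h3] at e2
      exact one_ne_zero e2
    exact h12 (h2.trans h3.symm)
  let x : (ι → F) ≃ₗ[F] (ι → F) := tv h01 LinearMap.id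
  have hxd : LinearEquiv.det x = 1 := det_unip _ _
  let Y : Subgroup (LinearEquiv.det : ((ι → F) ≃ₗ[F] (ι → F)) →* Fˣ).ker :=
    { carrier := {g | (g : (ι → F) ≃ₗ[F] (ι → F)) v = v}
      mul_mem' := fun {a b} h1 h2 => by
        show (a : (ι → F) ≃ₗ[F] (ι → F)) ((b : (ι → F) ≃ₗ[F] (ι → F)) v) = v
        rw [show (b : (ι → F) ≃ₗ[F] (ι → F)) v = v from h2]
        exact h1
      one_mem' := rfl
      inv_mem' := fun {a} h1 => by
        show (a : (ι → F) ≃ₗ[F] (ι → F)).symm v = v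
        rw [LinearEquiv.symm_apply_eq]
        exact h1.symm }
  have h1 : A ≤ Y.map W.π := by
    intro q hq
    obtain ⟨g, rfl⟩ := W.surj q
    obtain ⟨σ, hσ⟩ := W.hat g hq
    exact ⟨g, hfix _ σ hσ, rfl⟩
  have h2 : Y.map W.π ≠ A := by
    intro e
    have h3' : W.π ⟨y, hyd⟩ ∈ Y.map W.π := ⟨⟨y, hyd⟩, hyv, rfl⟩
    have h3 : W.π ⟨y, hyd⟩ ∈ A := e.le h3'
    obtain ⟨σ, hσ⟩ := W.hat _ h3
    exact hyσ σ hσ
  have h3 := hA.2 _ (lt_of_le_of_ne h1 (Ne.symm h2))
  have h4 : W.π ⟨x, hxd⟩ ∈ Y.map W.π := by rw [h3]; exact mem_top _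
  obtain ⟨p, hp, hpe⟩ := h4
  have h5 : W.π (p⁻¹ * ⟨x, hxd⟩) = 1 := by rw [map_mul, map_inv, hpe, inv_mul_cancel]
  obtain ⟨r, hr⟩ := (W.ker _).1 h5
  have h6 : (p : (ι → F) ≃ₗ[F] (ι → F)).symm (x v) = r • v := hr v
  rw [LinearEquiv.symm_apply_eq, map_smul, show (p : (ι → F) ≃ₗ[F] (ι → F)) v = v from hp] at h6
  have h7 : x v = v + Pi.single i0 1 := rfl
  rw [h7] at h6
  have e0 := congrFun h6 i0
  have e2 := congrFun h6 i2
  rw [Pi.add_apply, Pi.single_eq_same, Pi.smul_apply, smul_eq_mul] at e0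
  rw [Pi.add_apply, Pi.single_eq_of_ne h02.symm, Pi.smul_apply, smul_eq_mul, add_zero] at e2
  have e0' : (1 : F) + 1 = r * 1 := e0
  have e2' : (1 : F) = r * 1 := e2
  rw [← e2', h11] at e0'
  exact zero_ne_one e0'

end WM

end Cfsg.Agent.H173.EP
end

-- part: H173/EP/SLC2
section
/-!
# S3499-III-SL-C2: the imprimitive subgroups of `SL_n(F)` (helper173)
-/

set_option autoImplicit false

namespace Cfsg.Agent.H173.EP

open Subgroup Cfsg.Agent.H284 Cfsg.Agent.H419.EP
open scoped MatrixGroups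

/-- coordinates adapted to a decomposition -/
theorem exists_coord {n t k : ℕ} {F : Type*} [Field F] {D : Fin t → Submodule F (Fin n → F)}
    (hD : Cfsg.Geo.IsMDecomposition k D) (E : Type*) [Field E] [Algebra F E] [FiniteDimensional F E]
    (hE : Module.finrank F E = k) :
    ∃ ψ : (Fin n → F) ≃ₗ[F] (Fin t → E), ∀ i v, v ∈ D i ↔ ∃ w, ψ v = Pi.single i w := by
  have hint := DirectSum.isInternal_submodule_of_iSupIndep_of_iSup_eq_top hD.indep hD.iSup_eq_top
  let e0 : (DirectSum (Fin t) fun i => D i) ≃ₗ[F] (Fin n → F) := LinearEquiv.ofBijective (DirectSum.coeLinearMap D) hint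
  let e1 : (DirectSum (Fin t) fun i => D i) ≃ₗ[F] (∀ i, D i) := DirectSum.linearEquivFunOnFintype F (Fin t) (fun i => D i)
  let f : ∀ i, D i ≃ₗ[F] E := fun i => LinearEquiv.ofFinrankEq (D i) E ((hD.finrank_eq i).trans hE.symm)
  let e2 : (∀ i, D i) ≃ₗ[F] (Fin t → E) := LinearEquiv.piCongrRight f
  let ψ : (Fin n → F) ≃ₗ[F] (Fin t → E) := e0.symm.trans (e1.trans e2)
  have hs : ∀ i (v : D i), ψ v = Pi.single i (f i v) := by
    intro i v
    have h1 : e0 (DirectSum.lof F (Fin t) (fun i => D i) i v) = (v : Fin n → F) :=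
      DirectSum.coeLinearMap_lof D i v
    show e2 (e1 (e0.symm v)) = _
    rw [← h1, LinearEquiv.symm_apply_apply]
    have h2 : e1 (DirectSum.lof F (Fin t) (fun i => D i) i v) = Pi.single i v :=
      DirectSum.linearEquivFunOnFintype_lof F (M := fun i => D i) i v
    rw [h2]
    funext j
    show f j ((Pi.single i v : ∀ i, D i) j) = _
    by_cases hj : j = i
    · subst hj
      rw [Pi.single_eq_same, Pi.single_eq_same]
    · rw [Pi.single_eq_of_ne hj, Pi.single_eq_of_ne hj, map_zero]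
  refine ⟨ψ, fun i v => ⟨fun hv => ⟨_, hs i ⟨v, hv⟩⟩, ?_⟩⟩
  rintro ⟨w, hw⟩
  have h1 := hs i ((f i).symm w)
  rw [LinearEquiv.apply_symm_apply, ← hw] at h1
  rw [← ψ.injective h1]
  exact ((f i).symm w).2

section toGL

variable {n : ℕ} {F : Type*} [Field F] {U : Type*} [AddCommGroup U] [Module F U] (ψ : (Fin n → F) ≃ₗ[F] U)

/-- conjugation by `ψ` -/
def cjE : (U ≃ₗ[F] U) →* ((Fin n → F) ≃ₗ[F] (Fin n → F)) where
  toFun g := (ψ.trans g).trans ψ.symm
  map_one' := LinearEquiv.ext fun v => ψ.symm_apply_apply v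
  map_mul' f g := LinearEquiv.ext fun v => by
    show ψ.symm (f (g (ψ v))) = ψ.symm (f (ψ (ψ.symm (g (ψ v)))))
    rw [LinearEquiv.apply_symm_apply]

/-- the matrix of a linear automorphism -/
def toG : (U ≃ₗ[F] U) →* GL (Fin n) F :=
  (Matrix.GeneralLinearGroup.toLin.symm.toMonoidHom.comp
    (LinearMap.GeneralLinearGroup.generalLinearEquiv F (Fin n → F)).symm.toMonoidHom).comp (cjE ψ)

theorem toG_coe (g : U ≃ₗ[F] U) : ((toG ψ g : GL (Fin n) F) : Matrix (Fin n) (Fin n) F) =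
    LinearMap.toMatrix' (((ψ.trans g).trans ψ.symm : (Fin n → F) ≃ₗ[F] (Fin n → F)) : (Fin n → F) →ₗ[F] (Fin n → F)) := rfl

theorem toLin_toG (g : U ≃ₗ[F] U) (v : Fin n → F) :
    Matrix.toLin' ((toG ψ g : GL (Fin n) F) : Matrix (Fin n) (Fin n) F) v = ψ.symm (g (ψ v)) := by
  rw [toG_coe, Matrix.toLin'_toMatrix']
  rfl

theorem det_toG (g : U ≃ₗ[F] U) : Matrix.GeneralLinearGroup.det (toG ψ g) = LinearEquiv.det g := by
  apply Units.ext
  rw [LinearEquiv.coe_det]
  show Matrix.det ((toG ψ g : GL (Fin n) F) : Matrix (Fin n) (Fin n) F) = _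
  rw [toG_coe, LinearMap.det_toMatrix']
  have := LinearMap.det_conj (g : U →ₗ[F] U) ψ.symm
  rw [← this]
  rfl

theorem exists_toG (A : GL (Fin n) F) : ∃ g : U ≃ₗ[F] U, toG ψ g = A := by
  let a : (Fin n → F) ≃ₗ[F] (Fin n → F) :=
    LinearMap.GeneralLinearGroup.generalLinearEquiv F (Fin n → F) (Matrix.GeneralLinearGroup.toLin A)
  refine ⟨(ψ.symm.trans a).trans ψ, ?_⟩
  apply Units.ext
  apply (Matrix.toLin' (R := F) (m := Fin n) (n := Fin n)).injective
  ext1 v
  apply LinearMap.ext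
  intro x
  rw [LinearMap.comp_apply, LinearMap.comp_apply, toLin_toG]
  show ψ.symm (ψ (a (ψ.symm (ψ _)))) = _
  rw [LinearEquiv.symm_apply_apply, LinearEquiv.symm_apply_apply]
  rfl

theorem toG_scalars (g : U ≃ₗ[F] U) : toG ψ g ∈ Cfsg.Geo.scalars (Fin n) F ↔ ∃ l : F, ∀ u, g u = l • u := by
  rw [Cfsg.Geo.mem_scalars_iff]
  constructor
  · rintro ⟨c, hc⟩
    refine ⟨c, fun u => ?_⟩
    have h1 := toLin_toG ψ g (ψ.symm u)
    rw [hc, LinearEquiv.apply_symm_apply, map_smul, Matrix.toLin'_one] at h1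
    have h2 : (c : F) • ψ.symm u = ψ.symm (g u) := h1
    rw [← map_smul] at h2
    exact (ψ.symm.injective h2).symm
  · rintro ⟨l, hl⟩
    obtain ⟨c, hc⟩ : ∃ c : Fˣ, ∀ u, g u = (c : F) • u := by
      by_cases h0 : l = 0
      · refine ⟨1, fun u => ?_⟩
        have h1 := hl u
        rw [h0, zero_smul, LinearEquiv.map_eq_zero_iff] at h1
        rw [h1, map_zero, smul_zero]
      · exact ⟨Units.mk0 l h0, hl⟩
    refine ⟨c, ?_⟩
    apply (Matrix.toLin' (R := F) (m := Fin n) (n := Fin n)).injective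
    apply LinearMap.ext
    intro v
    rw [toLin_toG, hc, map_smul, LinearEquiv.symm_apply_apply, map_smul, Matrix.toLin'_one]
    rfl

end toGL

/-- the model `SL(U) → Q` -/
theorem exists_WM {n t k : ℕ} {F : Type*} [Field F] {D : Fin t → Submodule F (Fin n → F)}
    (hD : Cfsg.Geo.IsMDecomposition k D) (E : Type*) [Field E] [Algebra F E] [FiniteDimensional F E]
    (hE : Module.finrank F E = k) {Q : Type*} [Group Q] {A : Subgroup Q}
    (m : Model Q (Cfsg.Geo.specialLinear (Fin n) F)) (hA : m.hat A ≤ Cfsg.Geo.decompositionStabilizer D) :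
    Nonempty (WM A F E (Fin t)) := by
  obtain ⟨ψ, hψ⟩ := exists_coord hD E hE
  have hker : ∀ g : (LinearEquiv.det : ((Fin t → E) ≃ₗ[F] (Fin t → E)) →* Fˣ).ker,
      toG ψ (g : (Fin t → E) ≃ₗ[F] (Fin t → E)) ∈ Cfsg.Geo.specialLinear (Fin n) F := by
    intro g
    show Matrix.GeneralLinearGroup.det _ = 1
    rw [det_toG]
    exact g.2
  let Θ : (LinearEquiv.det : ((Fin t → E) ≃ₗ[F] (Fin t → E)) →* Fˣ).ker →* Cfsg.Geo.specialLinear (Fin n) F :=
    ((toG ψ).comp (Subgroup.subtype _)).codRestrict _ hker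
  refine ⟨⟨m.π.comp Θ, ?_, ?_, ?_⟩⟩
  · intro q
    obtain ⟨s, rfl⟩ := m.surj q
    obtain ⟨g, hg⟩ := exists_toG ψ (s : GL (Fin n) F)
    have hgd : LinearEquiv.det g = 1 := by
      rw [← det_toG ψ, hg]
      exact s.2
    exact ⟨⟨g, hgd⟩, congrArg m.π (Subtype.ext hg)⟩
  · intro g
    rw [MonoidHom.comp_apply, m.ker]
    exact toG_scalars ψ _
  · intro g hg
    have h1 : toG ψ (g : (Fin t → E) ≃ₗ[F] (Fin t → E)) ∈ Cfsg.Geo.decompositionStabilizer D :=
      hA ((m.mem_hat_iff (Θ g)).2 hg)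
    obtain ⟨σ, hσ⟩ := h1
    refine ⟨σ, fun i w => ?_⟩
    have h2 : ψ.symm (Pi.single i w) ∈ D i := (hψ i _).2 ⟨w, LinearEquiv.apply_symm_apply _ _⟩
    have h3 : Matrix.toLin' ((toG ψ (g : (Fin t → E) ≃ₗ[F] (Fin t → E)) : GL (Fin n) F) :
        Matrix (Fin n) (Fin n) F) (ψ.symm (Pi.single i w)) ∈ D (σ i) := by
      rw [← hσ i]
      exact Submodule.mem_map_of_mem h2
    rw [toLin_toG, LinearEquiv.apply_symm_apply] at h3
    obtain ⟨w', hw'⟩ := (hψ _ _).1 h3
    rw [LinearEquiv.apply_symm_apply] at hw'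
    exact ⟨w', hw'⟩

/-- **S3499-III-SL-C2** -/
theorem sl_c2 {Q : Type*} [Group Q] [Finite Q] {A : Subgroup Q} {Γ : Subgroup (MulAut Q)} (h : EPT A Γ) {F : Type*}
    [Field F] [Fintype F] {n : ℕ} (m : Model Q (Cfsg.Geo.specialLinear (Fin n) F)) (hn : 3 ≤ n)
    (h32 : ¬ (n = 3 ∧ Fintype.card F = 2)) (h34 : ¬ (n = 3 ∧ Fintype.card F = 4)) (h42 : ¬ (n = 4 ∧ Fintype.card F = 2))
    {t k : ℕ} {D : Fin t → Submodule F (Fin n → F)} (hD : Cfsg.Geo.IsMDecomposition k D)
    (hA : m.hat A ≤ Cfsg.Geo.decompositionStabilizer D) : False := by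
  have ht := hD.two_le
  have hk := hD.pos
  by_cases hk2 : 2 ≤ k
  · -- `mm ≥ 2`
    obtain ⟨p, hp⟩ := CharP.exists F
    have hpp : Fact p.Prime := ⟨CharP.char_is_prime F p⟩
    have : NeZero k := ⟨by omega⟩
    have hE := FiniteField.finrank_extension F p k
    obtain ⟨W⟩ := exists_WM hD (FiniteField.Extension F p k) hE m hA
    obtain ⟨c, a, hc0, hc1, hcc, ha0, haN, hal⟩ := exists_ca F (FiniteField.Extension F p k) (by rw [hE]; exact hk2)
    exact W.case_I h (i0 := ⟨0, by omega⟩) (i1 := ⟨1, by omega⟩) (by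
      intro e
      exact absurd (Fin.mk.inj e) (by norm_num)) hc0 hc1 hcc ha0 haN hal
  · have hk1 : k = 1 := by omega
    subst hk1
    obtain ⟨W⟩ := exists_WM hD F (Module.finrank_self F) m hA
    -- `t = n`
    have htn : t = n := by
      obtain ⟨ψ, -⟩ := exists_coord hD F (Module.finrank_self F)
      have h1 := ψ.finrank_eq
      rw [Module.finrank_fin_fun, Module.finrank_fin_fun] at h1
      exact h1.symm
    subst htn
    have h01 : (⟨0, by omega⟩ : Fin t) ≠ ⟨1, by omega⟩ := fun e => absurd (Fin.mk.inj e) (by norm_num)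
    have h02 : (⟨0, by omega⟩ : Fin t) ≠ ⟨2, by omega⟩ := fun e => absurd (Fin.mk.inj e) (by norm_num)
    have h12 : (⟨1, by omega⟩ : Fin t) ≠ ⟨2, by omega⟩ := fun e => absurd (Fin.mk.inj e) (by norm_num)
    have hq2 : 2 ≤ Fintype.card F := Fintype.one_lt_card
    by_cases hq : Fintype.card F = 2
    · refine W.case_III h.max h01 h02 h12 ?_
      intro a
      by_cases ha : a = 0
      · exact Or.inl ha
      · right
        have h1 := FiniteField.pow_card_sub_one_eq_one a ha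
        rw [hq] at h1
        simpa using h1
    · obtain ⟨l, hl0, hl⟩ : ∃ l : F, l ≠ 0 ∧ (l * l * l ≠ 1 ∨ (l ≠ 1 ∧ 4 ≤ t)) := by
        by_cases ht4 : 4 ≤ t
        · obtain ⟨l, hl0, hl1⟩ : ∃ l : F, l ≠ 0 ∧ l ≠ 1 := by
            by_contra hcon
            push Not at hcon
            apply hq
            classical
            have h1 : (Finset.univ : Finset F) = {0, 1} := by
              ext a
              simp only [Finset.mem_univ, Finset.mem_insert, Finset.mem_singleton, true_iff]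
              by_cases ha : a = 0
              · exact Or.inl ha
              · exact Or.inr (hcon a ha)
            rw [← Finset.card_univ, h1, Finset.card_pair zero_ne_one]
          exact ⟨l, hl0, Or.inr ⟨hl1, ht4⟩⟩
        · have ht3 : t = 3 := by omega
          obtain ⟨c, hc⟩ := IsCyclic.exists_ofOrder_eq_natCard (α := Fˣ)
          have hcard : Nat.card Fˣ = Fintype.card F - 1 := by
            classical
            rw [Nat.card_eq_fintype_card, Fintype.card_units]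
          rw [hcard] at hc
          refine ⟨c, c.ne_zero, Or.inl ?_⟩
          intro e
          have h1 : c ^ 3 = 1 := by
            apply Units.ext
            rw [pow_succ, pow_two, Units.val_mul, Units.val_mul, e, Units.val_one]
          have h2 := orderOf_dvd_of_pow_eq_one h1
          rw [hc] at h2
          have h3 := (Nat.dvd_prime Nat.prime_three).1 h2
          rcases h3 with h3 | h3
          · exact hq (by omega)
          · exact h34 ⟨ht3, by omega⟩
      refine W.case_II h h01 h02 h12 hl0 ?_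
      rcases hl with hl | ⟨hl, h4⟩
      · exact Or.inl hl
      · refine Or.inr ⟨hl, ⟨3, by omega⟩, fun e => absurd (Fin.mk.inj e) (by norm_num),
          fun e => absurd (Fin.mk.inj e) (by norm_num), fun e => absurd (Fin.mk.inj e) (by norm_num)⟩

end Cfsg.Agent.H173.EP
end

-- part: H173/EP/RowC2
section
/-!
# S3499-III: the row `C2` of `PslNonRes` (helper173)
-/

set_option autoImplicit false

namespace Cfsg.Agent.H173.EP

theorem row_c2 : Cfsg.Agent.H128.EP.Row (fun F _ _ n H => Cfsg.Agent.H128.EP.C2 F n H) := by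
  intro Q _ _ _ A Γ h F _ _ n m hn h32 h34 h42 hC
  obtain ⟨t, k, D, hD, hA⟩ := hC
  exact sl_c2 h m hn h32 h34 h42 hD hA

end Cfsg.Agent.H173.EP
end

-- part: H855/EP3/Abs
section
/-!
# Extremely primitive groups: a subgroup of `A` centralised by `A'` (helper855, S3499-III)

If `1 ≠ X ≤ A` and `[X, A'] = 1` then `W = C_A(A')` is (T1) elementary abelian, contains `A'`, and `W ∩ A^x = 1`.
-/

set_option autoImplicit false
set_option linter.unusedSectionVars false

namespace Cfsg.Agent.H855.EP3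

open Subgroup Cfsg.Agent.H284
open scoped commutatorElement

variable {Q : Type*} [Group Q] {A : Subgroup Q} {Γ : Subgroup (MulAut Q)}

/-- `C_A(A')` -/
def WW (A : Subgroup Q) : Subgroup Q := A ⊓ Subgroup.centralizer ((⁅A, A⁆ : Subgroup Q) : Set Q)

theorem mem_WW {A : Subgroup Q} {w : Q} : w ∈ WW A ↔ w ∈ A ∧ ∀ c ∈ ⁅A, A⁆, c * w = w * c := by
  rw [WW, mem_inf, mem_centralizer_iff]
  rfl

theorem WW_nilp (A : Subgroup Q) : Group.IsNilpotent (WW A) := by
  rw [Subgroup.isNilpotent_iff_lowerCentralSeries]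
  refine ⟨2, ?_⟩
  rw [eq_bot_iff]
  show ⁅⁅WW A, WW A⁆, WW A⁆ ≤ ⊥
  have hA : WW A ≤ A := inf_le_left
  rw [Subgroup.commutator_le]
  intro a ha b hb
  have h1 : a ∈ ⁅A, A⁆ := Subgroup.commutator_mono hA hA ha
  rw [mem_bot, commutatorElement_eq_one_iff_mul_comm]
  exact (mem_WW.1 hb).2 _ h1

variable (h : EPT A Γ)

include h

theorem center_inf : A ⊓ Subgroup.center Q = ⊥ := by
  obtain ⟨x, hx⟩ := h.exists_notMem
  refine h.F1 x hx _ inf_le_left ?_ ?_
  · intro σ hσ k hk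
    refine mem_inf.2 ⟨(h.inv σ hσ k).2 (mem_inf.1 hk).1, ?_⟩
    rw [Subgroup.mem_center_iff]
    intro g
    have h1 := Subgroup.mem_center_iff.1 (mem_inf.1 hk).2 (σ⁻¹ g)
    have h2 := congrArg σ h1
    rw [map_mul, map_mul, MulAut.apply_inv_self] at h2
    exact h2
  · intro k hk
    rw [mem_cj]
    have h1 := Subgroup.mem_center_iff.1 (mem_inf.1 hk).2 x
    rw [mul_assoc, ← h1, ← mul_assoc, inv_mul_cancel, one_mul]
    exact (mem_inf.1 hk).1

theorem comm_inv {σ : MulAut Q} (hσ : σ ∈ Γ) {c : Q} (hc : c ∈ ⁅A, A⁆) : σ c ∈ ⁅A, A⁆ := by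
  have h1 : σ c ∈ (⁅A, A⁆ : Subgroup Q).map σ.toMonoidHom := ⟨c, hc, rfl⟩
  rw [Subgroup.map_commutator] at h1
  have h2 : A.map σ.toMonoidHom ≤ A := by
    rintro _ ⟨a, ha, rfl⟩
    exact (h.inv σ hσ a).2 ha
  exact Subgroup.commutator_mono h2 h2 h1

theorem WW_inv {σ : MulAut Q} (hσ : σ ∈ Γ) {k : Q} (hk : k ∈ WW A) : σ k ∈ WW A := by
  rw [mem_WW] at hk ⊢
  refine ⟨(h.inv σ hσ k).2 hk.1, fun c hc => ?_⟩
  have h1 := hk.2 _ (comm_inv h (Γ.inv_mem hσ) hc)
  have h2 := congrArg σ h1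
  rw [map_mul, map_mul, MulAut.apply_inv_self] at h2
  exact h2

/-- **T1 for `W = C_A(A') ≠ 1`** -/
theorem WW_spec [Finite Q] (hne : WW A ≠ ⊥) :
    (∀ a ∈ WW A, ∀ b ∈ WW A, a * b = b * a) ∧ (∃ s : ℕ, s.Prime ∧ ∀ a ∈ WW A, a ^ s = 1) ∧ ⁅A, A⁆ ≤ WW A ∧
      (∀ x, x ∉ A → WW A ⊓ cj x A = ⊥ ∧ Nat.card (WW A) * Nat.card (A ⊓ cj x A : Subgroup Q) = Nat.card A) := by
  obtain ⟨h1, h2, h3, h4, _⟩ := h.nilp (WW A) inf_le_left (fun σ hσ k hk => WW_inv h hσ hk) (WW_nilp A) hne
  refine ⟨h1, h2, ?_, h4⟩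
  intro c hc
  have hcA : c ∈ A := Subgroup.commutator_le_self A hc
  obtain ⟨a, ha, e⟩ := h3 (MulAut.conj c) ((h.conj c).2 hcA) (fun k hk => by
    rw [MulAut.conj_apply, (mem_WW.1 hk).2 c hc, mul_inv_cancel_right])
  have h5 : a⁻¹ * c ∈ A ⊓ Subgroup.center Q := by
    refine mem_inf.2 ⟨A.mul_mem (A.inv_mem (mem_WW.1 ha).1) hcA, ?_⟩
    rw [Subgroup.mem_center_iff]
    intro g
    have h6 := congrArg (fun τ : MulAut Q => τ g) e
    simp only [MulAut.conj_apply] at h6
    have h7 : c * g = a * g * a⁻¹ * c := by rw [← h6]; group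
    calc g * (a⁻¹ * c) = a⁻¹ * (a * g * a⁻¹ * c) := by group
      _ = a⁻¹ * c * g := by rw [← h7]; group
  rw [center_inf h, mem_bot, inv_mul_eq_one] at h5
  rw [← h5]
  exact ha

/-- `A'` is abelian as soon as some `1 ≠ x ∈ A` is centralised by it -/
theorem comm_abelian [Finite Q] {X : Subgroup Q} (hXA : X ≤ A) (hX : X ≠ ⊥)
    (hc : ∀ x ∈ X, ∀ c ∈ ⁅A, A⁆, c * x = x * c) : ∀ a ∈ ⁅A, A⁆, ∀ b ∈ ⁅A, A⁆, a * b = b * a := by
  have hne : WW A ≠ ⊥ := by
    intro e
    apply hX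
    rw [eq_bot_iff, ← e]
    exact fun x hx => mem_WW.2 ⟨hXA hx, hc x hx⟩
  obtain ⟨h1, -, h2, -⟩ := WW_spec h hne
  exact fun a ha b hb => h1 a (h2 ha) b (h2 hb)

/-- a perfect group has no homomorphism `≠ 1` to `A` in that case -/
theorem perfect_trivial [Finite Q] {X : Subgroup Q} (hXA : X ≤ A) (hX : X ≠ ⊥)
    (hc : ∀ x ∈ X, ∀ c ∈ ⁅A, A⁆, c * x = x * c) {P : Type*} [Group P] (hP : commutator P = ⊤) (f : P →* Q)
    (hf : ∀ p, f p ∈ A) (p : P) : f p = 1 := by
  have h1 := comm_abelian h hXA hX hc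
  have h2 : ∀ p : P, f p ∈ ⁅A, A⁆ := by
    intro p
    have h3 : p ∈ commutator P := by rw [hP]; exact mem_top _
    have h4 : commutator P ≤ (⁅A, A⁆ : Subgroup Q).comap f := by
      rw [commutator_def, Subgroup.commutator_le]
      intro a _ b _
      rw [mem_comap, map_commutatorElement]
      exact Subgroup.commutator_mem_commutator (hf a) (hf b)
    exact h4 h3
  have h3 : p ∈ commutator P := by rw [hP]; exact mem_top _
  have h4 : commutator P ≤ f.ker := by
    rw [commutator_def, Subgroup.commutator_le]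
    intro a _ b _
    rw [MonoidHom.mem_ker, map_commutatorElement, commutatorElement_eq_one_iff_mul_comm]
    exact h1 _ (h2 a) _ (h2 b)
  exact h4 h3

/-- `|A : X|` divides the prime `r`: `X = C_A(A')` and everything has known order. -/
theorem frob [Finite Q] {X : Subgroup Q} (hXA : X ≤ A) (hX : X ≠ ⊥)
    (hc : ∀ x ∈ X, ∀ c ∈ ⁅A, A⁆, c * x = x * c) {r : ℕ} (hr : r.Prime) (hi : X.relIndex A ∣ r) (hcyc : IsCyclic X) :
    (∃ s : ℕ, s.Prime ∧ Nat.card X = s) ∧ Nat.card A = r * Nat.card X ∧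
      (∀ x, x ∉ A → X ⊓ cj x A = ⊥ ∧ Nat.card (A ⊓ cj x A : Subgroup Q) = r) ∧
      (EPT.M0set A).ncard ≤ Nat.card X ∧ A.index ≤ Nat.card X ^ 2 := by
  have hXW : X ≤ WW A := fun x hx => mem_WW.2 ⟨hXA hx, hc x hx⟩
  have hWA : WW A ≤ A := inf_le_left
  have hne : WW A ≠ ⊥ := by
    intro e
    apply hX
    rw [eq_bot_iff, ← e]
    exact hXW
  obtain ⟨h1, ⟨s, hs, h2⟩, h3, h4⟩ := WW_spec h hne
  -- `W ≠ A`
  have hWne : WW A ≠ A := by
    intro e
    obtain ⟨x, hx⟩ := h.exists_notMem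
    have h5 := (h4 x hx).1
    rw [e] at h5
    exact h.M0 x hx h5
  have h5 : X.relIndex (WW A) * (WW A).relIndex A = X.relIndex A := Subgroup.relIndex_mul_relIndex _ _ _ hXW hWA
  have h6 : (WW A).relIndex A ≠ 1 := by
    intro e
    rw [Subgroup.relIndex_eq_one] at e
    exact hWne (le_antisymm hWA e)
  have h7 : (WW A).relIndex A = r := by
    have h8 : (WW A).relIndex A ∣ r := (Dvd.intro_left _ h5).trans hi
    exact ((Nat.dvd_prime hr).1 h8).resolve_left h6
  have h8 : X.relIndex (WW A) = 1 := by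
    have h9 : X.relIndex (WW A) * r ∣ r := by rw [← h7, h5, h7]; exact hi
    have h10 : X.relIndex (WW A) * r ≤ 1 * r := by rw [one_mul]; exact Nat.le_of_dvd hr.pos h9
    have h11 := Nat.le_of_mul_le_mul_right h10 hr.pos
    have h12 : X.relIndex (WW A) ≠ 0 := by
      intro e
      rw [e, zero_mul] at h9
      exact hr.ne_zero (Nat.eq_zero_of_zero_dvd h9)
    omega
  have hXWe : WW A = X := le_antisymm (Subgroup.relIndex_eq_one.1 h8) hXW
  rw [hXWe] at h1 h2 h3 h4 h7
  have hcardA : Nat.card A = r * Nat.card X := by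
    have h9 := Subgroup.relIndex_mul_relIndex ⊥ X A bot_le hXA
    rw [Subgroup.relIndex_bot_left, Subgroup.relIndex_bot_left, h7] at h9
    rw [← h9, mul_comm]
  have hpos : 0 < Nat.card X := Nat.card_pos
  -- `|X|` is prime
  have hXs : Nat.card X = s := by
    obtain ⟨g, hg⟩ := hcyc.exists_generator
    have h9 : orderOf g = Nat.card X := orderOf_eq_card_of_forall_mem_zpowers hg
    have h10 : orderOf g ∣ s := orderOf_dvd_of_pow_eq_one (Subtype.ext (h2 g g.2))
    rw [h9] at h10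
    rcases (Nat.dvd_prime hs).1 h10 with h11 | h11
    · exfalso
      exact hX (Subgroup.card_eq_one.1 h11)
    · exact h11
  have h9 : ∀ x, x ∉ A → X ⊓ cj x A = ⊥ ∧ Nat.card (A ⊓ cj x A : Subgroup Q) = r := by
    intro x hx
    obtain ⟨h10, h11⟩ := h4 x hx
    refine ⟨h10, ?_⟩
    rw [hcardA, mul_comm r] at h11
    exact Nat.eq_of_mul_eq_mul_left hpos h11
  -- the number of two point stabilisers
  have h10 : (EPT.M0set A).ncard ≤ Nat.card X := by
    obtain ⟨a, haA, haX⟩ : ∃ a ∈ A, a ∉ X := by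
      by_contra hcon
      push Not at hcon
      exact hWne (hXWe.trans (le_antisymm hXA hcon))
    have h11 : EPT.M0set A ⊆ (fun k : X => Subgroup.zpowers ((k : Q) * a)) '' Set.univ := by
      rintro _ ⟨x, hx, rfl⟩
      obtain ⟨k, hk, y, hy, e⟩ := h.fac_A hXA (fun σ hσ k hk => by
        rw [← hXWe] at hk ⊢
        exact WW_inv h hσ hk) hX hx haA
      refine ⟨⟨k⁻¹, X.inv_mem hk⟩, Set.mem_univ _, ?_⟩
      have e2 : k⁻¹ * a = y := by rw [e, inv_mul_cancel_left]
      show Subgroup.zpowers (k⁻¹ * a) = _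
      rw [e2]
      have hy1 : y ≠ 1 := by
        intro hy1
        rw [hy1, mul_one] at e
        exact haX (e ▸ hk)
      have h12 : Subgroup.zpowers y ≤ A ⊓ cj x A := by rwa [Subgroup.zpowers_le]
      apply Subgroup.eq_of_le_of_card_ge h12
      rw [(h9 x hx).2]
      have h13 : Nat.card (Subgroup.zpowers y) ∣ r := by
        rw [← (h9 x hx).2]
        exact Subgroup.card_dvd_of_le h12
      rcases (Nat.dvd_prime hr).1 h13 with h14 | h14
      · exfalso
        apply hy1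
        have h15 := Subgroup.card_eq_one.1 h14
        rwa [Subgroup.zpowers_eq_bot] at h15
      · exact h14.ge
    calc (EPT.M0set A).ncard ≤ ((fun k : X => Subgroup.zpowers ((k : Q) * a)) '' Set.univ).ncard :=
          Set.ncard_le_ncard h11 (Set.toFinite _)
      _ ≤ (Set.univ : Set X).ncard := Set.ncard_image_le (Set.toFinite _)
      _ = Nat.card X := Set.ncard_univ X
  refine ⟨⟨s, hs, hXs⟩, hcardA, h9, h10, ?_⟩
  exact h.index_le.trans (Nat.pow_le_pow_left h10 2)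

end Cfsg.Agent.H855.EP3
end

-- part: H855/EP3/Rho
section
/-!
# Field subalgebras: commutators of the normaliser, `SL_d(K)` inside the centraliser (helper855, S3499-III)
-/

set_option autoImplicit false
set_option linter.unusedSectionVars false

namespace Cfsg.Agent.H855.EP3

open Cfsg Cfsg.Geo Matrix
open Cfsg.Agent.H907 (KU mem_KU)
open scoped MatrixGroups commutatorElement

section K

variable {ι : Type} [Fintype ι] [DecidableEq ι] {F : Type*} [Field F] {r : ℕ} {K : Subalgebra F (Matrix ι ι F)}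

theorem KU_le (hK : IsFieldSubalgebra r K) [Finite F] : KU hK ≤ subalgebraNormalizer K := by
  intro g hg
  apply H954.FieldSub.mem_normalizer_of
  intro k hk
  exact K.mul_mem (K.mul_mem hg hk) (mem_KU.1 ((KU hK).inv_mem hg))

theorem conj_KU (hK : IsFieldSubalgebra r K) {g u : GL ι F} (hg : g ∈ subalgebraNormalizer K) (hu : u ∈ KU hK) :
    g * u * g⁻¹ ∈ KU hK := by
  rw [mem_KU, Units.val_mul, Units.val_mul]
  exact (hg _).1 hu

theorem conj_conj [Finite F] [Nonempty ι] (hK : IsFieldSubalgebra r K) {g h u : GL ι F}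
    (hg : g ∈ subalgebraNormalizer K) (hh : h ∈ subalgebraNormalizer K) (hu : u ∈ KU hK) :
    g * (h * u * h⁻¹) * g⁻¹ = h * (g * u * g⁻¹) * h⁻¹ := by
  have hN : H912.NormAlg (subalgebraNormalizer K) K := fun _ hh a ha => (hh a).mp ha
  let _ : Field K := (H912.isField_of_fieldSub hK).toField
  have hfin : Finite K := Module.finite_of_finite F
  let σ : K ≃ₐ[F] K := H912.conjSub hN ⟨g, hg⟩
  let τ : K ≃ₐ[F] K := H912.conjSub hN ⟨h, hh⟩
  have hc : σ * τ = τ * σ := by
    obtain ⟨f, hf⟩ := IsCyclic.exists_generator (α := K ≃ₐ[F] K)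
    obtain ⟨a, ha⟩ := hf σ
    obtain ⟨b, hb⟩ := hf τ
    rw [← ha, ← hb]
    exact (Commute.refl f).zpow_zpow a b
  have h1 := congrArg (fun f : K ≃ₐ[F] K => ((f ⟨u, hu⟩ : K) : Matrix ι ι F)) hc
  apply Units.ext
  rw [Units.val_mul, Units.val_mul, Units.val_mul, Units.val_mul, Units.val_mul, Units.val_mul, Units.val_mul,
    Units.val_mul]
  exact h1

theorem comm_KU [Finite F] [Nonempty ι] (hK : IsFieldSubalgebra r K) {g h u : GL ι F}
    (hg : g ∈ subalgebraNormalizer K) (hh : h ∈ subalgebraNormalizer K) (hu : u ∈ KU hK) :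
    ⁅g, h⁆ * u = u * ⁅g, h⁆ := by
  have h1 := conj_KU hK (Subgroup.inv_mem _ hh) hu
  rw [inv_inv] at h1
  have h2 := conj_conj hK hh (Subgroup.inv_mem _ hg) h1
  rw [inv_inv] at h2
  have e1 : h * (h⁻¹ * u * h) * h⁻¹ = u := by group
  rw [e1] at h2
  have h3 : ⁅g, h⁆ * u * ⁅g, h⁆⁻¹ = u := by
    calc ⁅g, h⁆ * u * ⁅g, h⁆⁻¹ = g * (h * (g⁻¹ * (h⁻¹ * u * h) * g) * h⁻¹) * g⁻¹ := by
          rw [commutatorElement_def]; group
      _ = u := by rw [h2]; group
  rw [mul_inv_eq_iff_eq_mul] at h3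
  exact h3

/-- `K* ∩ SL` is not scalar -/
theorem exists_KU [Fintype F] [Nonempty ι] (hK : IsFieldSubalgebra r K) (hr : 2 ≤ r) :
    ∃ u ∈ KU hK, u ∈ specialLinear ι F ∧ u ∉ scalars ι F := by
  classical
  by_contra hcon
  push Not at hcon
  let f : KU hK →* Fˣ := Matrix.GeneralLinearGroup.det.comp (KU hK).subtype
  have h1 : Nat.card f.ker * Nat.card f.range = Nat.card (KU hK) := by
    rw [← Subgroup.index_ker f, Subgroup.card_mul_index]
  have hF : Nat.card Fˣ = Fintype.card F - 1 := by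
    rw [Nat.card_eq_fintype_card, Fintype.card_units]
  have h2 : Nat.card f.range ≤ Fintype.card F - 1 := by
    rw [← hF]
    exact Nat.card_le_card_of_injective _ (Subgroup.subtype_injective f.range)
  have h3 : Nat.card f.ker ≤ Fintype.card F - 1 := by
    have h4 : Nat.card (scalars ι F) ≤ Fintype.card F - 1 := by
      rw [← hF]
      exact Nat.card_le_card_of_surjective _ (MonoidHom.rangeRestrict_surjective _)
    refine le_trans ?_ h4
    let j : f.ker → scalars ι F := fun u => ⟨((u : KU hK) : GL ι F), hcon _ (u : KU hK).2 (by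
      have h5 := u.2
      rw [MonoidHom.mem_ker] at h5
      exact h5)⟩
    refine Nat.card_le_card_of_injective j ?_
    intro a b hab
    exact Subtype.ext (Subtype.ext (congrArg (fun z : scalars ι F => (z : GL ι F)) hab))
  rw [H907.card_KU hK] at h1
  have hq : 2 ≤ Fintype.card F := Fintype.one_lt_card
  have h5 : Fintype.card F ^ r - 1 ≤ (Fintype.card F - 1) * (Fintype.card F - 1) := by
    rw [← h1]
    exact Nat.mul_le_mul h3 h2
  have h6 : Fintype.card F ^ 2 ≤ Fintype.card F ^ r := Nat.pow_le_pow_right (by omega) hr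
  obtain ⟨q, hq'⟩ : ∃ q, Fintype.card F = q + 2 := ⟨Fintype.card F - 2, by omega⟩
  rw [hq'] at h5 h6
  have h7 : (q + 2) ^ 2 = (q + 1) * (q + 1) + 2 * q + 3 := by ring
  have h8 : q + 2 - 1 = q + 1 := by omega
  rw [h8] at h5
  omega

end K

section rho

universe u

variable {ι : Type} [Fintype ι] [DecidableEq ι] {F : Type u} [Field F] {r : ℕ} {K : Subalgebra F (Matrix ι ι F)}

theorem perf {L : Type u} [Field L] [Fintype L] (h4 : 4 ≤ Fintype.card L) {d : ℕ} (hd : 2 ≤ d) :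
    commutator (_root_.Matrix.SpecialLinearGroup (Fin d) L) = ⊤ := by
  rcases hd.lt_or_eq with hd | rfl
  · exact LieClassical.SLGen.commutator_eq_top (by rw [Fintype.card_fin]; exact hd)
  · have : ∃ a : L, a ≠ 0 ∧ a ^ 2 ≠ 1 := by
      classical
      by_contra hcon
      push Not at hcon
      have h1 : (Finset.univ : Finset L) ⊆ {0, 1, -1} := by
        intro a _
        rw [Finset.mem_insert, Finset.mem_insert, Finset.mem_singleton]
        by_cases ha : a = 0
        · exact Or.inl ha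
        · right
          have h5 := hcon a ha
          rw [sq] at h5
          exact mul_self_eq_one_iff.1 h5
      have h2 := Finset.card_le_card h1
      rw [Finset.card_univ] at h2
      have h3 : ({0, 1, -1} : Finset L).card ≤ 3 := Finset.card_le_three
      omega
    obtain ⟨a, ha, ha2⟩ := this
    exact SL2.commutator_eq_top ha ha2

/-- `SL_d(K)` in the centraliser of `K`, `d = n / r ≥ 2` -/
theorem exists_rho [Finite F] [Nonempty ι] (hK : IsFieldSubalgebra r K) (hr : 2 ≤ r) (hlt : r < Fintype.card ι) :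
    ∃ (d : ℕ) (L : Type u) (_ : Field L), commutator (_root_.Matrix.SpecialLinearGroup (Fin d) L) = ⊤ ∧
      ∃ ρ : _root_.Matrix.SpecialLinearGroup (Fin d) L →* GL ι F, (∀ T, ρ T ∈ specialLinear ι F) ∧
        (∀ T, ∀ k ∈ K, (ρ T : Matrix ι ι F) * k = k * (ρ T : Matrix ι ι F)) ∧ ∃ T, ρ T ∉ scalars ι F := by
  classical
  obtain ⟨L, _, _, φ, hφ, hrk⟩ := H954.FieldSub.exists_field hK
  have hfd : Module.Finite F L := Module.finite_of_finrank_pos (by omega)
  have hLfin : Finite L := Module.finite_of_finite F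
  have := Fintype.ofFinite L
  have := Fintype.ofFinite F
  let ψ : L →ₐ[F] Module.End F (ι → F) := (Matrix.toLinAlgEquiv' (R := F) (n := ι)).toAlgHom.comp φ
  have h1 := H954.FieldSub.finrank_VS ψ
  rw [hrk, Module.finrank_fintype_fun_eq_card] at h1
  set d := Module.finrank L (H954.FieldSub.VS ψ) with hd
  have hd2 : 2 ≤ d := by
    by_contra hcon
    have : d ≤ 1 := by omega
    have : r * d ≤ r * 1 := Nat.mul_le_mul_left _ this
    omega
  let B : Module.Basis (Fin d) L (H954.FieldSub.VS ψ) := Module.finBasis L (H954.FieldSub.VS ψ)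
  have hcardL : 4 ≤ Fintype.card L := by
    have h2 : Fintype.card L = Fintype.card F ^ r := by
      rw [Module.card_eq_pow_finrank (K := F) (V := L), hrk]
    have hq : 2 ≤ Fintype.card F := Fintype.one_lt_card
    rw [h2]
    calc 4 = 2 ^ 2 := rfl
      _ ≤ Fintype.card F ^ 2 := Nat.pow_le_pow_left hq 2
      _ ≤ Fintype.card F ^ r := Nat.pow_le_pow_right (by omega) hr
  -- the homomorphism
  let e : _root_.Matrix.SpecialLinearGroup (Fin d) L → ((ι → F) →ₗ[F] (ι → F)) := fun T =>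
    ((Matrix.toLin B B T.1).restrictScalars F : H954.FieldSub.VS ψ →ₗ[F] H954.FieldSub.VS ψ)
  have he1 : e 1 = LinearMap.id := by
    show ((Matrix.toLin B B (1 : Matrix (Fin d) (Fin d) L)).restrictScalars F :
      H954.FieldSub.VS ψ →ₗ[F] H954.FieldSub.VS ψ) = LinearMap.id
    rw [Matrix.toLin_one]
    rfl
  have hem : ∀ S T, e (S * T) = e S ∘ₗ e T := by
    intro S T
    show ((Matrix.toLin B B (S.1 * T.1)).restrictScalars F : H954.FieldSub.VS ψ →ₗ[F] H954.FieldSub.VS ψ) = _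
    rw [Matrix.toLin_mul B B B]
    rfl
  have hed : ∀ T, LinearMap.det (e T) = 1 := by
    intro T
    show LinearMap.det ((Matrix.toLin B B T.1).restrictScalars F : H954.FieldSub.VS ψ →ₗ[F] H954.FieldSub.VS ψ) = 1
    rw [LinearMap.det_restrictScalars, LinearMap.det_toLin, T.2, map_one]
  let ρ0 : _root_.Matrix.SpecialLinearGroup (Fin d) L →* Matrix ι ι F :=
    { toFun := fun T => LinearMap.toMatrix' (e T)
      map_one' := by rw [he1, LinearMap.toMatrix'_id]
      map_mul' := fun S T => by rw [hem, LinearMap.toMatrix'_comp] }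
  let ρ : _root_.Matrix.SpecialLinearGroup (Fin d) L →* GL ι F := ρ0.toHomUnits
  have hρ : ∀ T, (ρ T : Matrix ι ι F) = LinearMap.toMatrix' (e T) := fun T => rfl
  have hlin : ∀ T, Matrix.toLin' (ρ T : Matrix ι ι F) = e T := by
    intro T
    rw [hρ, Matrix.toLin'_toMatrix']
  refine ⟨d, L, inferInstance, perf hcardL hd2, ρ, ?_, ?_, ?_⟩
  · intro T
    show Matrix.GeneralLinearGroup.det (ρ T) = 1
    apply Units.ext
    show (ρ T : Matrix ι ι F).det = 1
    rw [← LinearMap.det_toLin', hlin, hed]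
  · intro T k hk
    rw [← hφ] at hk
    obtain ⟨a, rfl⟩ := hk
    apply (Matrix.toLin' (R := F)).injective
    rw [Matrix.toLin'_mul, Matrix.toLin'_mul, hlin]
    apply LinearMap.ext
    intro v
    exact (Matrix.toLin B B T.1).map_smul a v
  · let i0 : Fin d := ⟨0, by omega⟩
    let i1 : Fin d := ⟨1, by omega⟩
    have h01 : i0 ≠ i1 := by
      intro h
      have := congrArg Fin.val h
      simp [i0, i1] at this
    refine ⟨⟨Matrix.transvection i0 i1 1, Matrix.det_transvection_of_ne _ _ h01 1⟩, ?_⟩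
    intro hs
    obtain ⟨c, hc⟩ := (mem_scalars_iff _).1 hs
    have h2 := (hlin _).symm.trans (congrArg (Matrix.toLin' (R := F)) hc)
    have h3 := congrArg (fun f : (ι → F) →ₗ[F] (ι → F) => f (B i1)) h2
    have h4 : e ⟨Matrix.transvection i0 i1 1, Matrix.det_transvection_of_ne _ _ h01 1⟩ (B i1) = B i1 + B i0 := by
      show Matrix.toLin B B (Matrix.transvection i0 i1 1) (B i1) = B i1 + B i0
      rw [Matrix.toLin_self]
      rw [Finset.sum_eq_add i0 i1 h01]
      · simp [Matrix.transvection, Matrix.single_apply, h01, add_comm]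
      · intro j _ hj
        simp [Matrix.transvection, Matrix.single_apply, hj.1, hj.2, hj.1.symm, Matrix.one_apply]
      · intro h; exact absurd (Finset.mem_univ _) h
      · intro h; exact absurd (Finset.mem_univ _) h
    have h5 : Matrix.toLin' ((c : F) • (1 : Matrix ι ι F)) (B i1) = ((c : F) • (B i1 : ι → F)) := by
      rw [map_smul, Matrix.toLin'_one]
      rfl
    have h6 : (B i1 + B i0 : H954.FieldSub.VS ψ) = (algebraMap F L c) • B i1 := by
      rw [← h4]
      refine h3.trans (h5.trans ?_)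
      rw [algebraMap_smul]
    have h7 := congrArg (fun v => B.repr v i0) h6
    have h8 : B.repr (B i1 + B i0) i0 = 1 := by
      rw [map_add, Finsupp.add_apply, B.repr_self, B.repr_self, Finsupp.single_apply, Finsupp.single_apply,
        if_neg h01.symm, if_pos rfl, zero_add]
    have h9 : B.repr ((algebraMap F L c) • B i1) i0 = 0 := by
      rw [map_smul, Finsupp.smul_apply, B.repr_self, Finsupp.single_apply, if_neg h01.symm, smul_zero]
    exact one_ne_zero (h8.symm.trans (h7.trans h9))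

end rho

end Cfsg.Agent.H855.EP3
end

-- part: H855/EP3/C3
section
/-!
# Extremely primitive groups: `SL_n(q)`, class C3 (helper855, task 6042 of S3499)
-/

set_option autoImplicit false
set_option linter.unusedSectionVars false

namespace Cfsg.Agent.H855.EP3

open Subgroup Cfsg Cfsg.Geo Matrix Cfsg.Agent.H284 Cfsg.Agent.H419.EP
open Cfsg.Agent.H907 (KU mem_KU)
open scoped MatrixGroups commutatorElement

section gen

variable {Q : Type*} [Group Q] {A : Subgroup Q} {Γ : Subgroup (MulAut Q)}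
  {F : Type*} [Field F] [Fintype F] {n : ℕ} (m : Model Q (specialLinear (Fin n) F))
  {r : ℕ} {K : Subalgebra F (Matrix (Fin n) (Fin n) F)} (hK : IsFieldSubalgebra r K)

/-- the image of `K* ∩ SL` -/
def XX : Subgroup Q := Hat.im m (KU hK ⊓ specialLinear (Fin n) F)

theorem mem_XX {x : Q} : x ∈ XX m hK ↔ ∃ s : specialLinear (Fin n) F, (s : GL (Fin n) F) ∈ KU hK ∧ m.π s = x := by
  constructor
  · rintro ⟨s, hs, e⟩
    exact ⟨s, (mem_inf.1 hs).1, e⟩
  · rintro ⟨s, hs, e⟩
    exact ⟨s, mem_inf.2 ⟨hs, s.2⟩, e⟩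

theorem XX_ne [Nonempty (Fin n)] (hr : 2 ≤ r) : XX m hK ≠ ⊥ := by
  obtain ⟨u, hu, hus, hun⟩ := exists_KU hK hr
  intro e
  have h1 : m.π ⟨u, hus⟩ ∈ XX m hK := (mem_XX m hK).2 ⟨⟨u, hus⟩, hu, rfl⟩
  rw [e, mem_bot, m.ker] at h1
  exact hun h1

theorem XX_comm {x y : Q} (hx : x ∈ XX m hK) (hy : y ∈ XX m hK) : x * y = y * x := by
  obtain ⟨s, hs, rfl⟩ := (mem_XX m hK).1 hx
  obtain ⟨t, ht, rfl⟩ := (mem_XX m hK).1 hy
  rw [← map_mul, ← map_mul]
  congr 1
  apply Subtype.ext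
  apply Units.ext
  exact hK.comm _ hs _ ht

include hK in
theorem hat_eq [Finite Q] (h : EPT A Γ) (hs : IsSimpleGroup Q) [Nonempty (Fin n)] (hr : 2 ≤ r)
    (hA : m.hat A ≤ subalgebraNormalizer K) :
    m.hat A = subalgebraNormalizer K ⊓ specialLinear (Fin n) F := by
  rcases (m.isMaximalIn h.max).2 (subalgebraNormalizer K ⊓ specialLinear (Fin n) F) (le_inf hA (m.hat_le A))
    inf_le_right with e | e
  · exact e.symm
  · exfalso
    have hle : specialLinear (Fin n) F ≤ subalgebraNormalizer K := inf_eq_right.1 e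
    have hnorm : (XX m hK).Normal := by
      refine ⟨fun x hx g => ?_⟩
      obtain ⟨s, hs, rfl⟩ := (mem_XX m hK).1 hx
      obtain ⟨t, rfl⟩ := m.surj g
      refine (mem_XX m hK).2 ⟨t * s * t⁻¹, conj_KU hK (hle t.2) hs, ?_⟩
      rw [map_mul, map_mul, map_inv]
    rcases hnorm.eq_bot_or_eq_top with h1 | h1
    · exact XX_ne m hK hr h1
    · have h2 : A ≤ center Q := by
        intro a _
        rw [mem_center_iff]
        intro g
        exact XX_comm m hK (by rw [h1]; exact mem_top _) (by rw [h1]; exact mem_top _)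
      have h3 := center_inf h
      rw [inf_eq_left.2 h2] at h3
      exact h.ne h3

variable (hA : m.hat A = subalgebraNormalizer K ⊓ specialLinear (Fin n) F)

include hA

theorem XX_le : XX m hK ≤ A := by
  intro x hx
  obtain ⟨s, hs, rfl⟩ := (mem_XX m hK).1 hx
  rw [← m.mem_hat_iff, hA]
  exact mem_inf.2 ⟨KU_le hK hs, s.2⟩

theorem XX_comm_comm [Nonempty (Fin n)] : ∀ x ∈ XX m hK, ∀ c ∈ ⁅A, A⁆, c * x = x * c := by
  intro x hx c hc
  obtain ⟨u, hu, rfl⟩ := (mem_XX m hK).1 hx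
  have h1 : ⁅A, A⁆ ≤ centralizer {m.π u} := by
    rw [commutator_le]
    intro a ha b hb
    obtain ⟨s, rfl⟩ := m.surj a
    obtain ⟨t, rfl⟩ := m.surj b
    rw [← m.mem_hat_iff, hA] at ha hb
    rw [mem_centralizer_singleton_iff, ← map_commutatorElement, ← map_mul, ← map_mul]
    congr 1
    apply Subtype.ext
    exact (comm_KU hK (mem_inf.1 ha).1 (mem_inf.1 hb).1 hu)
  exact mem_centralizer_singleton_iff.1 (h1 hc)

end gen

/-- `r < n` -/
theorem c3_lt {Q : Type*} [Group Q] [Finite Q] (hs : IsSimpleGroup Q) {A : Subgroup Q} {Γ : Subgroup (MulAut Q)}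
    (h : EPT A Γ) {F : Type*} [Field F] [Fintype F] {n : ℕ} (m : Model Q (specialLinear (Fin n) F))
    {r : ℕ} (hr : 2 ≤ r) (hlt : r < n) {K : Subalgebra F (Matrix (Fin n) (Fin n) F)} (hK : IsFieldSubalgebra r K)
    (hA : m.hat A ≤ subalgebraNormalizer K) : False := by
  have hne : Nonempty (Fin n) := ⟨⟨0, by omega⟩⟩
  have hA' := hat_eq m hK h hs hr hA
  obtain ⟨d, L, _, hperf, ρ, h1, h2, T, hT⟩ := exists_rho hK hr (by rw [Fintype.card_fin]; exact hlt)
  let f : _root_.Matrix.SpecialLinearGroup (Fin d) L →* Q := m.π.comp (ρ.codRestrict (specialLinear (Fin n) F) h1)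
  have hf : ∀ p, f p ∈ A := by
    intro p
    show m.π ⟨ρ p, h1 p⟩ ∈ A
    rw [← m.mem_hat_iff, hA']
    refine mem_inf.2 ⟨H954.FieldSub.mem_normalizer_of fun k hk => ?_, h1 p⟩
    show (ρ p : Matrix (Fin n) (Fin n) F) * k * (((ρ p)⁻¹ : GL (Fin n) F) : Matrix (Fin n) (Fin n) F) ∈ K
    rw [h2 p k hk, mul_assoc, ← Units.val_mul, mul_inv_cancel, Units.val_one, mul_one]
    exact hk
  have h3 := perfect_trivial h (XX_le m hK hA') (XX_ne m hK hr) (XX_comm_comm m hK hA') hperf f hf T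
  exact hT ((m.ker ⟨ρ T, h1 T⟩).1 h3)

section full

variable {Q : Type*} [Group Q] [Finite Q] {A : Subgroup Q} {Γ : Subgroup (MulAut Q)}
  {F : Type*} [Field F] [Fintype F] {n : ℕ} (m : Model Q (specialLinear (Fin n) F))
  {K : Subalgebra F (Matrix (Fin n) (Fin n) F)} (hK : IsFieldSubalgebra n K)

theorem scal_le_KU {ι : Type} [Fintype ι] [DecidableEq ι] {F : Type*} [Field F] {r : ℕ}
    {K : Subalgebra F (Matrix ι ι F)} (hK : IsFieldSubalgebra r K) : scalars ι F ≤ KU hK := by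
  intro z hz
  obtain ⟨c, hc⟩ := (mem_scalars_iff z).1 hz
  rw [mem_KU, hc]
  exact K.smul_mem K.one_mem _

theorem mem_KU_of_comm (hn : n.Prime) {g : GL (Fin n) F} (hg : ∀ k ∈ K, (g : Matrix (Fin n) (Fin n) F) * k = k * g) :
    g ∈ KU hK := by
  have hne : Nonempty (Fin n) := ⟨⟨0, hn.pos⟩⟩
  obtain ⟨u, hu, -, hun⟩ := exists_KU hK hn.two_le
  refine H907.mem_of_commute hn (Fintype.card_fin n) K hK.comm ?_ ?_ hg
  · intro x hx h0
    obtain ⟨y, -, hxy⟩ := hK.inv x hx h0
    exact ⟨⟨x, y, hxy, mul_eq_one_comm.1 hxy⟩, rfl⟩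
  · refine ⟨u, hu, ?_⟩
    rintro ⟨c, hc⟩
    apply hun
    rw [mem_scalars_iff]
    have hc0 : c ≠ 0 := by
      rintro rfl
      rw [zero_smul] at hc
      exact u.ne_zero hc
    exact ⟨Units.mk0 c hc0, hc⟩

theorem relIndex_dvd (hn : n.Prime) (hA : m.hat A = subalgebraNormalizer K ⊓ specialLinear (Fin n) F) :
    (XX m hK).relIndex A ∣ n := by
  have hne : Nonempty (Fin n) := ⟨⟨0, hn.pos⟩⟩
  have h1 : m.hat (XX m hK) = KU hK ⊓ specialLinear (Fin n) F :=
    m.hat_map _ inf_le_right (le_inf (inf_le_left.trans (scal_le_KU hK)) inf_le_right)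
  have h2 := Hat.relIndex_hat (A := XX m hK) m (m.hat_le A)
  have h3 : Hat.im m (m.hat A) = A := m.map_hat A
  rw [h3, h1, hA] at h2
  rw [← h2]
  set H := subalgebraNormalizer K ⊓ specialLinear (Fin n) F with hH
  have hN : H912.NormAlg H K := fun _ hh a ha => ((mem_inf.1 hh).1 a).mp ha
  let _ : Field K := (H912.isField_of_fieldSub hK).toField
  have hfin : Finite K := Module.finite_of_finite F
  have hfd : Module.Finite F K := inferInstance
  have hgal : IsGalois F K := inferInstance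
  let θ : H →* (K ≃ₐ[F] K) :=
    { toFun := fun g => H912.conjSub hN g
      map_one' := by
        apply AlgEquiv.ext
        intro x
        apply Subtype.ext
        rw [H912.conjSub_coe]
        simp only [_root_.OneMemClass.coe_one, _root_.Units.val_one, _root_.one_mul, _root_.inv_one, _root_.mul_one, _root_.AlgEquiv.one_apply]
      map_mul' := by
        intro a b
        apply AlgEquiv.ext
        intro x
        apply Subtype.ext
        rw [AlgEquiv.mul_apply, H912.conjSub_coe, H912.conjSub_coe, H912.conjSub_coe]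
        rw [Subgroup.coe_mul, _root_.mul_inv_rev, Units.val_mul, Units.val_mul]
        simp only [Matrix.mul_assoc] }
  have h4 : θ.ker = (KU hK ⊓ specialLinear (Fin n) F).subgroupOf H := by
    ext g
    rw [MonoidHom.mem_ker, mem_subgroupOf]
    constructor
    · intro hg
      refine mem_inf.2 ⟨mem_KU_of_comm hK hn fun k hk => ?_, (mem_inf.1 g.2).2⟩
      have h5 := congrArg (fun f : K ≃ₐ[F] K => ((f ⟨k, hk⟩ : K) : Matrix (Fin n) (Fin n) F)) hg
      have h6 : ((g : GL (Fin n) F) : Matrix (Fin n) (Fin n) F) * k *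
        (((g : GL (Fin n) F)⁻¹ : GL (Fin n) F) : Matrix (Fin n) (Fin n) F) = k := h5
      calc ((g : GL (Fin n) F) : Matrix (Fin n) (Fin n) F) * k
          = (((g : GL (Fin n) F) : Matrix (Fin n) (Fin n) F) * k *
            (((g : GL (Fin n) F)⁻¹ : GL (Fin n) F) : Matrix (Fin n) (Fin n) F)) *
              ((g : GL (Fin n) F) : Matrix (Fin n) (Fin n) F) := by
            rw [mul_assoc _ _ ((g : GL (Fin n) F) : Matrix (Fin n) (Fin n) F), ← Units.val_mul, inv_mul_cancel,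
              Units.val_one, mul_one]
        _ = k * ((g : GL (Fin n) F) : Matrix (Fin n) (Fin n) F) := by rw [h6]
    · intro hg
      apply AlgEquiv.ext
      intro x
      apply Subtype.ext
      show ((g : GL (Fin n) F) : Matrix (Fin n) (Fin n) F) * x *
        (((g : GL (Fin n) F)⁻¹ : GL (Fin n) F) : Matrix (Fin n) (Fin n) F) = x
      rw [hK.comm _ (mem_KU.1 (mem_inf.1 hg).1) _ x.2, mul_assoc, ← Units.val_mul, mul_inv_cancel, Units.val_one,
        mul_one]
  rw [Subgroup.relIndex, ← h4, Subgroup.index_ker]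
  have h5 : Nat.card (K ≃ₐ[F] K) = n := by
    rw [IsGalois.card_aut_eq_finrank, hK.finrank_eq]
  have h6 := Subgroup.card_subgroup_dvd_card θ.range
  rwa [h5] at h6

theorem XX_cyclic [Nonempty (Fin n)] : IsCyclic (XX m hK) := by
  have h0 : IsCyclic (KU hK) := H907.isCyclic_KU hK
  have h1 : IsCyclic (KU hK ⊓ specialLinear (Fin n) F : Subgroup (GL (Fin n) F)) :=
    isCyclic_of_injective (Subgroup.inclusion inf_le_left) (Subgroup.inclusion_injective _)
  let j : (KU hK ⊓ specialLinear (Fin n) F : Subgroup (GL (Fin n) F)) →* XX m hK :=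
    { toFun := fun u => ⟨m.π ⟨u, (mem_inf.1 u.2).2⟩, (mem_XX m hK).2 ⟨_, (mem_inf.1 u.2).1, rfl⟩⟩
      map_one' := Subtype.ext (map_one m.π)
      map_mul' := fun a b => Subtype.ext ((map_mul m.π ⟨(a : GL (Fin n) F), (mem_inf.1 a.2).2⟩
        ⟨(b : GL (Fin n) F), (mem_inf.1 b.2).2⟩ :)) }
  apply isCyclic_of_surjective j
  rintro ⟨x, hx⟩
  obtain ⟨s, hs, rfl⟩ := (mem_XX m hK).1 hx
  exact ⟨⟨s, mem_inf.2 ⟨hs, s.2⟩⟩, rfl⟩

/-- `|K* ∩ SL|` divides `(q^n - 1) / (q - 1)` -/
theorem card_KU_SL [Nonempty (Fin n)] : Nat.card (KU hK ⊓ specialLinear (Fin n) F : Subgroup (GL (Fin n) F)) ∣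
    (Fintype.card F ^ n - 1) / (Fintype.card F - 1) := by
  have h0 : IsCyclic (KU hK) := H907.isCyclic_KU hK
  have h1 : IsCyclic (KU hK ⊓ specialLinear (Fin n) F : Subgroup (GL (Fin n) F)) :=
    isCyclic_of_injective (Subgroup.inclusion inf_le_left) (Subgroup.inclusion_injective _)
  obtain ⟨g, hg⟩ := h1.exists_generator
  rw [← orderOf_eq_card_of_forall_mem_zpowers hg]
  apply orderOf_dvd_of_pow_eq_one
  apply Subtype.ext
  apply Units.ext
  have h2 : IsFieldSubalgebra (Fintype.card (Fin n)) K := by rw [Fintype.card_fin]; exact hK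
  have h3 := H907.pow_eq_det h2 (mem_KU.1 (mem_inf.1 g.2).1)
  rw [Fintype.card_fin] at h3
  have h4 : (((g : GL (Fin n) F) : Matrix (Fin n) (Fin n) F)).det = 1 := by
    have h5 : Matrix.GeneralLinearGroup.det (g : GL (Fin n) F) = 1 := (mem_inf.1 g.2).2
    exact congrArg Units.val h5
  rw [h4, one_smul] at h3
  rw [Subgroup.coe_pow, Units.val_pow_eq_pow_val, h3]
  rfl

/-- `|X| |Z| = |K* ∩ SL|`, `|Q| |Z| = |SL|` -/
theorem card_XX : Nat.card (m.hat (⊥ : Subgroup Q)) * Nat.card (XX m hK) =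
    Nat.card (KU hK ⊓ specialLinear (Fin n) F : Subgroup (GL (Fin n) F)) := by
  have h1 := Hat.relIndex_hat (A := ⊥) m (C := KU hK ⊓ specialLinear (Fin n) F) inf_le_right
  rw [Subgroup.relIndex_bot_left] at h1
  have h2 : m.hat (⊥ : Subgroup Q) ≤ KU hK ⊓ specialLinear (Fin n) F := by
    intro g hg
    obtain ⟨hgS, h3⟩ := m.mem_hat.1 hg
    rw [mem_bot, m.ker] at h3
    exact mem_inf.2 ⟨scal_le_KU hK h3, hgS⟩
  have h3 := Subgroup.relIndex_mul_relIndex ⊥ (m.hat (⊥ : Subgroup Q)) _ bot_le h2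
  rw [Subgroup.relIndex_bot_left, Subgroup.relIndex_bot_left, h1] at h3
  exact h3

theorem card_Q : Nat.card (m.hat (⊥ : Subgroup Q)) * Nat.card Q = Nat.card (specialLinear (Fin n) F) := by
  have h1 := Hat.index_hat (A := ⊥) m
  rw [Subgroup.index_bot] at h1
  have h3 := Subgroup.relIndex_mul_relIndex ⊥ (m.hat (⊥ : Subgroup Q)) _ bot_le (m.hat_le _)
  rw [Subgroup.relIndex_bot_left, Subgroup.relIndex_bot_left, h1] at h3
  exact h3

theorem card_SL_ge : ∏ i : Fin n, (Fintype.card F ^ n - Fintype.card F ^ (i : ℕ)) ≤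
    Nat.card (specialLinear (Fin n) F) * (Fintype.card F - 1) := by
  classical
  rw [← Matrix.card_GL_field]
  have h1 : Nat.card (specialLinear (Fin n) F) *
      Nat.card (Matrix.GeneralLinearGroup.det : GL (Fin n) F →* Fˣ).range = Nat.card (GL (Fin n) F) := by
    show Nat.card (Matrix.GeneralLinearGroup.det : GL (Fin n) F →* Fˣ).ker * _ = _
    rw [← Subgroup.index_ker, Subgroup.card_mul_index]
  rw [← h1]
  apply Nat.mul_le_mul_left
  have hF : Nat.card Fˣ = Fintype.card F - 1 := by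
    rw [Nat.card_eq_fintype_card, Fintype.card_units]
  rw [← hF]
  exact Nat.card_le_card_of_injective _ (Subgroup.subtype_injective _)

end full

section num

theorem num_big {q n m0 N : ℕ} (hq : 2 ≤ q) (hn : 5 ≤ n) (hm : m0 * (q - 1) = q ^ n - 1)
    (h1 : ∏ i : Fin n, (q ^ n - q ^ (i : ℕ)) ≤ N * (q - 1)) (h2 : N ≤ n * m0 ^ 3) : False := by
  have h3 : (q ^ (n - 1)) ^ n ≤ ∏ i : Fin n, (q ^ n - q ^ (i : ℕ)) := by
    calc (q ^ (n - 1)) ^ n = ∏ _i : Fin n, q ^ (n - 1) := by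
          rw [Finset.prod_const, Finset.card_univ, Fintype.card_fin]
      _ ≤ _ := by
          apply Finset.prod_le_prod' (fun i _ => ?_)
          have h4 : q ^ (i : ℕ) ≤ q ^ (n - 1) := Nat.pow_le_pow_right (by omega) (by omega)
          have h5 : q ^ n = q ^ (n - 1) * q := by
            rw [← pow_succ]; congr 1; omega
          have h6 : q ^ (n - 1) * 2 ≤ q ^ (n - 1) * q := Nat.mul_le_mul_left _ hq
          omega
  have h4 : (q ^ (n - 1)) ^ n ≤ n * m0 ^ 3 * (q - 1) := h3.trans (h1.trans (Nat.mul_le_mul_right _ h2))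
  have h5 : n * m0 ^ 3 * (q - 1) ≤ n * (m0 * (q - 1)) ^ 3 := by
    have h6 : 1 ≤ q - 1 := by omega
    have h7 : 1 ≤ (q - 1) ^ 2 := Nat.one_le_pow _ _ h6
    calc n * m0 ^ 3 * (q - 1) = n * m0 ^ 3 * (q - 1) * 1 := (mul_one _).symm
      _ ≤ n * m0 ^ 3 * (q - 1) * (q - 1) ^ 2 := Nat.mul_le_mul_left _ h7
      _ = n * (m0 * (q - 1)) ^ 3 := by ring
  rw [hm] at h5
  have h6 : (q ^ n - 1) ^ 3 ≤ (q ^ n) ^ 3 := Nat.pow_le_pow_left (Nat.sub_le _ _) 3
  have h7 : (q ^ (n - 1)) ^ n ≤ n * (q ^ n) ^ 3 := (h4.trans h5).trans (Nat.mul_le_mul_left _ h6)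
  have h8 : (q ^ (n - 1)) ^ n = q ^ (n * (n - 4)) * (q ^ n) ^ 3 := by
    rw [← pow_mul, ← pow_mul, ← pow_add]
    congr 1
    obtain ⟨k, rfl⟩ : ∃ k, n = k + 4 := ⟨n - 4, by omega⟩
    have e1 : k + 4 - 1 = k + 3 := by omega
    have e2 : k + 4 - 4 = k := by omega
    rw [e1, e2]; ring
  rw [h8] at h7
  have h9 : 0 < (q ^ n) ^ 3 := by positivity
  have h10 : q ^ (n * (n - 4)) ≤ n := Nat.le_of_mul_le_mul_right h7 h9
  have h11 : 2 ^ n ≤ q ^ (n * (n - 4)) := by
    calc 2 ^ n ≤ q ^ n := Nat.pow_le_pow_left hq n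
      _ ≤ q ^ (n * (n - 4)) := Nat.pow_le_pow_right (by omega) (Nat.le_mul_of_pos_right n (by omega))
  have h12 : n < 2 ^ n := Nat.lt_two_pow_self
  omega

theorem num_three {q m0 N : ℕ} (hq : 2 ≤ q) (hm : m0 * (q - 1) = q ^ 3 - 1)
    (h1 : ∏ i : Fin 3, (q ^ 3 - q ^ (i : ℕ)) ≤ N * (q - 1)) (h2 : N ≤ 3 * m0 ^ 3) : q ≤ 3 := by
  by_contra hcon
  obtain ⟨t, rfl⟩ : ∃ t, q = t + 4 := ⟨q - 4, by omega⟩
  rw [Fin.prod_univ_three] at h1
  have e0 : t + 4 - 1 = t + 3 := by omega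
  have e1 : (t + 4) ^ 3 - 1 = (t + 3) * (t ^ 2 + 9 * t + 21) := by
    have : (t + 4) ^ 3 = (t + 3) * (t ^ 2 + 9 * t + 21) + 1 := by ring
    omega
  have e2 : (t + 4) ^ 3 - (t + 4) ^ 1 = (t + 3) * (t + 4) * (t + 5) := by
    have : (t + 4) ^ 3 = (t + 3) * (t + 4) * (t + 5) + (t + 4) ^ 1 := by ring
    omega
  have e3 : (t + 4) ^ 3 - (t + 4) ^ 2 = (t + 3) * (t + 4) ^ 2 := by
    have : (t + 4) ^ 3 = (t + 3) * (t + 4) ^ 2 + (t + 4) ^ 2 := by ring
    omega
  have hm0 : m0 = t ^ 2 + 9 * t + 21 := by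
    rw [e0, e1, mul_comm m0] at hm
    exact Nat.eq_of_mul_eq_mul_left (by omega) hm
  have h3 : (t + 3) * (t ^ 2 + 9 * t + 21) * ((t + 3) * (t + 4) * (t + 5)) * ((t + 3) * (t + 4) ^ 2) ≤
      3 * (t ^ 2 + 9 * t + 21) ^ 3 * (t + 3) := by
    have h4 := h1.trans (Nat.mul_le_mul_right _ h2)
    rw [e0] at h4
    have e4 : (t + 4) ^ 3 - (t + 4) ^ ((0 : Fin 3) : ℕ) = (t + 3) * (t ^ 2 + 9 * t + 21) := by
      rw [← e1]; rfl
    have e5 : (t + 4) ^ 3 - (t + 4) ^ ((1 : Fin 3) : ℕ) = (t + 3) * (t + 4) * (t + 5) := e2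
    have e6 : (t + 4) ^ 3 - (t + 4) ^ ((2 : Fin 3) : ℕ) = (t + 3) * (t + 4) ^ 2 := e3
    rw [e4, e5, e6, hm0] at h4
    exact h4
  have h5 : 0 < (t ^ 2 + 9 * t + 21) * (t + 3) := by (clear * -; positivity)
  have h6 : (t + 3) ^ 2 * (t + 4) ^ 3 * (t + 5) ≤ 3 * (t ^ 2 + 9 * t + 21) ^ 2 := by
    apply Nat.le_of_mul_le_mul_right _ h5
    calc (t + 3) ^ 2 * (t + 4) ^ 3 * (t + 5) * ((t ^ 2 + 9 * t + 21) * (t + 3))
        = (t + 3) * (t ^ 2 + 9 * t + 21) * ((t + 3) * (t + 4) * (t + 5)) * ((t + 3) * (t + 4) ^ 2) := by ring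
      _ ≤ _ := h3
      _ = _ := by ring
  linarith only [h6, Nat.zero_le (t ^ 3), Nat.zero_le (t ^ 4), Nat.zero_le (t ^ 5), Nat.zero_le (t ^ 6), _root_.sq_nonneg (↑t : ℤ), _root_.Nat.cast_nonneg (α := ℤ) (t)]

end num

section full

variable {Q : Type*} [Group Q] [Finite Q] {A : Subgroup Q} {Γ : Subgroup (MulAut Q)}
  {F : Type*} [Field F] [Fintype F] {n : ℕ} (m : Model Q (specialLinear (Fin n) F))
  {K : Subalgebra F (Matrix (Fin n) (Fin n) F)} (hK : IsFieldSubalgebra n K)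

include hK in
theorem card_SL_le (h : EPT A Γ) (hn : n.Prime) (hA : m.hat A = subalgebraNormalizer K ⊓ specialLinear (Fin n) F) :
    Nat.card (specialLinear (Fin n) F) ≤ n * ((Fintype.card F ^ n - 1) / (Fintype.card F - 1)) ^ 3 := by
  have hne : Nonempty (Fin n) := ⟨⟨0, hn.pos⟩⟩
  obtain ⟨-, h1, -, -, h2⟩ := frob h (XX_le m hK hA) (XX_ne m hK hn.two_le) (XX_comm_comm m hK hA) hn
    (relIndex_dvd m hK hn hA) (XX_cyclic m hK)
  set x := Nat.card (XX m hK) with hx
  set z := Nat.card (m.hat (⊥ : Subgroup Q)) with hz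
  have hz1 : 1 ≤ z := Nat.card_pos
  have h3 : z * x ∣ (Fintype.card F ^ n - 1) / (Fintype.card F - 1) := by
    rw [hz, hx, card_XX m hK]
    exact card_KU_SL hK
  have hq : 2 ≤ Fintype.card F := Fintype.one_lt_card
  have hpos : 0 < (Fintype.card F ^ n - 1) / (Fintype.card F - 1) := by
    apply Nat.div_pos
    · have : Fintype.card F ^ 1 ≤ Fintype.card F ^ n := Nat.pow_le_pow_right (by omega) hn.pos
      rw [pow_one] at this
      omega
    · omega
  have h4 : z * x ≤ (Fintype.card F ^ n - 1) / (Fintype.card F - 1) := Nat.le_of_dvd hpos h3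
  rw [← card_Q m, ← hz]
  have h5 : Nat.card Q ≤ n * x * x ^ 2 := by
    rw [← A.card_mul_index, h1]
    exact Nat.mul_le_mul_left _ h2
  calc z * Nat.card Q ≤ z * (n * x * x ^ 2) := Nat.mul_le_mul_left _ h5
    _ ≤ z * (n * x * x ^ 2) * z ^ 2 := Nat.le_mul_of_pos_right _ (by positivity)
    _ = n * (z * x) ^ 3 := by ring
    _ ≤ _ := Nat.mul_le_mul_left _ (Nat.pow_le_pow_left h4 3)

include hK in
/-- `n = r`: only `(3, 2)` and `(3, 3)` -/
theorem c3_full_aux (h : EPT A Γ) (hn : n.Prime) (hn3 : 3 ≤ n)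
    (hA : m.hat A = subalgebraNormalizer K ⊓ specialLinear (Fin n) F) : n = 3 ∧ Fintype.card F ≤ 3 := by
  have hq : 2 ≤ Fintype.card F := Fintype.one_lt_card
  have h1 := card_SL_le m hK h hn hA
  have h2 := card_SL_ge (F := F) (n := n)
  have h3 : (Fintype.card F ^ n - 1) / (Fintype.card F - 1) * (Fintype.card F - 1) = Fintype.card F ^ n - 1 := by
    apply Nat.div_mul_cancel
    have := Nat.sub_dvd_pow_sub_pow (Fintype.card F) 1 n
    rwa [one_pow] at this
  rcases Nat.lt_or_ge n 5 with h5 | h5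
  · have h6 : n ≠ 4 := by
      rintro rfl
      exact absurd hn (by decide)
    have h7 : n = 3 := by omega
    subst h7
    exact ⟨rfl, num_three hq h3 h2 h1⟩
  · exact (num_big hq h5 h3 h2 h1).elim

end full

section cyc

variable {F : Type*} [Field F] [Fintype F] (hF : Fintype.card F = 3)
  {K : Subalgebra F (Matrix (Fin 3) (Fin 3) F)} (hK : IsFieldSubalgebra 3 K)

include hF hK in
theorem cyc {u : GL (Fin 3) F} (hu : u ∈ subalgebraNormalizer K) (huK : u ∉ KU hK) (hu3 : u ^ 3 = 1) :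
    ∃ v : Fin 3 → F, ∀ B : Matrix (Fin 3) (Fin 3) F, B * (u : Matrix (Fin 3) (Fin 3) F) = u * B → B *ᵥ v = 0 →
      B = 0 := by
  classical
  have hp : Fact (Nat.Prime 3) := ⟨Nat.prime_three⟩
  have hchar : CharP F 3 := charP_of_card_eq_prime hF
  have h3 : (3 : F) = 0 := by exact_mod_cast CharP.cast_eq_zero F 3
  set U : Matrix (Fin 3) (Fin 3) F := (u : Matrix (Fin 3) (Fin 3) F) with hU
  set N : Matrix (Fin 3) (Fin 3) F := U - 1 with hN
  have hU3 : U ^ 3 = 1 := by
    rw [hU, ← Units.val_pow_eq_pow_val, hu3, Units.val_one]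
  have hN3 : N ^ 3 = 0 := by
    rw [hN, sub_pow_char_of_commute _ (Commute.one_right U), hU3, one_pow, sub_self]
  -- `N ^ 2 ≠ 0`
  have hN2 : N ^ 2 ≠ 0 := by
    intro h0
    obtain ⟨k, hk, hne⟩ : ∃ k ∈ K, U * k ≠ k * U := by
      by_contra hcon
      push Not at hcon
      exact huK (mem_KU_of_comm hK Nat.prime_three hcon)
    set k' := U * k * ((u⁻¹ : GL (Fin 3) F) : Matrix (Fin 3) (Fin 3) F) with hk'
    set k'' := U * k' * ((u⁻¹ : GL (Fin 3) F) : Matrix (Fin 3) (Fin 3) F) with hk''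
    have huu : ((u⁻¹ : GL (Fin 3) F) : Matrix (Fin 3) (Fin 3) F) * U = 1 := by
      rw [hU, ← Units.val_mul, inv_mul_cancel, Units.val_one]
    have hk'K : k' ∈ K := (hu k).1 hk
    have hk''K : k'' ∈ K := (hu k').1 hk'K
    have e1 : k' * U = U * k := by rw [hk', mul_assoc, huu, mul_one]
    have e2 : k'' * U = U * k' := by rw [hk'', mul_assoc, huu, mul_one]
    have e3 : U * U = U + U - 1 := by
      have h5 : N ^ 2 = U * U - (U + U - 1) := by rw [hN, sq]; noncomm_ring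
      rw [h0] at h5
      exact (sub_eq_zero.1 h5.symm)
    have e4 : U * U * k = k'' * (U * U) := by
      rw [mul_assoc, ← e1, ← mul_assoc, ← e2, mul_assoc]
    rw [e3] at e4
    have e5 : U + U = - U := by
      have h6 : U + U + U = (3 : F) • U := by
        rw [show (3 : F) = 1 + 1 + 1 by norm_num, add_smul, add_smul, one_smul]
      rw [h3, zero_smul] at h6
      exact eq_neg_of_add_eq_zero_left h6
    have e6 : (k'' - k') * U = k - k'' := by
      have h7 : (U + U - 1) * k = k' * (U + U) - k := by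
        rw [sub_mul, add_mul, ← e1, mul_add, one_mul]
      have h8 : k'' * (U + U - 1) = k'' * (U + U) - k'' := by rw [mul_sub, mul_one]
      rw [h7, h8, e5] at e4
      have h9 : (k'' - k') * U = (k' * -U - k) - (k'' * -U - k'') + (k - k'') := by noncomm_ring
      rw [h9, e4]
      noncomm_ring
    have hne2 : k'' - k' ≠ 0 := by
      intro h7
      rw [sub_eq_zero] at h7
      apply hne
      have h8 : k' = k := by
        have h9 : U * k' = U * k := by rw [← e2, h7, e1]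
        have h10 := congrArg (fun M => ((u⁻¹ : GL (Fin 3) F) : Matrix (Fin 3) (Fin 3) F) * M) h9
        simp only [← mul_assoc, huu, one_mul] at h10
        exact h10
      rw [← e1, h8]
    obtain ⟨y, hy, hyk⟩ := hK.inv _ (K.sub_mem hk''K hk'K) hne2
    apply huK
    rw [mem_KU, ← hU]
    have h7 : U = y * (k - k'') := by
      rw [← e6, ← mul_assoc, hK.comm y hy _ (K.sub_mem hk''K hk'K), hyk, one_mul]
    rw [h7]
    exact K.mul_mem hy (K.sub_mem hk hk''K)
  obtain ⟨v, hv⟩ : ∃ v, N ^ 2 *ᵥ v ≠ 0 := by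
    by_contra hcon
    push Not at hcon
    apply hN2
    apply Matrix.ext_of_mulVec_single
    intro i
    rw [hcon, Matrix.zero_mulVec]
  refine ⟨v, fun B hB hBv => ?_⟩
  have hBN : B * N = N * B := by rw [hN, mul_sub, sub_mul, hB, mul_one, one_mul]
  have h4 : B *ᵥ (N *ᵥ v) = 0 := by rw [Matrix.mulVec_mulVec, hBN, ← Matrix.mulVec_mulVec, hBv, Matrix.mulVec_zero]
  have h5 : B *ᵥ (N ^ 2 *ᵥ v) = 0 := by
    rw [Matrix.mulVec_mulVec, sq, ← mul_assoc, hBN, mul_assoc, hBN, ← mul_assoc, ← Matrix.mulVec_mulVec, hBv,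
      Matrix.mulVec_zero]
  have e0 : N ^ 2 *ᵥ (N *ᵥ v) = 0 := by rw [Matrix.mulVec_mulVec, ← pow_succ, hN3, Matrix.zero_mulVec]
  have e1 : N *ᵥ (N ^ 2 *ᵥ v) = 0 := by rw [Matrix.mulVec_mulVec, ← pow_succ', hN3, Matrix.zero_mulVec]
  have e2 : N *ᵥ (N *ᵥ v) = N ^ 2 *ᵥ v := by rw [Matrix.mulVec_mulVec, sq]
  have hli : LinearIndependent F ![v, N *ᵥ v, N ^ 2 *ᵥ v] := by
    rw [Fintype.linearIndependent_iff]
    intro g hg
    rw [Fin.sum_univ_three] at hg
    have hg' : g 0 • v + g 1 • (N *ᵥ v) + g 2 • (N ^ 2 *ᵥ v) = 0 := hg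
    have h6 := congrArg (fun w => N ^ 2 *ᵥ w) hg'
    simp only [Matrix.mulVec_add, Matrix.mulVec_smul, Matrix.mulVec_zero] at h6
    have e3 : N ^ 2 *ᵥ (N ^ 2 *ᵥ v) = 0 := by
      rw [Matrix.mulVec_mulVec, ← pow_add, show 2 + 2 = 3 + 1 from rfl, pow_succ, hN3, zero_mul, Matrix.zero_mulVec]
    rw [e0, e3, smul_zero, smul_zero, add_zero, add_zero] at h6
    have g0 : g 0 = 0 := (smul_eq_zero.1 h6).resolve_right hv
    rw [g0, zero_smul, zero_add] at hg'
    have h7 := congrArg (fun w => N *ᵥ w) hg'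
    simp only [Matrix.mulVec_add, Matrix.mulVec_smul, Matrix.mulVec_zero] at h7
    rw [e1, e2, smul_zero, add_zero] at h7
    have g1 : g 1 = 0 := (smul_eq_zero.1 h7).resolve_right hv
    rw [g1, zero_smul, zero_add] at hg'
    have g2 : g 2 = 0 := (smul_eq_zero.1 hg').resolve_right hv
    intro i
    fin_cases i
    · exact g0
    · exact g1
    · exact g2
  let b := basisOfLinearIndependentOfCardEqFinrank hli (by
    rw [Fintype.card_fin, Module.finrank_fintype_fun_eq_card, Fintype.card_fin])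
  have h6 : Matrix.toLin' B = 0 := by
    apply b.ext
    intro i
    rw [coe_basisOfLinearIndependentOfCardEqFinrank, Matrix.toLin'_apply, LinearMap.zero_apply]
    fin_cases i
    · exact hBv
    · exact h4
    · exact h5
  exact (Matrix.toLin' (R := F)).injective (h6.trans (map_zero _).symm)

include hF hK in
/-- the centraliser in `SL_3(3)` of `u` has at most 13 elements -/
theorem cent_le {u : GL (Fin 3) F} (hu : u ∈ subalgebraNormalizer K) (huK : u ∉ KU hK) (hu3 : u ^ 3 = 1) :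
    Nat.card (Subgroup.centralizer {u} ⊓ specialLinear (Fin 3) F : Subgroup (GL (Fin 3) F)) ≤ 13 := by
  classical
  obtain ⟨v, hv⟩ := cyc hF hK hu huK hu3
  have hv0 : v ≠ 0 := by
    rintro rfl
    have := hv 1 (by rw [one_mul, mul_one]) (Matrix.mulVec_zero _)
    exact one_ne_zero this
  set CG : Subgroup (GL (Fin 3) F) := Subgroup.centralizer {u} with hCG
  have h1 : Nat.card CG ≤ 26 := by
    let j : CG → {w : Fin 3 → F // w ≠ 0} := fun g => ⟨((g : GL (Fin 3) F) : Matrix (Fin 3) (Fin 3) F) *ᵥ v, by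
      intro h2
      have h3 := congrArg (fun w => (((g : GL (Fin 3) F)⁻¹ : GL (Fin 3) F) : Matrix (Fin 3) (Fin 3) F) *ᵥ w) h2
      simp only [Matrix.mulVec_mulVec, Matrix.mulVec_zero] at h3
      rw [← Units.val_mul, inv_mul_cancel, Units.val_one, Matrix.one_mulVec] at h3
      exact hv0 h3⟩
    have hj : Function.Injective j := by
      intro g g' hgg
      apply Subtype.ext
      apply Units.ext
      rw [← sub_eq_zero]
      apply hv
      · have h2 := congrArg Units.val (mem_centralizer_singleton_iff.1 g.2)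
        have h3 := congrArg Units.val (mem_centralizer_singleton_iff.1 g'.2)
        rw [Units.val_mul, Units.val_mul] at h2 h3
        rw [sub_mul, mul_sub, h2, h3]
      · have h4 := congrArg Subtype.val hgg
        rw [Matrix.sub_mulVec]
        exact sub_eq_zero.2 h4
    have h2 := Nat.card_le_card_of_injective j hj
    have h3 : Nat.card {w : Fin 3 → F // w ≠ 0} = 26 := by
      rw [Nat.card_eq_fintype_card, Fintype.card_subtype_compl, Fintype.card_subtype_eq, Fintype.card_fun,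
        Fintype.card_fin, hF]
      norm_num
    omega
  have h2 : CG ⊓ specialLinear (Fin 3) F ≤ CG := inf_le_left
  have h3 := Subgroup.relIndex_mul_relIndex ⊥ _ _ bot_le h2
  rw [Subgroup.relIndex_bot_left, Subgroup.relIndex_bot_left] at h3
  have h4 : (CG ⊓ specialLinear (Fin 3) F).relIndex CG ≠ 1 := by
    intro h5
    rw [Subgroup.relIndex_eq_one] at h5
    have h6 : (-1 : GL (Fin 3) F) ∈ CG := by
      rw [hCG, mem_centralizer_singleton_iff, neg_one_mul, mul_neg_one]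
    have h7 := (mem_inf.1 (h5 h6)).2
    have h8 : Matrix.GeneralLinearGroup.det (-1 : GL (Fin 3) F) = 1 := h7
    have h9 := congrArg Units.val h8
    have h10 : ((Matrix.GeneralLinearGroup.det (-1 : GL (Fin 3) F) : Fˣ) : F) = -1 := by
      show (-1 : Matrix (Fin 3) (Fin 3) F).det = -1
      rw [Matrix.det_neg, Matrix.det_one, Fintype.card_fin]
      norm_num
    rw [h10, Units.val_one] at h9
    have hp : Fact (Nat.Prime 3) := ⟨Nat.prime_three⟩
    have hchar : CharP F 3 := charP_of_card_eq_prime hF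
    have h3' : (3 : F) = 0 := by exact_mod_cast CharP.cast_eq_zero F 3
    have h11 : (1 : F) = 0 := by
      have h12 : (3 : F) = 1 + 2 := by norm_num
      have h13 : (2 : F) = 0 := by
        have : (2 : F) = 1 - (-1) := by norm_num
        rw [this, h9, sub_self]
      rw [h13, add_zero] at h12
      rw [← h12, h3']
    exact one_ne_zero h11
  have h5 : (CG ⊓ specialLinear (Fin 3) F).relIndex CG ≠ 0 := by
    intro h6
    rw [h6, mul_zero] at h3
    exact (Nat.card_pos (α := CG)).ne h3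
  have h6 : 2 ≤ (CG ⊓ specialLinear (Fin 3) F).relIndex CG := by omega
  have h7 : Nat.card (CG ⊓ specialLinear (Fin 3) F : Subgroup (GL (Fin 3) F)) * 2 ≤ 26 :=
    (Nat.mul_le_mul_left _ h6).trans (h3.le.trans h1)
  omega

end cyc

/-- `L_3(3)` -/
theorem three_three {Q : Type*} [Group Q] [Finite Q] {A : Subgroup Q} {Γ : Subgroup (MulAut Q)} (h : EPT A Γ)
    {F : Type*} [Field F] [Fintype F] (hF : Fintype.card F = 3) (m : Model Q (specialLinear (Fin 3) F))
    {K : Subalgebra F (Matrix (Fin 3) (Fin 3) F)} (hK : IsFieldSubalgebra 3 K)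
    (hA : m.hat A = subalgebraNormalizer K ⊓ specialLinear (Fin 3) F) : False := by
  classical
  have hn := Nat.prime_three
  obtain ⟨⟨s, hs, hXs⟩, h1, h2, h3, -⟩ := frob h (XX_le m hK hA) (XX_ne m hK hn.two_le) (XX_comm_comm m hK hA) hn
    (relIndex_dvd m hK hn hA) (XX_cyclic m hK)
  have h4 := card_KU_SL (n := 3) hK
  rw [hF, ← card_XX m hK, hXs] at h4
  have e13 : (3 ^ 3 - 1) / (3 - 1) = 13 := rfl
  rw [e13] at h4
  have hs13 : s = 13 := ((Nat.dvd_prime (by norm_num : (13 : ℕ).Prime)).1 (Dvd.dvd.trans (Dvd.intro_left _ rfl) h4)).resolve_left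
    hs.one_lt.ne'
  subst hs13
  have hz : Nat.card (m.hat (⊥ : Subgroup Q)) = 1 := by
    have h5 := Nat.le_of_dvd (by norm_num) h4
    have h6 : 0 < Nat.card (m.hat (⊥ : Subgroup Q)) := Nat.card_pos
    omega
  have hinj : ∀ t : specialLinear (Fin 3) F, m.π t = 1 → t = 1 := by
    intro t ht
    have h5 : (t : GL (Fin 3) F) ∈ m.hat (⊥ : Subgroup Q) := (m.mem_hat_iff t).2 ht
    rw [Subgroup.card_eq_one.1 hz, mem_bot] at h5
    exact Subtype.ext h5
  rw [hXs] at h1 h3
  -- the index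
  have hidx : 144 ≤ A.index := by
    have h5 := card_SL_ge (F := F) (n := 3)
    rw [hF, Fin.prod_univ_three, ← card_Q m, hz, one_mul] at h5
    have h6 := A.card_mul_index
    rw [h1] at h6
    have h7 : (3 ^ 3 - 3 ^ ((0 : Fin 3) : ℕ)) * (3 ^ 3 - 3 ^ ((1 : Fin 3) : ℕ)) * (3 ^ 3 - 3 ^ ((2 : Fin 3) : ℕ)) = 11232 := rfl
    rw [h7] at h5
    omega
  have := Fintype.ofFinite Q
  -- the lines
  have key : ∀ M ∈ EPT.M0set A, EPT.nline A M ≤ 10 + 1 := by
    rintro _ ⟨x, hx, rfl⟩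
    obtain ⟨h5, h6⟩ := h2 x hx
    obtain ⟨⟨y, hy⟩, hy1⟩ : ∃ y : (A ⊓ cj x A : Subgroup Q), y ≠ 1 := by
      have : Nontrivial (A ⊓ cj x A : Subgroup Q) := by
        rw [← Finite.one_lt_card_iff_nontrivial, h6]
        norm_num
      exact exists_ne 1
    have hy3 : y ^ 3 = 1 := by
      have h7 : (⟨y, hy⟩ : (A ⊓ cj x A : Subgroup Q)) ^ Nat.card (A ⊓ cj x A : Subgroup Q) = 1 := pow_card_eq_one'
      rw [h6] at h7
      exact congrArg Subtype.val h7
    have hy1' : y ≠ 1 := fun e => hy1 (Subtype.ext e)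
    have hyA : y ∈ A := (mem_inf.1 hy).1
    have hyX : ∀ z ∈ XX m hK, z ^ 3 = 1 → z = 1 := by
      intro z hz hz3
      have h7 : (⟨z, hz⟩ : XX m hK) ^ Nat.card (XX m hK) = 1 := pow_card_eq_one'
      rw [hXs] at h7
      have h8 : z ^ 13 = 1 := congrArg Subtype.val h7
      calc z = z ^ 13 * ((z ^ 3) ^ 4)⁻¹ := by group
        _ = 1 := by rw [h8, hz3]; group
    obtain ⟨u, rfl⟩ := m.surj y
    have huA := (m.mem_hat_iff u).2 hyA
    rw [hA] at huA
    have huK : (u : GL (Fin 3) F) ∉ KU hK := fun e => hy1' (hyX _ ((mem_XX m hK).2 ⟨u, e, rfl⟩) hy3)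
    have hu3 : (u : GL (Fin 3) F) ^ 3 = 1 := by
      rw [← map_pow] at hy3
      exact congrArg Subtype.val (hinj _ hy3)
    have hcent := cent_le hF hK (mem_inf.1 huA).1 huK hu3
    -- the centraliser in `Q`
    have hcQ : Nat.card (Subgroup.centralizer {m.π u}) ≤ 13 := by
      refine le_trans ?_ hcent
      let j : (Subgroup.centralizer {(u : GL (Fin 3) F)} ⊓ specialLinear (Fin 3) F : Subgroup (GL (Fin 3) F)) →
          Subgroup.centralizer {m.π u} := fun g => ⟨m.π ⟨g, (mem_inf.1 g.2).2⟩, by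
        rw [mem_centralizer_singleton_iff, ← map_mul, ← map_mul]
        congr 1
        exact Subtype.ext (mem_centralizer_singleton_iff.1 (mem_inf.1 g.2).1)⟩
      refine Nat.card_le_card_of_surjective j ?_
      rintro ⟨c, hc⟩
      obtain ⟨t, rfl⟩ := m.surj c
      refine ⟨⟨t, mem_inf.2 ⟨?_, t.2⟩⟩, rfl⟩
      rw [mem_centralizer_singleton_iff] at hc ⊢
      rw [← map_mul, ← map_mul] at hc
      have h7 := hinj ((u * t)⁻¹ * (t * u)) (by rw [map_mul, map_inv, hc, inv_mul_cancel])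
      rw [inv_mul_eq_one] at h7
      exact (congrArg Subtype.val h7).symm
    -- counting
    set G1 : Finset Q := Finset.univ.filter fun g : Q => g⁻¹ * m.π u * g ∈ A with hG1
    set G2 : Finset Q := Finset.univ.filter fun z : Q => z ∈ A ∧ z ∉ XX m hK with hG2
    have hG2c : G2.card = 26 := by
      have h7 : (Finset.univ.filter fun z : Q => z ∈ A).card = 39 := by
        rw [← Fintype.card_subtype, ← Nat.card_eq_fintype_card]
        exact h1
      have h8 : (Finset.univ.filter fun z : Q => z ∈ XX m hK).card = 13 := by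
        rw [← Fintype.card_subtype, ← Nat.card_eq_fintype_card]
        exact hXs
      have h9 : G2 = (Finset.univ.filter fun z : Q => z ∈ A) \ (Finset.univ.filter fun z : Q => z ∈ XX m hK) := by
        ext z
        simp [hG2]
      rw [h9, Finset.card_sdiff_of_subset, h7, h8]
      intro z hz
      rw [Finset.mem_filter] at hz ⊢
      exact ⟨hz.1, XX_le m hK hA hz.2⟩
    have hG1c : G1.card ≤ 13 * G2.card := by
      refine Finset.card_le_mul_card_image_of_maps_to (f := fun g : Q => g⁻¹ * m.π u * g) ?_ 13 ?_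
      · intro g hg
        rw [hG1, Finset.mem_filter] at hg
        rw [hG2, Finset.mem_filter]
        refine ⟨Finset.mem_univ _, hg.2, fun hgX => ?_⟩
        have h7 := hyX _ hgX (by
          have : (g⁻¹ * m.π u * g) ^ 3 = g⁻¹ * (m.π u) ^ 3 * g := by
            simp only [pow_succ, pow_zero, one_mul]; group
          rw [this, hy3]; group)
        apply hy1'
        calc m.π u = g * (g⁻¹ * m.π u * g) * g⁻¹ := by group
          _ = 1 := by rw [h7]; group
      · intro z _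
        rcases Finset.eq_empty_or_nonempty (G1.filter fun g => g⁻¹ * m.π u * g = z) with h7 | ⟨g0, hg0⟩
        · rw [h7]; exact Nat.zero_le _
        · rw [Finset.mem_filter] at hg0
          refine le_trans ?_ hcQ
          rw [Nat.card_eq_fintype_card, Fintype.card_subtype]
          refine Finset.card_le_card_of_injOn (fun g => g * g0⁻¹) ?_ ?_
          · intro g hg
            have h8 := (Finset.mem_filter.1 hg).2
            have h9 : g⁻¹ * m.π u * g = g0⁻¹ * m.π u * g0 := h8.trans hg0.2.symm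
            refine Finset.mem_coe.2 (Finset.mem_filter.2 ⟨Finset.mem_univ _, ?_⟩)
            rw [mem_centralizer_singleton_iff]
            calc g * g0⁻¹ * m.π u = g * (g0⁻¹ * m.π u * g0) * g0⁻¹ := by group
              _ = g * (g⁻¹ * m.π u * g) * g0⁻¹ := by rw [h9]
              _ = m.π u * (g * g0⁻¹) := by group
          · intro a _ b _ hab
            exact mul_right_cancel hab
    have hG0 : 39 * (G1.image (fun g : Q => (g : Q ⧸ A))).card ≤ G1.card := by
      apply Finset.mul_card_image_le_card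
      intro c hc
      rw [Finset.mem_image] at hc
      obtain ⟨g0, hg0, rfl⟩ := hc
      have h7 : (Finset.univ.filter fun z : Q => z ∈ A).card = 39 := by
        rw [← Fintype.card_subtype, ← Nat.card_eq_fintype_card]
        exact h1
      rw [← h7]
      refine Finset.card_le_card_of_injOn (fun a => g0 * a) ?_ ?_
      · intro a ha
        have ha' : a ∈ A := (Finset.mem_filter.1 ha).2
        refine Finset.mem_coe.2 (Finset.mem_filter.2 ⟨?_, ?_⟩)
        · rw [hG1, Finset.mem_filter] at hg0 ⊢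
          refine ⟨Finset.mem_univ _, ?_⟩
          have e : (g0 * a)⁻¹ * m.π u * (g0 * a) = a⁻¹ * (g0⁻¹ * m.π u * g0) * a := by group
          rw [e]
          exact A.mul_mem (A.mul_mem (A.inv_mem ha') hg0.2) ha'
        · rw [eq_comm, QuotientGroup.eq, inv_mul_cancel_left]
          exact ha'
      · intro a _ b _ hab
        exact mul_left_cancel hab
    have hline : EPT.nline A (A ⊓ cj x A) ≤ (G1.image (fun g : Q => (g : Q ⧸ A))).card := by
      rw [← Set.ncard_coe_finset]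
      refine Set.ncard_le_ncard ?_ (Set.toFinite _)
      intro c hc
      induction c using QuotientGroup.induction_on with
      | H z =>
        rw [Finset.mem_coe, Finset.mem_image]
        refine ⟨z, ?_, rfl⟩
        rw [hG1, Finset.mem_filter]
        refine ⟨Finset.mem_univ _, ?_⟩
        rcases hc with hc | hc
        · have hzA : z ∈ A := by
            have := QuotientGroup.eq.1 hc.symm
            rwa [inv_one, one_mul] at this
          exact A.mul_mem (A.mul_mem (A.inv_mem hzA) hyA) hzA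
        · rw [← hc, EP.stab_coe] at hy
          exact mem_cj.1 (mem_inf.1 hy).2
    rw [hG2c] at hG1c
    omega
  have h5 := EPT.index_le_of_lines A key
  have h6 : (EPT.M0set A).ncard * 10 ≤ 13 * 10 := Nat.mul_le_mul_right _ h3
  omega

/-- **S3499-III-SL-C3** (task 6042): the stabilisers of extension fields in `SL_n(q)`, `n ≥ 3`, `(n, q) ≠ (3, 2)`, are
not point stabilisers of extremely primitive groups. -/
theorem sl_c3 {Q : Type*} [Group Q] [Finite Q] (hs : IsSimpleGroup Q) {A : Subgroup Q} {Γ : Subgroup (MulAut Q)}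
    (h : EPT A Γ) {F : Type*} [Field F] [Fintype F] {n : ℕ} (m : Model Q (specialLinear (Fin n) F)) (hn : 3 ≤ n)
    (h32 : ¬ (n = 3 ∧ Fintype.card F = 2)) {r : ℕ} (hr : r.Prime)
    {K : Subalgebra F (Matrix (Fin n) (Fin n) F)} (hK : IsFieldSubalgebra r K)
    (hA : m.hat A ≤ subalgebraNormalizer K) : False := by
  have hne : Nonempty (Fin n) := ⟨⟨0, by omega⟩⟩
  have hq : 2 ≤ Fintype.card F := Fintype.one_lt_card
  have h1 := H912.finrank_dvd_of_fieldSub hK
  rw [Fintype.card_fin] at h1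
  rcases (Nat.le_of_dvd (by omega) h1).lt_or_eq with h2 | h2
  · exact c3_lt hs h m hr.two_le h2 hK hA
  · subst h2
    have hA' := hat_eq m hK h hs hr.two_le hA
    obtain ⟨h3, h4⟩ := c3_full_aux m hK h hr hn hA'
    subst h3
    have h5 : Fintype.card F = 3 := by
      have : Fintype.card F ≠ 2 := fun e => h32 ⟨rfl, e⟩
      omega
    exact three_three h h5 m hK hA'

end Cfsg.Agent.H855.EP3
end

-- part: H91/EP/PslN
section
/-!
# S3499-III: `PslNonRes`
-/

set_option autoImplicit false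

namespace Cfsg.Agent.H91.EP

open Subgroup Cfsg.Agent.H284 Cfsg.Agent.H419.EP
open scoped MatrixGroups

theorem pslNonRes : PslNonRes := by
  refine Cfsg.Agent.H128.EP.pslNonRes_of' Cfsg.Agent.H173.EP.row_c2 ?_
  rintro Q _ _ hs A Γ h F _ _ n m hn h32 h34 h42 ⟨r, K, hr, hK, hle⟩
  exact Cfsg.Agent.H855.EP3.sl_c3 hs h m hn h32 hr hK hle

end Cfsg.Agent.H91.EP
end

private theorem dce_e7bb7e59908c : _root_.True := by
  try have : _root_.True := by simp only [_root_.Cfsg.Agent.H173.EP.tv.eq_1]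
  try have : _root_.True := by simp only [_root_.Cfsg.Agent.H855.EP3.WW.eq_1]
  try have : _root_.True := by simp only [_root_.Cfsg.Agent.H855.EP3.XX.congr_simp]
  try have : _root_.True := by simp only [_root_.Cfsg.Agent.H907.KU.congr_simp]
  exact _root_.True.intro
end

-- part: H87/EPR/TwelveCard
section
set_option linter.all false
open scoped Cfsg.Agent.FastGrp

/-!
# S3499: orders for the rows `Ω_12^ε(q)` (helper87)

* `model_equiv` : two models of the same matrix group are isomorphic;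
* `pomega_equiv` : isometric forms have isomorphic `PΩ`;
* `card_even_ge` : a lower bound of `|PΩ(Q)|`, `Q` any nondegenerate quadratic form in even dimension;
* `card_aut_…` : orders of automorphism groups.
-/

set_option autoImplicit false

namespace Cfsg.Agent.H87.EPR

open Cfsg Cfsg.Geo Cfsg.Agent.H419.EP Cfsg.Agent.H284
open Cfsg.Agent.LieClassical.OrthCore
open scoped MatrixGroups

section Model

variable {Q Q' : Type*} [Group Q] [Group Q'] {ι : Type} [Fintype ι] [DecidableEq ι] {F : Type*} [Field F]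
  {S : Subgroup (GL ι F)}

/-- two models of the same matrix group -/
theorem model_equiv (m : Model Q S) (m' : Model Q' S) : Nonempty (Q ≃* Q') := by
  have hk : m.π.ker = m'.π.ker := by
    ext s
    rw [MonoidHom.mem_ker, MonoidHom.mem_ker, m.ker, m'.ker]
  exact ⟨(QuotientGroup.quotientKerEquivOfSurjective m.π m.surj).symm.trans
    ((QuotientGroup.quotientMulEquivOfEq hk).trans (QuotientGroup.quotientKerEquivOfSurjective m'.π m'.surj))⟩

end Model

section Card

variable {F : Type} [Field F]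

/-- isometric forms -/
theorem pomega_equiv {ι κ : Type} [Fintype ι] [DecidableEq ι] [Fintype κ] [DecidableEq κ]
    {Q : (ι → F) → F} {Q' : (κ → F) → F} (j : (ι → F) ≃ₗ[F] (κ → F)) (hj : ∀ x, Q' (j x) = Q x) :
    Nonempty (POmega F Q ≃* POmega F Q') := by
  obtain ⟨e0⟩ := LieClassical.OrthFourCommon.exists_isometryGroup_equiv j Q Q' hj
  obtain ⟨e1⟩ := LieClassical.OrthFourCommon.exists_isometryGroup_equiv (LinearEquiv.refl F (κ → F)) Q' Q'
    (fun v => rfl)
  exact ClassicalGeometry.OddInvolutions.commutator_quot_center_congr (e0.trans e1.symm)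

variable [Fintype F]

/-- **The order of `PΩ(Q)`, `Q` a nondegenerate quadratic form in dimension `2k ≥ 8`.** -/
theorem card_even {ι : Type} [Fintype ι] [DecidableEq ι] {Qf : (ι → F) → F} (hQ : IsNondegenerateQuadraticForm Qf)
    {k : ℕ} (hk : 4 ≤ k) (hι : Fintype.card ι = 2 * k) :
    ∃ g e : ℕ, g ≤ 4 ∧ Fintype.card F ^ k - 1 ≤ e ∧ g * Nat.card (POmega F Qf) =
      Fintype.card F ^ (k * (k - 1)) * e * ∏ i ∈ Finset.range (k - 1), (Fintype.card F ^ (2 * (i + 1)) - 1) := by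
  obtain ⟨Q, rfl, hQ'⟩ := H883.Bridge.exists_quadraticForm hQ
  have hV : Module.finrank F (ι → F) = 2 * k := by rw [Module.finrank_fintype_fun_eq_card, hι]
  rcases H377.classify_all (by omega) hV Q hQ' with ⟨e, he⟩ | ⟨ζ, hζ, e, he⟩
  · obtain ⟨E⟩ := pomega_equiv e he
    refine ⟨Nat.gcd 4 (Fintype.card F ^ k - 1), Fintype.card F ^ k - 1, Nat.gcd_le_left _ (by norm_num), le_rfl, ?_⟩
    rw [← Nat.card_congr E.toEquiv]
    exact Cfsg.Agent.S0293.result rfl k hk
  · obtain ⟨E⟩ := pomega_equiv e he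
    refine ⟨Nat.gcd 4 (Fintype.card F ^ k + 1), Fintype.card F ^ k + 1, Nat.gcd_le_left _ (by norm_num), by omega, ?_⟩
    rw [← Nat.card_congr E.toEquiv]
    exact Cfsg.Agent.S0294.result rfl k hk 1 ζ hζ

/-- a lower bound -/
theorem card_even_ge {ι : Type} [Fintype ι] [DecidableEq ι] {Qf : (ι → F) → F} (hQ : IsNondegenerateQuadraticForm Qf)
    {k : ℕ} (hk : 4 ≤ k) (hι : Fintype.card ι = 2 * k) {q : ℕ} (hq : q ≤ Fintype.card F) :
    q ^ (k * (k - 1)) * (q ^ k - 1) * ∏ i ∈ Finset.range (k - 1), (q ^ (2 * (i + 1)) - 1) ≤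
      4 * Nat.card (POmega F Qf) := by
  obtain ⟨g, e, hg, he, h⟩ := card_even hQ hk hι
  refine le_trans ?_ (Nat.mul_le_mul_right _ hg)
  rw [h]
  refine Nat.mul_le_mul (Nat.mul_le_mul (Nat.pow_le_pow_left hq _) (le_trans ?_ he)) ?_
  · exact Nat.sub_le_sub_right (Nat.pow_le_pow_left hq _) 1
  · exact Finset.prod_le_prod' fun i _ => Nat.sub_le_sub_right (Nat.pow_le_pow_left hq _) 1

/-- the same for a model -/
theorem card_model_ge {Q : Type} [Group Q] {ι : Type} [Fintype ι] [DecidableEq ι] {Qf : (ι → F) → F}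
    (m : Model Q (omegaGL Qf)) (hQ : IsNondegenerateQuadraticForm Qf)
    {k : ℕ} (hk : 4 ≤ k) (hι : Fintype.card ι = 2 * k) {q : ℕ} (hq : q ≤ Fintype.card F) :
    q ^ (k * (k - 1)) * (q ^ k - 1) * ∏ i ∈ Finset.range (k - 1), (q ^ (2 * (i + 1)) - 1) ≤ 4 * Nat.card Q := by
  obtain ⟨m'⟩ := H775.EP.model_omega hQ (show 5 ≤ Fintype.card ι by omega)
  obtain ⟨e⟩ := model_equiv m m'
  rw [Nat.card_congr e.toEquiv]
  exact card_even_ge hQ hk hι hq

end Card

section Aut

theorem card_aut_l13 : Nat.card (MulAut (Matrix.ProjectiveSpecialLinearGroup (Fin 2) (ZMod 13))) = 2184 := by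
  have : Fact (Nat.Prime 13) := ⟨by norm_num⟩
  rw [Cfsg.Agent.S0813.result 13 1 le_rfl (by rw [ZMod.card, pow_one]) 2 le_rfl (fun _ => by norm_num),
    Cfsg.Agent.S0265.result, Cfsg.Agent.ClassicalGeometry.PSL2Basic.card_SL2, ZMod.card]
  norm_num

theorem card_aut_l33 : Nat.card (MulAut (Matrix.ProjectiveSpecialLinearGroup (Fin 3) (ZMod 3))) ∣ 22464 := by
  have : Fact (Nat.Prime 3) := ⟨Nat.prime_three⟩
  rw [Cfsg.Agent.S0813.result 3 1 le_rfl (by rw [ZMod.card, pow_one]) 3 (by norm_num) (fun h => absurd h (by norm_num)),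
    if_neg (by norm_num), mul_one]
  have h1 : Nat.card (Matrix.ProjGenLinGroup (Fin 3) (ZMod 3)) ∣ 11232 := by
    have h2 : Nat.card (GL (Fin 3) (ZMod 3)) = 11232 := by
      rw [Matrix.card_GL_field]
      simp [Fin.prod_univ_three, ZMod.card]
    rw [← h2]
    exact Subgroup.card_quotient_dvd_card _
  exact mul_dvd_mul_left 2 h1

theorem card_aut_alt {n : ℕ} (hn : 7 ≤ n) : Nat.card (MulAut (alternatingGroup (Fin n))) ∣ n.factorial := by
  obtain ⟨ψ, hψ⟩ := StandardComponent.AltAut.exists_autHom n hn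
  have hinj : Function.Injective ψ := by
    intro a b hab
    ext x : 1
    apply Subtype.ext
    rw [hψ, hψ, hab]
  have h1 := Subgroup.card_dvd_of_injective ψ hinj
  have h2 : Nat.card (Equiv.Perm (Fin n)) = n.factorial := by
    rw [Nat.card_perm, Nat.card_eq_fintype_card, Fintype.card_fin]
  rwa [h2] at h1

/-- `|A|` divides `|Aut L|` -/
theorem card_dvd_aut {Q : Type*} [Group Q] {A : Subgroup Q} {L : Type*} [Group L] (h : HasSoc A L) :
    Nat.card A ∣ Nat.card (MulAut L) := by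
  obtain ⟨f, hf⟩ := h.exists_hom
  exact Subgroup.card_dvd_of_injective f hf

end Aut

end Cfsg.Agent.H87.EPR
end

-- part: H414/EPV/EThree
section
prune_inst 0x357065443de2120000008592f12020246c00019200600400eda30b460a01e3224dc221400f8030055a0ab28100010028130000f040000000000004000005012080a8120431740d0c46001f801184000000000000000000000000000000010004200000000
set_option linter.all false
open scoped Cfsg.Agent.FastGrp

-- part: H904/EPV/Engine
section
/-!
# S3499: a generic engine for the layers V and VII (helper904)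

* `ncard_le_sb`   : the number of two point stabilisers is at most `sb N k` (`|A| ≤ N`, `Ω(|A|) ≤ k`);
* `card_le_exact` : `|Q| ≤ N * (1 + sb N k * N)` for `|A| ∣ N`, `Ω(N) ≤ k`;
* `card_le_pow`   : `|Q| ≤ 2 ^ (L * (L + 5) / 2 + 1)` for `|A| ≤ 2 ^ L`;
* `dim_lt`        : `n < L + 4` for `|A| ≤ 2 ^ L` in the common situation `Big`.
-/

set_option autoImplicit false

namespace Cfsg.Agent.H904.EPV

open Subgroup Cfsg.Agent.H284 Cfsg.Agent.H419.EP Cfsg.Agent.H991.EP

/-- `Ω(m) ≤ L` for `0 < m ≤ 2 ^ L`. -/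
theorem Om_le_of_le {m L : ℕ} (hm : m ≠ 0) (h : m ≤ 2 ^ L) : Om m ≤ L := by
  have h1 : ∀ l : List ℕ, (∀ p ∈ l, 2 ≤ p) → 2 ^ l.length ≤ l.prod := by
    intro l
    induction l with
    | nil => intro _; simp
    | cons a l ih =>
      intro hl
      rw [List.length_cons, List.prod_cons, pow_succ, mul_comm]
      exact Nat.mul_le_mul (hl a List.mem_cons_self) (ih fun p hp => hl p (List.mem_cons_of_mem _ hp))
  have h2 := h1 m.primeFactorsList fun p hp => (Nat.prime_of_mem_primeFactorsList hp).two_le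
  rw [Nat.prod_primeFactorsList hm] at h2
  exact (Nat.pow_le_pow_iff_right (by norm_num)).1 (h2.trans h)

theorem sb_mono {n m : ℕ} (h : n ≤ m) (k : ℕ) : sb n k ≤ sb m k := by
  induction k with
  | zero => exact le_rfl
  | succ k ih => exact Nat.add_le_add ih (cb_mono h k)

section

variable {Q : Type*} [Group Q] [Finite Q] {A : Subgroup Q} {Γ : Subgroup (MulAut Q)}

theorem inf_cj_lt (h : EPT A Γ) {x : Q} (hx : x ∉ A) : A ⊓ cj x A < A := by
  refine lt_of_le_of_ne inf_le_left ?_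
  intro he
  apply hx
  apply h.selfnorm
  have h1 : A ≤ cj x A := by
    have h0 : A ⊓ cj x A ≤ cj x A := inf_le_right
    rwa [he] at h0
  have h2 : cj x A = A := by
    symm
    apply Subgroup.eq_of_le_of_card_ge h1
    rw [card_cj]
  intro a ha
  have h3 : x * a * x⁻¹ ∈ cj x A := by
    rw [mem_cj]
    have : x⁻¹ * (x * a * x⁻¹) * x = a := by group
    rw [this]
    exact ha
  rw [h2] at h3
  exact h3

/-- the number of two point stabilisers -/
theorem ncard_le_sb (h : EPT A Γ) {N k : ℕ} (hA : Nat.card A ≤ N) (hk : Om (Nat.card A) ≤ k) :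
    {M : Subgroup Q | ∃ x, x ∉ A ∧ M = A ⊓ cj x A}.ncard ≤ sb N k := by
  refine le_trans ?_ (sb_mono hA k)
  refine le_trans ?_ (card_lt A k)
  apply Set.ncard_le_ncard _ (Set.toFinite _)
  rintro M ⟨x, hx, rfl⟩
  exact ⟨inf_le_left, lt_of_lt_of_le (Om_lt (inf_cj_lt h hx)) hk⟩

/-- the line bound with `μ = 2` -/
theorem index_le_of_ncard (hs : IsSimpleGroup Q) (h : EPT A Γ) {r : ℕ}
    (hr : {M : Subgroup Q | ∃ x, x ∉ A ∧ M = A ⊓ cj x A}.ncard ≤ r) : A.index ≤ 1 + r * Nat.card A := by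
  have h1 := Cfsg.Agent.H173.EP.ub1 hs h (μ := 2) (by norm_num) (by
    intro x hx
    have h2 : 1 < Nat.card (A ⊓ cj x A : Subgroup Q) :=
      lt_of_le_of_ne Nat.card_pos fun e => h.M0 x hx (Subgroup.card_eq_one.1 e.symm)
    exact h2)
  refine h1.trans (Nat.add_le_add_left ?_ _)
  exact Nat.mul_le_mul hr (Nat.mul_div_le _ _)

theorem card_le_of_ncard (hs : IsSimpleGroup Q) (h : EPT A Γ) {r N : ℕ} (hN : Nat.card A ≤ N)
    (hr : {M : Subgroup Q | ∃ x, x ∉ A ∧ M = A ⊓ cj x A}.ncard ≤ r) : Nat.card Q ≤ N * (1 + r * N) := by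
  rw [← A.card_mul_index]
  refine Nat.mul_le_mul hN ((index_le_of_ncard hs h hr).trans ?_)
  exact Nat.add_le_add_left (Nat.mul_le_mul_left _ hN) _

/-- `cb (2 ^ L) i ≤ 2 ^ e` for `e = i * L - i * (i - 1) / 2` -/
theorem cb_two {L : ℕ} : ∀ {i : ℕ}, i ≤ L → cb (2 ^ L) i ^ 2 * 2 ^ (i * (i - 1)) ≤ 2 ^ (2 * (i * L)) := by
  intro i
  induction i with
  | zero => intro _; simp [cb]
  | succ i ih =>
    intro hi
    have h1 := ih (by omega)
    obtain ⟨c, rfl⟩ : ∃ c, L = i + c := ⟨L - i, by omega⟩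
    have h2 : 2 ^ (i + c) / 2 ^ i = 2 ^ c := by
      rw [pow_add, Nat.mul_div_cancel_left _ (by positivity)]
    have h4 : cb (2 ^ (i + c)) (i + 1) = cb (2 ^ (i + c)) i * 2 ^ c := by
      rw [cb, h2]
    rw [h4, mul_pow, Nat.add_sub_cancel]
    have h3 : (i + 1) * i = i * (i - 1) + 2 * i := by
      rcases i with _ | i
      · rfl
      · rw [Nat.add_sub_cancel]; ring
    rw [h3]
    calc cb (2 ^ (i + c)) i ^ 2 * (2 ^ c) ^ 2 * 2 ^ (i * (i - 1) + 2 * i)
        = (cb (2 ^ (i + c)) i ^ 2 * 2 ^ (i * (i - 1))) * (2 ^ (2 * i) * (2 ^ c) ^ 2) := by rw [pow_add]; ring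
      _ ≤ 2 ^ (2 * (i * (i + c))) * (2 ^ (2 * i) * (2 ^ c) ^ 2) := Nat.mul_le_mul_right _ h1
      _ = 2 ^ (2 * ((i + 1) * (i + c))) := by
        rw [← pow_mul, ← pow_add, ← pow_add]
        congr 1
        ring

/-- the exponent of the bound for `sb` -/
theorem sb_two {L : ℕ} : ∀ {k : ℕ}, k ≤ L → sb (2 ^ L) k ^ 2 * 2 ^ (k * (k - 1)) ≤ 2 ^ (2 * (k * L)) := by
  intro k
  induction k with
  | zero => intro _; simp [sb]
  | succ k ih =>
    intro hi
    have h1 := ih (by omega)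
    have h2 := cb_two (L := L) (i := k) (by omega)
    obtain ⟨c, rfl⟩ : ∃ c, L = k + c := ⟨L - k, by omega⟩
    have hc : 1 ≤ c := by omega
    have h3 : (k + 1) * k = k * (k - 1) + 2 * k := by
      rcases k with _ | k
      · rfl
      · rw [Nat.add_sub_cancel]; ring
    rw [sb, Nat.add_sub_cancel, h3]
    have h4 : (sb (2 ^ (k + c)) k + cb (2 ^ (k + c)) k) ^ 2 ≤
        2 * (sb (2 ^ (k + c)) k ^ 2 + cb (2 ^ (k + c)) k ^ 2) := add_sq_le
    calc (sb (2 ^ (k + c)) k + cb (2 ^ (k + c)) k) ^ 2 * 2 ^ (k * (k - 1) + 2 * k)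
        ≤ 2 * (sb (2 ^ (k + c)) k ^ 2 + cb (2 ^ (k + c)) k ^ 2) * 2 ^ (k * (k - 1) + 2 * k) :=
          Nat.mul_le_mul_right _ h4
      _ = 2 * (sb (2 ^ (k + c)) k ^ 2 * 2 ^ (k * (k - 1)) + cb (2 ^ (k + c)) k ^ 2 * 2 ^ (k * (k - 1))) * 2 ^ (2 * k) := by
          rw [pow_add]; ring
      _ ≤ 2 * (2 ^ (2 * (k * (k + c))) + 2 ^ (2 * (k * (k + c)))) * 2 ^ (2 * k) :=
          Nat.mul_le_mul_right _ (Nat.mul_le_mul_left _ (Nat.add_le_add h1 h2))
      _ = 2 ^ (2 * (k * (k + c)) + 2 * k + 2) := by rw [pow_add, pow_add]; ring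
      _ ≤ 2 ^ (2 * ((k + 1) * (k + c))) := Nat.pow_le_pow_right (by norm_num) (by linarith only [hi])

theorem sb_two_le (L : ℕ) : sb (2 ^ L) L ≤ 2 ^ (L * (L + 1) / 2) := by
  have h1 := sb_two (le_refl L)
  have hdiv : L * (L + 1) / 2 * 2 = L * (L + 1) := Nat.div_mul_cancel (Nat.even_mul_succ_self L).two_dvd
  apply (Nat.pow_le_pow_iff_left (n := 2) (by norm_num)).1
  rw [← pow_mul, hdiv]
  have h2 : 2 ^ (2 * (L * L)) = 2 ^ (L * (L + 1)) * 2 ^ (L * (L - 1)) := by
    rw [← pow_add]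
    congr 1
    rcases L with _ | L
    · rfl
    · rw [Nat.add_sub_cancel]; ring
  rw [h2] at h1
  exact Nat.le_of_mul_le_mul_right h1 (by positivity)

/-- **The bound for the order** -/
theorem card_le_pow (hs : IsSimpleGroup Q) (h : EPT A Γ) {L : ℕ} (hA : Nat.card A ≤ 2 ^ L) :
    Nat.card Q ≤ 2 ^ (L * (L + 5) / 2 + 1) := by
  have h1 := card_le_of_ncard hs h hA (ncard_le_sb h hA (Om_le_of_le Nat.card_pos.ne' hA))
  refine h1.trans ?_
  have h2 := sb_two_le L
  have hdiv : L * (L + 1) / 2 * 2 = L * (L + 1) := Nat.div_mul_cancel (Nat.even_mul_succ_self L).two_dvd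
  have h3 : L * (L + 5) / 2 = L * (L + 1) / 2 + 2 * L := by
    have : L * (L + 5) = L * (L + 1) + 2 * (2 * L) := by ring
    rw [this, Nat.add_mul_div_left _ _ (by norm_num)]
  have h4 : 1 ≤ 2 ^ (L * (L + 1) / 2) * 2 ^ L := Nat.one_le_iff_ne_zero.2 (by positivity)
  calc 2 ^ L * (1 + sb (2 ^ L) L * 2 ^ L) ≤ 2 ^ L * (1 + 2 ^ (L * (L + 1) / 2) * 2 ^ L) :=
        Nat.mul_le_mul_left _ (Nat.add_le_add_left (Nat.mul_le_mul_right _ h2) _)
    _ ≤ 2 ^ L * (2 ^ (L * (L + 1) / 2) * 2 ^ L + 2 ^ (L * (L + 1) / 2) * 2 ^ L) :=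
        Nat.mul_le_mul_left _ (Nat.add_le_add_right h4 _)
    _ = 2 ^ (L * (L + 5) / 2 + 1) := by
      rw [h3]
      ring

end

section

variable {Q : Type} [Group Q] [Finite Q] {A : Subgroup Q} {Γ : Subgroup (MulAut Q)} {ι : Type} [Fintype ι]
    [DecidableEq ι] {F : Type} [Field F] [Fintype F] {S P : Subgroup (GL ι F)}

/-- **The generic engine**: `n < L + 4` if `|A| ≤ 2 ^ L`. -/
theorem dim_lt (b : Big A Γ S P) {L : ℕ} (hA : Nat.card A ≤ 2 ^ L) : Fintype.card ι < L + 4 := by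
  by_contra hn
  push Not at hn
  have h1 := b.ord_two hn
  have h2 := card_le_pow b.simple b.ept hA
  have h3 : 2 ^ ((L + 4) * (L + 4 - 1) / 2) ≤ 2 ^ (L * (L + 5) / 2 + 4) := by
    refine h1.trans ((Nat.mul_le_mul_left 8 h2).trans (le_of_eq ?_))
    rw [show (8 : ℕ) = 2 ^ 3 by norm_num, ← pow_add]
    congr 1
    omega
  have h4 := (Nat.pow_le_pow_iff_right (by norm_num)).1 h3
  have h5 : (L + 4) * (L + 4 - 1) / 2 = L * (L + 5) / 2 + (L + 6) := by
    have : (L + 4) * (L + 4 - 1) = L * (L + 5) + 2 * (L + 6) := by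
      have : L + 4 - 1 = L + 3 := by omega
      rw [this]; ring
    rw [this, Nat.add_mul_div_left _ _ (by norm_num)]
  rw [h5] at h4
  omega

end

end Cfsg.Agent.H904.EPV
end

-- part: H414/EPV/Kill
section
/-!
# S3499-V: contradictions in the situation `Big` from the order of `Aut (socle)` (helper414)

* `ord_ge` : `a ^ (m (m - 1) / 2) ≤ 8 |Q|` for `a ≤ |F|`, `m ≤ n`;
* `noAb`, `card_dvd_aut` : the hypotheses of the bounds UB;
* `kill` : the exact form with the factorisation of `|Aut T|` (`ubQ`, `galSum`);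
* `three_le_card`, `four_le_card` : the size of `F` from its characteristic.
-/

set_option autoImplicit false

namespace Cfsg.Agent.H414.EPV

open Subgroup Cfsg Cfsg.Agent.H284 Cfsg.Agent.H419.EP Cfsg.Agent.H59.EP Cfsg.Agent.H528.EP
open scoped MatrixGroups

variable {Q : Type} [Group Q] [Finite Q] {A : Subgroup Q} {Γ : Subgroup (MulAut Q)} {ι : Type} [Fintype ι]
    [DecidableEq ι] {F : Type} [Field F] [Fintype F] {S P : Subgroup (GL ι F)}

theorem ord_ge (b : Big A Γ S P) {a m : ℕ} (ha : 1 ≤ a) (haF : a ≤ Fintype.card F) (hm : m ≤ Fintype.card ι) :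
    a ^ (m * (m - 1) / 2) ≤ 8 * Nat.card Q := by
  refine le_trans ?_ b.ord
  refine (Nat.pow_le_pow_right ha ?_).trans (Nat.pow_le_pow_left haF _)
  apply Nat.div_le_div_right
  exact Nat.mul_le_mul hm (by omega)

theorem noncomm_of (b : Big A Γ S P) {T : Type} [Group T] (e : socle P ≃* T) : ¬ ∀ x y : T, x * y = y * x := by
  intro h
  apply b.core.nonabelian
  exact ⟨⟨fun x y => e.injective (by rw [map_mul, map_mul]; exact h _ _)⟩⟩

theorem noAb (b : Big A Γ S P) : ∀ K : Subgroup Q, K ≤ A → (∀ a ∈ A, ∀ k ∈ K, a * k * a⁻¹ ∈ K) →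
    (∀ a ∈ K, ∀ b ∈ K, a * b = b * a) → K = ⊥ := fun _ h1 h2 h3 =>
  b.hasSoc.no_abelian b.core.simple (noncomm_of b (MulEquiv.refl _)) h1 h2 h3

theorem card_dvd_aut (b : Big A Γ S P) {T : Type} [Group T] (e : socle P ≃* T) :
    Nat.card A ∣ Nat.card (MulAut T) := by
  obtain ⟨f, hf⟩ := (b.hasSoc' e).exists_hom
  exact Subgroup.card_dvd_of_injective f hf

/-- **the bound with the exact order of `Aut T`**, factorised as `l` -/
theorem kill (b : Big A Γ S P) (hg : TwoGen.{0}) {T : Type} [Group T] (e : socle P ≃* T) {N : ℕ}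
    (hN : Nat.card (MulAut T) = N) (l : List (ℕ × ℕ)) (h1 : ∀ x ∈ l, x.1.Prime ∧ 0 < x.2)
    (h2 : (l.map Prod.fst).Nodup) (hl : (l.map fun x => x.1 ^ x.2).prod = N) (h60 : N < 60 ^ 60)
    {a m : ℕ} (ha : 1 ≤ a) (haF : a ≤ Fintype.card F) (hm : m ≤ Fintype.card ι)
    (hlt : 8 * ubQ N (l.map fun x => gal x.1 x.2).sum < a ^ (m * (m - 1) / 2)) : False := by
  obtain ⟨g1, g2, -⟩ := galSum_list l h1 h2
  rw [hl] at g1 g2
  have h3 := EPT.card_le_gen b.simple b.ept hg (noAb b) g2 (hN ▸ card_dvd_aut b e) h60 g1.le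
  have h4 := ord_ge b ha haF hm
  omega

theorem three_le_card (F : Type) [Field F] [Fintype F] (h : ((2 : ℕ) : F) ≠ 0) : 3 ≤ Fintype.card F := by
  have h1 : 2 ≤ Fintype.card F := Fintype.one_lt_card
  have h2 : Fintype.card F ≠ 2 := by
    intro h3
    apply h
    rw [← h3]
    exact FiniteField.cast_card_eq_zero F
  omega

theorem four_le_card (F : Type) [Field F] [Fintype F] (h : ((3 : ℕ) : F) ≠ 0) (hF : Fintype.card F ≠ 2) :
    4 ≤ Fintype.card F := by
  have h1 : 2 ≤ Fintype.card F := Fintype.one_lt_card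
  have h2 : Fintype.card F ≠ 3 := by
    intro h3
    apply h
    rw [← h3]
    exact FiniteField.cast_card_eq_zero F
  omega

end Cfsg.Agent.H414.EPV
end

-- part: H414/EPV/EThree
section
/-!
# S3499-V: the engine E3 (helper414, from the chain bound of helper904 / helper991 and UB1)

`dim_lt` : in the situation `Big`, `|A| ≤ 2 ^ L` and `L + 3 ≤ n` are contradictory. (`H904.EPV.dim_lt` has `L + 4`;
the gain comes from the nonabelian two point stabilisers: `|Q| ≤ |A| (1 + r |A| / 3)`.)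
-/

set_option autoImplicit false

namespace Cfsg.Agent.H414.EPV

open Subgroup Cfsg Cfsg.Agent.H284 Cfsg.Agent.H419.EP Cfsg.Agent.H59.EP Cfsg.Agent.H991.EP
open scoped MatrixGroups

variable {Q : Type} [Group Q] [Finite Q] {A : Subgroup Q} {Γ : Subgroup (MulAut Q)} {ι : Type} [Fintype ι]
    [DecidableEq ι] {F : Type} [Field F] [Fintype F] {S P : Subgroup (GL ι F)}

/-- **E1, sharp form** -/
theorem three_mul_card_le (b : Big A Γ S P) {L : ℕ} (hA : Nat.card A ≤ 2 ^ L) :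
    3 * Nat.card Q ≤ 3 * 2 ^ L + 2 ^ (L * (L + 5) / 2) := by
  have h1 := Cfsg.Agent.H904.EPV.ncard_le_sb b.ept hA
    (Cfsg.Agent.H904.EPV.Om_le_of_le Nat.card_pos.ne' hA)
  have h2 := h1.trans (Cfsg.Agent.H904.EPV.sb_two_le L)
  have h3 := Cfsg.Agent.H173.EP.ub1 b.simple b.ept (by norm_num) fun _ hx => EPT.six_le b.ept (noAb b) hx
  have h4 : 3 * (2 * (Nat.card A / 6)) ≤ 2 ^ L := by
    have := Nat.div_mul_le_self (Nat.card A) 6
    omega
  have hdiv : L * (L + 1) / 2 * 2 = L * (L + 1) := Nat.div_mul_cancel (Nat.even_mul_succ_self L).two_dvd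
  have h5 : L * (L + 5) / 2 = L * (L + 1) / 2 + L + L := by
    have : L * (L + 5) = L * (L + 1) + 2 * (2 * L) := by ring
    rw [this, Nat.add_mul_div_left _ _ (by norm_num)]
    omega
  rw [h5, ← A.card_mul_index]
  calc 3 * (Nat.card A * A.index) = Nat.card A * (3 * A.index) := by ring
    _ ≤ 2 ^ L * (3 * (1 + 2 ^ (L * (L + 1) / 2) * (2 * (Nat.card A / 6)))) :=
        Nat.mul_le_mul hA (Nat.mul_le_mul_left 3 (h3.trans
          (Nat.add_le_add_left (Nat.mul_le_mul_right _ h2) 1)))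
    _ = 2 ^ L * (3 + 2 ^ (L * (L + 1) / 2) * (3 * (2 * (Nat.card A / 6)))) := by ring
    _ ≤ 2 ^ L * (3 + 2 ^ (L * (L + 1) / 2) * 2 ^ L) :=
        Nat.mul_le_mul_left _ (Nat.add_le_add_left (Nat.mul_le_mul_left _ h4) 3)
    _ = 3 * 2 ^ L + 2 ^ (L * (L + 1) / 2 + L + L) := by rw [pow_add, pow_add]; ring

/-- **E3** -/
theorem dim_lt (b : Big A Γ S P) {L : ℕ} (hA : Nat.card A ≤ 2 ^ L) : Fintype.card ι < L + 3 := by
  by_contra hn
  push Not at hn
  have h1 := b.ord_two hn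
  have h2 := three_mul_card_le b hA
  have h3 : (L + 3) * (L + 3 - 1) / 2 = L * (L + 5) / 2 + 3 := by
    have : (L + 3) * (L + 3 - 1) = L * (L + 5) + 2 * 3 := by
      rw [show L + 3 - 1 = L + 2 by omega]
      ring
    rw [this, Nat.add_mul_div_left _ _ (by norm_num)]
  rw [h3, pow_add] at h1
  rcases Nat.eq_zero_or_pos L with h0 | h0
  · rw [h0, pow_zero] at hA
    exact b.ept.ne (Subgroup.card_eq_one.1 (le_antisymm hA Nat.card_pos))
  · have h4 : 2 ^ (L + 1) ≤ 2 ^ (L * (L + 5) / 2) := by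
      apply Nat.pow_le_pow_right (by norm_num)
      have h5 : (L + 1) * 2 ≤ L * (L + 5) := by nlinarith only [h0]
      omega
    rw [pow_succ] at h4
    have h6 : 0 < 2 ^ L := by positivity
    omega

/-- **E3** in the form of the hypotheses of the rows (`H414.EPV.E3`, `H354.EPV.EThree`) -/
theorem e3 : ∀ {Q : Type} [Group Q] [Finite Q] {A : Subgroup Q} {Γ : Subgroup (MulAut Q)} {ι : Type}
    [Fintype ι] [DecidableEq ι] {F : Type} [Field F] [Fintype F] {S P : Subgroup (GL ι F)}, Big A Γ S P →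
    ∀ L : ℕ, Nat.card A ≤ 2 ^ L → L + 3 ≤ Fintype.card ι → False :=
  fun b _ hA hn => absurd (dim_lt b hA) (not_lt.2 hn)

end Cfsg.Agent.H414.EPV
end
end

-- part: H855/EP/AsmExc
section
set_option linter.all false
open scoped Cfsg.Agent.FastGrp

-- part: H648/EPV/Exc
section
/-!
# S3499-V-LIE-EXC: exceptional socles in cross characteristic, dimension at least 13 (helper648, task 6105)

* `exc_cross` : `Big A Γ S P`, `socle P` of exceptional Lie type in characteristic `r`, `(r : F) ≠ 0`: impossible;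
* `tits` (in `ExcSmall`) : `socle P` the Tits group, every characteristic: impossible;
* `exc_of_own` : `BigOf IsExceptionalLieType` from the own characteristic part.
-/

set_option autoImplicit false

namespace Cfsg.Agent.H648.EPV

open Subgroup Cfsg.Lie Cfsg.Agent.H284 Cfsg.Agent.H419.EP Cfsg.Agent.H528.EP Cfsg.Agent.H59.EP
open scoped MatrixGroups

variable {Q : Type} [Group Q] [Finite Q] {A : Subgroup Q} {Γ : Subgroup (MulAut Q)} {ι : Type} [Fintype ι]
  [DecidableEq ι] {F : Type} [Field F] [Fintype F] {S P : Subgroup (GL ι F)}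

theorem eq_char {K : Type} [Field K] [Fintype K] {r p k : ℕ} (hr : r.Prime) [CharP K r] (hp : p.Prime)
    (hK : Fintype.card K = p ^ k) (hk : k ≠ 0) : p = r := by
  have h1 : p ∣ Fintype.card K := by rw [hK]; exact dvd_pow_self p hk
  obtain ⟨f, -, h2⟩ := FiniteField.card K r
  rw [h2] at h1
  exact (Nat.prime_dvd_prime_iff_eq hp hr).1 (hp.dvd_of_dvd_pow h1)

/-- **Exceptional socles in cross characteristic.** -/
theorem exc_cross (hg : TwoGen.{0}) (b : Big A Γ S P) {r : ℕ} (hr : r.Prime) (hrF : (r : F) ≠ 0)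
    (h : H912.Five.ExcL r (socle P)) : False := by
  rcases h with ⟨K, _, _, _, h⟩ | ⟨K, _, _, _, q, hq, h⟩ | ⟨rfl, K, _, _, m, hm, hK, ⟨e⟩⟩ |
    ⟨rfl, K, _, _, m, hm, hK, ⟨e⟩⟩ | ⟨rfl, K, _, _, m, hm, hK, ⟨e⟩⟩
  · obtain ⟨f, -, hK⟩ := FiniteField.card K r
    have hf : 1 ≤ (f : ℕ) := f.pos
    rcases h with ⟨h3, ⟨e⟩⟩ | ⟨⟨e⟩⟩ | ⟨⟨e⟩⟩ | ⟨⟨e⟩⟩ | ⟨⟨e⟩⟩
    · rcases Nat.lt_or_ge (r ^ (f : ℕ)) 11 with h11 | h11
      · exact g2_small hg b e hr hK hrF (by rw [← hK]; exact h3) h11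
      · exact g2_big b e hr hf hK hrF h11
    · rcases Nat.lt_or_ge (r ^ (f : ℕ)) 3 with h3 | h3
      · have h2 : 2 ≤ r ^ (f : ℕ) := hr.two_le.trans (Nat.le_self_pow (by omega) r)
        have h4 : r ^ (f : ℕ) = 2 := by omega
        have hr2 : r = 2 := by
          have h5 : r ≤ r ^ (f : ℕ) := Nat.le_self_pow (by omega) r
          have := hr.two_le
          omega
        subst hr2
        exact f4_two hg b (by rw [hK, h4]) e hrF
      · exact f4_big b e hr hf hK hrF h3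
    · exact e6_big b e hr hf hK hrF
    · exact e7_big b e hr hf hK hrF
    · exact e8_big b e hr hf hK hrF
  · obtain ⟨p, f, hp, hf, rfl⟩ := (isPrimePow_nat_iff _).1 hq
    have h2 : 2 ≤ p ^ f := hq.two_le
    rcases h with ⟨hK, ⟨e⟩⟩ | ⟨hK, ⟨e⟩⟩
    · have hpr : p = r := eq_char (K := K) (k := f * 2) hr hp (by rw [hK, pow_mul]) (by omega)
      subst hpr
      rcases Nat.lt_or_ge (p ^ f) 3 with h3 | h3
      · have h4 : p ^ f = 2 := by omega
        have h5 : p ≤ p ^ f := Nat.le_self_pow (by omega) p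
        have hr2 : p = 2 := by
          have := hp.two_le
          omega
        subst hr2
        have h6 : f = 1 := Nat.pow_right_injective (le_refl 2) (h4.trans (pow_one 2).symm)
        subst h6
        exact twe6_two hg b hK e hrF
      · exact twe6_big b e hp hf hK hrF h3
    · have hpr : p = r := eq_char (K := K) (k := f * 3) hr hp (by rw [hK, pow_mul]) (by omega)
      subst hpr
      rcases Nat.lt_or_ge (p ^ f) 3 with h3 | h3
      · have h4 : p ^ f = 2 := by omega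
        have h5 : p ≤ p ^ f := Nat.le_self_pow (by omega) p
        have hr2 : p = 2 := by
          have := hp.two_le
          omega
        subst hr2
        have h6 : f = 1 := Nat.pow_right_injective (le_refl 2) (h4.trans (pow_one 2).symm)
        subst h6
        exact twd4_two hg b hK e hrF
      · exact twd4_big b e hp hf hK hrF h3
  · rcases Nat.lt_or_ge m 3 with h3 | h3
    · exact sz_small hg b hm h3 hK e hrF
    · exact sz_big b h3 hK e hrF
  · exact twf4_big b hm hK e hrF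
  · rcases Nat.lt_or_ge m 2 with h3 | h3
    · obtain rfl : m = 1 := by omega
      exact ree_small hg b hK e hrF
    · exact ree_big b h3 hK e hrF

/-- an exceptional group of Lie type is of type `ExcL` or the Tits group -/
theorem excL_of {L : Type} [Group L] (h : Cfsg.IsExceptionalLieType L) :
    (∃ r, r.Prime ∧ H912.Five.ExcL r L) ∨ IsoTits L := by
  rcases h with ⟨K, iF, iT, h1, h2⟩ | ⟨K, iF, iT, h⟩ | ⟨K, iF, iT, h⟩ | ⟨K, iF, iT, h⟩ | ⟨K, iF, iT, h⟩ |
      ⟨K, iF, iT, q, hq, h1, h2⟩ | ⟨K, iF, iT, q, hq, h1, h2⟩ | h | h | h | h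
  · obtain ⟨p, hp, hF⟩ := H912.Known.exists_char K
    exact Or.inl ⟨p, hp, Or.inl ⟨K, iF, iT, hF, Or.inl ⟨h1, h2⟩⟩⟩
  · obtain ⟨p, hp, hF⟩ := H912.Known.exists_char K
    exact Or.inl ⟨p, hp, Or.inl ⟨K, iF, iT, hF, Or.inr (Or.inl h)⟩⟩
  · obtain ⟨p, hp, hF⟩ := H912.Known.exists_char K
    exact Or.inl ⟨p, hp, Or.inl ⟨K, iF, iT, hF, Or.inr (Or.inr (Or.inl h))⟩⟩
  · obtain ⟨p, hp, hF⟩ := H912.Known.exists_char K
    exact Or.inl ⟨p, hp, Or.inl ⟨K, iF, iT, hF, Or.inr (Or.inr (Or.inr (Or.inl h)))⟩⟩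
  · obtain ⟨p, hp, hF⟩ := H912.Known.exists_char K
    exact Or.inl ⟨p, hp, Or.inl ⟨K, iF, iT, hF, Or.inr (Or.inr (Or.inr (Or.inr h)))⟩⟩
  · obtain ⟨p, hp, hF⟩ := H912.Known.exists_char K
    exact Or.inl ⟨p, hp, Or.inr (Or.inl ⟨K, iF, iT, hF, q, hq, Or.inl ⟨h1, h2⟩⟩)⟩
  · obtain ⟨p, hp, hF⟩ := H912.Known.exists_char K
    exact Or.inl ⟨p, hp, Or.inr (Or.inl ⟨K, iF, iT, hF, q, hq, Or.inr ⟨h1, h2⟩⟩)⟩
  · exact Or.inl ⟨2, Nat.prime_two, Or.inr (Or.inr (Or.inl ⟨rfl, h⟩))⟩
  · exact Or.inl ⟨3, Nat.prime_three, Or.inr (Or.inr (Or.inr (Or.inr ⟨rfl, h⟩)))⟩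
  · exact Or.inl ⟨2, Nat.prime_two, Or.inr (Or.inr (Or.inr (Or.inl ⟨rfl, h⟩)))⟩
  · exact Or.inr h

/-- the own characteristic part -/
def OwnExc : Prop := ∀ {Q : Type} [Group Q] [Finite Q] {A : Subgroup Q} {Γ : Subgroup (MulAut Q)} {ι : Type}
    [Fintype ι] [DecidableEq ι] {F : Type} [Field F] [Fintype F] {S P : Subgroup (GL ι F)}, Big A Γ S P →
    ∀ {r : ℕ}, r.Prime → (r : F) = 0 → H912.Five.ExcL r (socle P) → False

/-- **`BigOf IsExceptionalLieType` from the own characteristic part.** -/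
theorem exc_of_own (hg : TwoGen.{0}) (hown : OwnExc) : BigOf (fun L _ => Cfsg.IsExceptionalLieType L) := by
  intro Q _ _ A Γ ι _ _ F _ _ S P b h
  rcases excL_of h with ⟨r, hr, h⟩ | h
  · by_cases hrF : (r : F) = 0
    · exact hown b hr hrF h
    · exact exc_cross hg b hr hrF h
  · exact tits hg b h

end Cfsg.Agent.H648.EPV
end

-- part: H855/EP/AsmExc
section
/-!
# S3499, assembly: socle of exceptional Lie type in dimension at least 13 (helper855, task 6287)

* `ExcOver L K` : the ten exceptional families over the field `K` (without the Tits group);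
* `ExcLeft L K` : the families over a field with root groups of order two, and `Sz`, `²G₂`, `²F₄`;
* `left_of_big` : `Big A Γ S P`, `char F = char K`, `ExcOver (socle P) K` : `ExcLeft (socle P) K` (`own_big`, helper470);
* `LeftKill` : the remaining own characteristic rows;
* `bigOf_exceptional_of` : `BigOf IsExceptionalLieType` from `LeftKill`; the cross characteristic and the Tits group are
  helper648's `H648/EPV/Exc`.
-/

set_option autoImplicit false

namespace Cfsg.Agent.H855.EP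

open Subgroup Cfsg.Agent.H284 Cfsg.Agent.H419.EP Cfsg.Agent.H284.Pan

/-- The exceptional families over the field `K`, without the Tits group. -/
inductive ExcOver (L : Type) [Group L] (K : Type) [Field K] [Fintype K] : Prop
  | g2 (h3 : 3 ≤ Fintype.card K) (e : Nonempty (L ≃* Cfsg.Lie.chevG2.group K)) : ExcOver L K
  | f4 (e : Nonempty (L ≃* Cfsg.Lie.chevF4.group K)) : ExcOver L K
  | e6 (e : Nonempty (L ≃* Cfsg.Lie.chevE6.group K)) : ExcOver L K
  | e7 (e : Nonempty (L ≃* Cfsg.Lie.chevE7.group K)) : ExcOver L K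
  | e8 (e : Nonempty (L ≃* Cfsg.Lie.chevE8.group K)) : ExcOver L K
  | te6 (q : ℕ) (hq : IsPrimePow q) (hK : Fintype.card K = q ^ 2) (e : Nonempty (L ≃* Cfsg.Lie.twistedE6 K q)) :
      ExcOver L K
  | td4 (q : ℕ) (hq : IsPrimePow q) (hK : Fintype.card K = q ^ 3) (e : Nonempty (L ≃* Cfsg.Lie.twistedD4 K q)) :
      ExcOver L K
  | sz (l : ℕ) (hl : 1 ≤ l) (hK : Fintype.card K = 2 ^ (2 * l + 1))
      (e : Nonempty (L ≃* Cfsg.Lie.Sz K (2 ^ (l + 1)))) : ExcOver L K
  | ree (l : ℕ) (hl : 1 ≤ l) (hK : Fintype.card K = 3 ^ (2 * l + 1))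
      (e : Nonempty (L ≃* Cfsg.Lie.twistedG2 K (3 ^ l))) : ExcOver L K
  | tf4 (l : ℕ) (hl : 1 ≤ l) (hK : Fintype.card K = 2 ^ (2 * l + 1))
      (e : Nonempty (L ≃* Cfsg.Lie.twistedF4 K (2 ^ l))) : ExcOver L K

/-- The families which are not covered by `own_big`. -/
inductive ExcLeft (L : Type) [Group L] (K : Type) [Field K] [Fintype K] : Prop
  | f4 (hK : Fintype.card K = 2) (e : Nonempty (L ≃* Cfsg.Lie.chevF4.group K)) : ExcLeft L K
  | e6 (hK : Fintype.card K = 2) (e : Nonempty (L ≃* Cfsg.Lie.chevE6.group K)) : ExcLeft L K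
  | e7 (hK : Fintype.card K = 2) (e : Nonempty (L ≃* Cfsg.Lie.chevE7.group K)) : ExcLeft L K
  | e8 (hK : Fintype.card K = 2) (e : Nonempty (L ≃* Cfsg.Lie.chevE8.group K)) : ExcLeft L K
  | te6 (hK : Fintype.card K = 2 ^ 2) (e : Nonempty (L ≃* Cfsg.Lie.twistedE6 K 2)) : ExcLeft L K
  | td4 (hK : Fintype.card K = 2 ^ 3) (e : Nonempty (L ≃* Cfsg.Lie.twistedD4 K 2)) : ExcLeft L K
  | sz (l : ℕ) (hl : 1 ≤ l) (hK : Fintype.card K = 2 ^ (2 * l + 1))
      (e : Nonempty (L ≃* Cfsg.Lie.Sz K (2 ^ (l + 1)))) : ExcLeft L K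
  | ree (l : ℕ) (hl : 1 ≤ l) (hK : Fintype.card K = 3 ^ (2 * l + 1))
      (e : Nonempty (L ≃* Cfsg.Lie.twistedG2 K (3 ^ l))) : ExcLeft L K
  | tf4 (l : ℕ) (hl : 1 ≤ l) (hK : Fintype.card K = 2 ^ (2 * l + 1))
      (e : Nonempty (L ≃* Cfsg.Lie.twistedF4 K (2 ^ l))) : ExcLeft L K

theorem ringChar_of_card {K : Type} [Field K] [Fintype K] {p k : ℕ} (hp : p.Prime) (hK : Fintype.card K = p ^ k) :
    ringChar K = p := by
  obtain ⟨n, hr, hn⟩ := FiniteField.card K (ringChar K)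
  have h1 : ringChar K ∣ p ^ k := by
    rw [← hK, hn]
    exact dvd_pow_self _ n.pos.ne'
  exact (Nat.prime_dvd_prime_iff_eq hr hp).1 (hr.dvd_of_dvd_pow h1)

/-- `H912.Five.ExcL r L` gives `ExcOver L K` with a field `K` of characteristic `r`. -/
theorem exists_over {r : ℕ} {L : Type} [Group L] (h : Cfsg.Agent.H912.Five.ExcL r L) :
    ∃ (K : Type) (_ : Field K) (_ : Fintype K), ringChar K = r ∧ ExcOver L K := by
  rcases h with ⟨K, f, i, hc, h⟩ | ⟨K, f, i, hc, q, hq, h⟩ | ⟨rfl, K, f, i, l, hl, hK, e⟩ |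
    ⟨rfl, K, f, i, l, hl, hK, e⟩ | ⟨rfl, K, f, i, l, hl, hK, e⟩
  · refine ⟨K, f, i, ringChar.eq K r ▸ rfl, ?_⟩
    rcases h with ⟨h3, e⟩ | e | e | e | e
    · exact ExcOver.g2 h3 e
    · exact ExcOver.f4 e
    · exact ExcOver.e6 e
    · exact ExcOver.e7 e
    · exact ExcOver.e8 e
  · refine ⟨K, f, i, ringChar.eq K r ▸ rfl, ?_⟩
    rcases h with ⟨hK, e⟩ | ⟨hK, e⟩
    · exact ExcOver.te6 q hq hK e
    · exact ExcOver.td4 q hq hK e
  · exact ⟨K, f, i, ringChar_of_card Nat.prime_two hK, ExcOver.sz l hl hK e⟩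
  · exact ⟨K, f, i, ringChar_of_card Nat.prime_two hK, ExcOver.tf4 l hl hK e⟩
  · exact ⟨K, f, i, ringChar_of_card Nat.prime_three hK, ExcOver.ree l hl hK e⟩

section

variable {Q : Type} [Group Q] [Finite Q] {A : Subgroup Q} {Γ : Subgroup (MulAut Q)} {ι : Type} [Fintype ι]
    [DecidableEq ι] {F : Type} [Field F] [Fintype F] {S P : Subgroup (GL ι F)}

/-- Own characteristic: all simple root groups of order at least three is impossible (`own_big`). -/
theorem left_of_big (b : Big A Γ S P) (K : Type) [Field K] [Fintype K] (hc : ringChar F = ringChar K)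
    (h : ExcOver (socle P) K) : ExcLeft (socle P) K := by
  have hch : CharP K (ringChar F) := by
    rw [hc]
    exact ringChar.charP K
  have key : ∀ {D : Cfsg.Lie.ChevalleyDatum} {l : ℕ} {M : CoxeterMatrix (Fin l)}, 2 ≤ l →
      Cfsg.Agent.Nodes.RGDChev.IsType D l M → socle P ≃* D.group K → Fintype.card K = 2 := by
    intro D l M hl ht e
    by_contra hne
    have h2 : 1 < Fintype.card K := Fintype.one_lt_card
    refine Cfsg.Agent.H470.EPO.own_big b hl e ((filtC_group ht K (ringChar F)).mono ?_)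
    rw [Nat.card_eq_fintype_card]
    omega
  rcases h with ⟨h3, ⟨e⟩⟩ | ⟨⟨e⟩⟩ | ⟨⟨e⟩⟩ | ⟨⟨e⟩⟩ | ⟨⟨e⟩⟩ | ⟨q, hq, hK, ⟨e⟩⟩ | ⟨q, hq, hK, ⟨e⟩⟩ | ⟨l, hl, hK, e⟩ |
    ⟨l, hl, hK, e⟩ | ⟨l, hl, hK, e⟩
  · have := key le_rfl Cfsg.Agent.H64.CrossChev.isType_G2 e
    omega
  · exact ExcLeft.f4 (key (by norm_num) Cfsg.Agent.H64.CrossChev.isType_F4 e) ⟨e⟩
  · exact ExcLeft.e6 (key (by norm_num) Cfsg.Agent.H64.CrossChev.isType_E6 e) ⟨e⟩
  · exact ExcLeft.e7 (key (by norm_num) Cfsg.Agent.H64.CrossChev.isType_E7 e) ⟨e⟩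
  · exact ExcLeft.e8 (key (by norm_num) Cfsg.Agent.H64.CrossChev.isType_E8 e) ⟨e⟩
  · rcases Nat.lt_or_ge q 3 with h3 | h3
    · have h2 := hq.one_lt
      obtain rfl : q = 2 := by omega
      exact ExcLeft.te6 hK ⟨e⟩
    · exact (Cfsg.Agent.H470.EPO.own_big b (by norm_num) e ((filtC_twE6 hq hK (ringChar F)).mono h3)).elim
  · rcases Nat.lt_or_ge q 3 with h3 | h3
    · have h2 := hq.one_lt
      obtain rfl : q = 2 := by omega
      exact ExcLeft.td4 hK ⟨e⟩
    · exact (Cfsg.Agent.H470.EPO.own_big b (by norm_num) e ((filtC_twD4 hq hK (ringChar F)).mono h3)).elim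
  · exact ExcLeft.sz l hl hK e
  · exact ExcLeft.ree l hl hK e
  · exact ExcLeft.tf4 l hl hK e

end

/-- The remaining rows: own characteristic, root groups of order two or one of the families `Sz`, `²G₂`, `²F₄`. -/
def LeftKill : Prop := ∀ {Q : Type} [Group Q] [Finite Q] {A : Subgroup Q}
    {Γ : Subgroup (MulAut Q)} {ι : Type} [Fintype ι] [DecidableEq ι] {F : Type} [Field F] [Fintype F]
    {S P : Subgroup (GL ι F)}, Big A Γ S P → ∀ (K : Type) [Field K] [Fintype K], ringChar F = ringChar K →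
    ExcLeft (socle P) K → False

/-- **The own characteristic part.** -/
theorem ownExc_of (own : LeftKill) : Cfsg.Agent.H648.EPV.OwnExc := by
  intro Q _ _ A Γ ι _ _ F _ _ S P b r hr hrF h
  obtain ⟨K, _, _, hK, h⟩ := exists_over h
  have hc : ringChar F = ringChar K := by
    rw [hK]
    exact (ringChar.eq_iff.2 ((CharP.charP_iff_prime_eq_zero hr).2 hrF)).symm ▸ rfl
  exact own b K hc (left_of_big b K hc h)

/-- **The part of `BigTarget` for the socles of exceptional Lie type.** -/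
theorem bigOf_exceptional_of (hg : Cfsg.Agent.H59.EP.TwoGen.{0}) (own : LeftKill) :
    BigOf (fun L _ => Cfsg.IsExceptionalLieType L) :=
  Cfsg.Agent.H648.EPV.exc_of_own hg (ownExc_of own)

end Cfsg.Agent.H855.EP
end
end
end
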